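import Mathlib
import Cfsg.Agent.H916.RG.Pair_m3
import Cfsg.Agent.LieClassical.SLGen
import Cfsg.Agent.S2690
import Cfsg.Agent.FastGrp
import Cfsg.Agent.Prune
set_option linter.all false

section
prune_inst 0x7f00000000000000000000000000000000000000000000000000000000000000000000000000000000000000000000000000000000000000000000000000000000000000000000000000000000000000003fffffffffffffffffffffffffffbeffbdffffffff

-- part: H106/RC/Descent
section
set_option linter.all false
open scoped Cfsg.Agent.FastGrp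

/-!
# Galois descent for semilinear maps over finite fields
-/

set_option autoImplicit false

namespace Cfsg.Agent.H106.RC

open Module

section

variable {F : Type*} [Field F]

/-- the iterates of a field automorphism of order `r` are linearly independent -/
theorem sigma_indep (σ : F ≃+* F) (r : ℕ) (hσ : orderOf σ = r) (f : Fin r → F)
    (h : ∀ a : F, ∑ i : Fin r, (σ ^ (i : ℕ)) a * f i = 0) : ∀ i, f i = 0 := by
  classical
  let φ : Fin r → (F →* F) := fun i => ((σ ^ (i : ℕ) : F ≃+* F) : F →* F)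
  have hinj : Function.Injective φ := by
    intro i j hij
    have h1 : σ ^ (i : ℕ) = σ ^ (j : ℕ) := by
      ext a
      exact congrArg (fun g : F →* F => g a) hij
    have h2 := pow_eq_pow_iff_modEq.1 h1
    rw [hσ] at h2
    have h3 : (i : ℕ) = j := Nat.ModEq.eq_of_lt_of_lt h2 i.2 j.2
    exact Fin.ext h3
  have hli := (linearIndependent_monoidHom F F).comp φ hinj
  rw [Fintype.linearIndependent_iff] at hli
  intro i
  apply hli f _ i
  ext a
  have := h a
  simp only [Finset.sum_apply, Pi.smul_apply, smul_eq_mul, Function.comp_apply, Pi.zero_apply]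
  rw [← this]
  apply Finset.sum_congr rfl
  intro j _
  rw [mul_comm]
  rfl

/-- norms are onto the fixed field -/
theorem norm_exists [Finite F] (σ : F ≃+* F) (r : ℕ) (hσ : orderOf σ = r) (c : F)
    (hc : σ c = c) : ∃ a : F, ∏ i ∈ Finset.range r, (σ ^ i) a = c := by
  classical
  let Gm := Subgroup.zpowers σ
  have : Finite (F ≃+* F) := Finite.of_injective (fun e : F ≃+* F => (e : F → F)) DFunLike.coe_injective
  have : Fintype Gm := Fintype.ofFinite _
  have hcm : c ∈ FixedPoints.subfield Gm F := by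
    rintro ⟨g, hg⟩
    obtain ⟨k, rfl⟩ := Subgroup.mem_zpowers_iff.1 hg
    show (σ ^ k) c = c
    have hst : σ ∈ MulAction.stabilizer (F ≃+* F) c := hc
    exact (MulAction.stabilizer (F ≃+* F) c).zpow_mem hst k
  obtain ⟨a, ha⟩ := FiniteField.norm_surjective (FixedPoints.subfield Gm F) F ⟨c, hcm⟩
  refine ⟨a, ?_⟩
  have h1 := Algebra.norm_eq_prod_automorphisms (FixedPoints.subfield Gm F) a
  rw [ha] at h1
  have h2 : algebraMap (FixedPoints.subfield Gm F) F ⟨c, hcm⟩ = c := rfl
  rw [h2] at h1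
  rw [h1]
  rw [← Equiv.prod_comp (FixedPoints.toAlgAutMulEquiv Gm F).toEquiv (fun g => g a)]
  have hfo : IsOfFinOrder σ := isOfFinOrder_of_finite σ
  rw [← Equiv.prod_comp (finEquivZPowers hfo) (fun g : Gm => ((FixedPoints.toAlgAutMulEquiv Gm F).toEquiv g) a)]
  rw [Finset.prod_range, ← hσ]
  apply Finset.prod_congr rfl
  intro i _
  rfl

variable {V : Type*} [AddCommGroup V] [Module F V]

/-- descent for a semilinear map with `y ^ r = 1` -/
theorem descent_one [FiniteDimensional F V] (σ : F ≃+* F) (r : ℕ) (hr : 0 < r)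
    (hσ : orderOf σ = r) (y : V → V) (hadd : ∀ v w, y (v + w) = y v + y w)
    (hy : ∀ (a : F) v, y (a • v) = σ a • y v) (hyr : ∀ v, y^[r] v = v) :
    ∃ b : Basis (Fin (finrank F V)) F V, ∀ i, y (b i) = b i := by
  classical
  have h0 : y 0 = 0 := by
    have := hadd 0 0
    rw [add_zero] at this
    exact (left_eq_add (a := y 0)).1 this
  have hsum : ∀ (n : ℕ) (f : ℕ → V), y (∑ i ∈ Finset.range n, f i) = ∑ i ∈ Finset.range n, y (f i) := by
    intro n f
    induction n with
    | zero => simpa using h0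
    | succ n ih => rw [Finset.sum_range_succ, Finset.sum_range_succ, hadd, ih]
  have hit : ∀ (n : ℕ) (a : F) (v : V), y^[n] (a • v) = (σ ^ n) a • y^[n] v := by
    intro n
    induction n with
    | zero => intro a v; simp
    | succ n ih =>
      intro a v
      rw [Function.iterate_succ_apply', ih, hy, Function.iterate_succ_apply', pow_succ']
      rfl
  -- the traces are fixed
  have htr : ∀ v, y (∑ i ∈ Finset.range r, y^[i] v) = ∑ i ∈ Finset.range r, y^[i] v := by
    intro v
    rw [hsum]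
    have h1 : ∀ i, y (y^[i] v) = y^[i + 1] v := fun i => (Function.iterate_succ_apply' y i v).symm
    simp only [h1]
    have h2 := Finset.sum_range_succ' (fun i => y^[i] v) r
    have h3 := Finset.sum_range_succ (fun i => y^[i] v) r
    rw [h3] at h2
    rw [hyr v, Function.iterate_zero, id] at h2
    exact (add_right_cancel h2).symm
  let V0 : Set V := {v | y v = v}
  have hspan : Submodule.span F V0 = ⊤ := by
    by_contra hne
    have hlt : Submodule.span F V0 < ⊤ := lt_top_iff_ne_top.2 hne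
    obtain ⟨f, hf, hf2⟩ := Submodule.exists_le_ker_of_lt_top _ hlt
    apply hf
    ext v
    have key : ∀ a : F, ∑ i : Fin r, (σ ^ (i : ℕ)) a * f (y^[(i : ℕ)] v) = 0 := by
      intro a
      have h1 : (∑ i ∈ Finset.range r, y^[i] (a • v)) ∈ V0 := htr (a • v)
      have h2 := hf2 (Submodule.subset_span h1)
      rw [LinearMap.mem_ker, map_sum] at h2
      rw [← Fin.sum_univ_eq_sum_range (fun i => f (y^[i] (a • v)))] at h2
      rw [← h2]
      apply Finset.sum_congr rfl
      intro i _
      rw [hit, map_smul, smul_eq_mul]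
    have := sigma_indep σ r hσ (fun i => f (y^[(i : ℕ)] v)) key ⟨0, hr⟩
    simpa using this
  obtain ⟨s, hs1, hs2, hs3⟩ := exists_linearIndependent F V0
  rw [hspan] at hs2
  let b0 : Basis s F V := Basis.mk hs3 (by rw [Subtype.range_coe, hs2])
  have hfin : Finite s := Module.Finite.finite_basis b0
  have : Fintype s := Fintype.ofFinite s
  have hcard : Fintype.card s = finrank F V := (Module.finrank_eq_card_basis b0).symm
  let e : s ≃ Fin (finrank F V) := (Fintype.equivFin s).trans (finCongr hcard)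
  refine ⟨b0.reindex e, ?_⟩
  intro i
  rw [Basis.reindex_apply]
  have : b0 (e.symm i) = ((e.symm i : s) : V) := by
    simp [b0]
  rw [this]
  exact hs1 (e.symm i).2

/-- descent for a semilinear map with `x ^ r` scalar -/
theorem descent [Finite F] [FiniteDimensional F V] (σ : F ≃+* F) (r : ℕ) (hr : 0 < r)
    (hσ : orderOf σ = r) (x : V ≃+ V) (hx : ∀ (a : F) v, x (a • v) = σ a • x v) (c : F)
    (hc : ∀ v, (x : V → V)^[r] v = c • v) :
    ∃ a : F, a ≠ 0 ∧ ∃ b : Basis (Fin (finrank F V)) F V, ∀ i, a • x (b i) = b i := by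
  classical
  by_cases hV : ∃ v : V, v ≠ 0
  · obtain ⟨v0, hv0⟩ := hV
    have hinj : Function.Injective ((x : V → V)^[r]) := x.injective.iterate r
    have hx0 : x 0 = 0 := map_zero x
    have hc0 : c ≠ 0 := by
      rintro rfl
      have h1 := hc v0
      rw [zero_smul] at h1
      have h2 : (x : V → V)^[r] 0 = 0 := Function.iterate_fixed hx0 r
      exact hv0 (hinj (h1.trans h2.symm))
    have hσc : σ c = c := by
      have h1 : (x : V → V)^[r + 1] v0 = c • x v0 := by
        rw [Function.iterate_succ_apply, hc]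
      have h2 : (x : V → V)^[r + 1] v0 = σ c • x v0 := by
        rw [Function.iterate_succ_apply', hc, hx]
      have h3 : (σ c - c) • x v0 = 0 := by
        rw [sub_smul, ← h1, ← h2, sub_self]
      rcases smul_eq_zero.1 h3 with h | h
      · exact sub_eq_zero.1 h
      · exact (hv0 (by simpa using h)).elim
    obtain ⟨a, ha⟩ := norm_exists σ r hσ c⁻¹ (by rw [map_inv₀, hσc])
    have ha0 : a ≠ 0 := by
      rintro rfl
      have : (∏ i ∈ Finset.range r, (σ ^ i) (0 : F)) = 0 := by
        apply Finset.prod_eq_zero (Finset.mem_range.2 hr)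
        exact map_zero _
      rw [this] at ha
      exact inv_ne_zero hc0 ha.symm
    refine ⟨a, ha0, ?_⟩
    have hit : ∀ (n : ℕ) (v : V), (fun w => a • x w)^[n] v =
        (∏ i ∈ Finset.range n, (σ ^ i) a) • (x : V → V)^[n] v := by
      intro n
      induction n with
      | zero => intro v; simp
      | succ n ih =>
        intro v
        rw [Function.iterate_succ_apply, ih, Function.iterate_succ_apply]
        have hxs : ∀ (m : ℕ) (d : F) (w : V), (x : V → V)^[m] (d • w) = (σ ^ m) d • (x : V → V)^[m] w := by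
          intro m
          induction m with
          | zero => intro d w; simp
          | succ m ihm =>
            intro d w
            rw [Function.iterate_succ_apply', ihm, hx, Function.iterate_succ_apply', pow_succ']
            rfl
        rw [hxs, smul_smul, Finset.prod_range_succ]
    apply descent_one σ r hr hσ (fun w => a • x w)
    · intro v w
      rw [map_add, smul_add]
    · intro d v
      rw [hx, smul_smul, smul_smul, mul_comm]
    · intro v
      rw [hit, ha, hc, smul_smul, inv_mul_cancel₀ hc0, one_smul]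
  · push Not at hV
    refine ⟨1, one_ne_zero, Module.finBasis F V, ?_⟩
    intro i
    rw [hV (Module.finBasis F V i)]
    simp

end

end Cfsg.Agent.H106.RC
end

-- part: H202/RC/Frame
section
set_option linter.all false
open scoped Cfsg.Agent.FastGrp

/-!
# S3510, row A (linear groups): the common setting

`SLV F V = SL(V)` (kernel of the determinant on `V ≃ₗ[F] V`), `tv φ v h` transvections `x ↦ x + φ x • v`,
`cj a s = a s a⁻¹`.  `Frame Ω N κ` : `κ : SL(V) →* G` has image `N` and kernel the scalars, `Env G Ω N`.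
`Lifts κ x f` : the additive bijection `f : V ≃+ V` (semilinear) lifts `x : G`.
`LinCov` : a minimal cover by elements with commuting linear lifts.
-/

set_option autoImplicit false
open Cfsg

namespace Cfsg.Agent.H202.RC

open MulAction Cfsg.Agent.H106.RC Module
open scoped commutatorElement

section sl

variable {F V : Type*} [Field F] [AddCommGroup V] [Module F V]

/-- `SL(V)` -/
noncomputable abbrev SLV (F V : Type*) [Field F] [AddCommGroup V] [Module F V] : Subgroup (V ≃ₗ[F] V) :=
  (LinearEquiv.det (R := F) (M := V)).ker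

theorem mem_SLV {a : V ≃ₗ[F] V} : a ∈ SLV F V ↔ LinearMap.det (a : V →ₗ[F] V) = 1 := by
  rw [MonoidHom.mem_ker, ← Units.val_inj, LinearEquiv.coe_det, Units.val_one]

/-- the transvection `x ↦ x + φ x • v` -/
noncomputable def tv (φ : Dual F V) (v : V) (h : φ v = 0) : SLV F V :=
  ⟨LinearEquiv.transvection h, LinearEquiv.transvection.det_eq_one h⟩

@[simp] theorem tv_apply (φ : Dual F V) (v : V) (h : φ v = 0) (x : V) :
    (tv φ v h : V ≃ₗ[F] V) x = x + φ x • v := LinearEquiv.transvection.apply h x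

theorem SLV.ext {s t : SLV F V} (h : ∀ v, (s : V ≃ₗ[F] V) v = (t : V ≃ₗ[F] V) v) : s = t :=
  Subtype.ext (LinearEquiv.ext h)

@[simp] theorem coe_mul_apply (s t : SLV F V) (v : V) :
    ((s * t : SLV F V) : V ≃ₗ[F] V) v = (s : V ≃ₗ[F] V) ((t : V ≃ₗ[F] V) v) := rfl

@[simp] theorem coe_one_apply (v : V) : ((1 : SLV F V) : V ≃ₗ[F] V) v = v := rfl

@[simp] theorem coe_inv_apply (s : SLV F V) (v : V) :
    ((s⁻¹ : SLV F V) : V ≃ₗ[F] V) ((s : V ≃ₗ[F] V) v) = v := (s : V ≃ₗ[F] V).symm_apply_apply v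

@[simp] theorem coe_apply_inv (s : SLV F V) (v : V) :
    (s : V ≃ₗ[F] V) (((s⁻¹ : SLV F V) : V ≃ₗ[F] V) v) = v := (s : V ≃ₗ[F] V).apply_symm_apply v

/-- conjugation of `SL(V)` by an element of `GL(V)` -/
noncomputable def cj (a : V ≃ₗ[F] V) (s : SLV F V) : SLV F V :=
  ⟨a * s * a⁻¹, (inferInstance : (SLV F V).Normal).conj_mem _ s.2 a⟩

theorem cj_coe (a : V ≃ₗ[F] V) (s : SLV F V) : (cj a s : V ≃ₗ[F] V) = a * s * a⁻¹ := rfl

@[simp] theorem cj_apply (a : V ≃ₗ[F] V) (s : SLV F V) (v : V) :
    (cj a s : V ≃ₗ[F] V) (a v) = a ((s : V ≃ₗ[F] V) v) := by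
  change a ((s : V ≃ₗ[F] V) (a⁻¹ (a v))) = _
  rw [show a⁻¹ (a v) = v from a.symm_apply_apply v]

theorem cj_eq {a : V ≃ₗ[F] V} {s t : SLV F V} (h : ∀ v, (t : V ≃ₗ[F] V) (a v) = a ((s : V ≃ₗ[F] V) v)) :
    cj a s = t := by
  apply SLV.ext
  intro v
  obtain ⟨w, rfl⟩ := a.surjective v
  rw [cj_apply, h]

@[simp] theorem cj_one (s : SLV F V) : cj 1 s = s := cj_eq fun _ => rfl

theorem cj_mul (a b : V ≃ₗ[F] V) (s : SLV F V) : cj (a * b) s = cj a (cj b s) := by
  apply Subtype.ext
  rw [cj_coe, cj_coe, cj_coe, mul_inv_rev]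
  group

theorem cj_sl (t s : SLV F V) : cj (t : V ≃ₗ[F] V) s = t * s * t⁻¹ := rfl

theorem cj_tv (a : V ≃ₗ[F] V) (φ : Dual F V) (v : V) (h : φ v = 0) :
    cj a (tv φ v h) = tv (φ ∘ₗ (a.symm : V →ₗ[F] V)) (a v) (by simpa only [_root_.LinearMap.coe_comp, _root_.LinearEquiv.coe_coe, _root_.Function.comp_apply, _root_.LinearEquiv.symm_apply_apply] using h) := by
  apply cj_eq
  intro x
  simp

theorem tv_mul_right (φ : Dual F V) (v w : V) (hv : φ v = 0) (hw : φ w = 0) :
    tv φ v hv * tv φ w hw = tv φ (v + w) (by rw [map_add, hv, hw, add_zero]) := by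
  apply SLV.ext
  intro x
  rw [coe_mul_apply, tv_apply, tv_apply, tv_apply, map_add, map_smul, hw, smul_zero, add_zero, smul_add]
  abel

theorem tv_mul_left (φ ψ : Dual F V) (v : V) (hφ : φ v = 0) (hψ : ψ v = 0) :
    tv φ v hφ * tv ψ v hψ = tv (φ + ψ) v (by simp [hφ, hψ]) := by
  apply SLV.ext
  intro x
  rw [coe_mul_apply, tv_apply, tv_apply, tv_apply, map_add, map_smul, hφ, smul_zero, add_zero,
    LinearMap.add_apply, add_smul]
  abel

theorem tv_zero_right (φ : Dual F V) : tv φ 0 (map_zero φ) = 1 := by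
  apply SLV.ext
  intro x
  simp only [_root_.Cfsg.Agent.H202.RC.tv_apply, _root_.smul_zero, _root_.add_zero, _root_.OneMemClass.coe_one, _root_.LinearEquiv.coe_one, _root_.id_eq]

theorem tv_zero_left (v : V) : tv 0 v (LinearMap.zero_apply v) = (1 : SLV F V) := by
  apply SLV.ext
  intro x
  simp only [_root_.Cfsg.Agent.H202.RC.tv_apply, _root_.LinearMap.zero_apply, _root_.zero_smul, _root_.add_zero, _root_.OneMemClass.coe_one, _root_.LinearEquiv.coe_one, _root_.id_eq]

end sl

/-! ### matrices, generation by transvections -/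

section gen

variable {F V : Type*} [Field F] [AddCommGroup V] [Module F V] {ι : Type*} [Fintype ι] [DecidableEq ι]

/-- `SL_n(F) ≃ SL(V)` from a basis -/
noncomputable def slE (b : Basis ι F V) : Matrix.SpecialLinearGroup ι F ≃* SLV F V where
  toFun A := ⟨LinearEquiv.ofLinearMap (Matrix.toLin b b A.1) (Matrix.toLin b b A⁻¹.1)
      (by rw [← Matrix.toLin_mul, ← Matrix.SpecialLinearGroup.coe_mul, mul_inv_cancel,
            Matrix.SpecialLinearGroup.coe_one, Matrix.toLin_one])
      (by rw [← Matrix.toLin_mul, ← Matrix.SpecialLinearGroup.coe_mul, inv_mul_cancel,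
            Matrix.SpecialLinearGroup.coe_one, Matrix.toLin_one]), by
      rw [mem_SLV]
      have : ((LinearEquiv.ofLinearMap (Matrix.toLin b b A.1) (Matrix.toLin b b A⁻¹.1)
        (by rw [← Matrix.toLin_mul, ← Matrix.SpecialLinearGroup.coe_mul, mul_inv_cancel,
            Matrix.SpecialLinearGroup.coe_one, Matrix.toLin_one])
        (by rw [← Matrix.toLin_mul, ← Matrix.SpecialLinearGroup.coe_mul, inv_mul_cancel,
            Matrix.SpecialLinearGroup.coe_one, Matrix.toLin_one]) : V ≃ₗ[F] V) : V →ₗ[F] V)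
          = Matrix.toLin b b A.1 := rfl
      rw [this, LinearMap.det_toLin, A.2]⟩
  invFun s := ⟨LinearMap.toMatrix b b ((s : V ≃ₗ[F] V) : V →ₗ[F] V), by
    rw [LinearMap.det_toMatrix]
    exact mem_SLV.1 s.2⟩
  left_inv A := by
    apply Subtype.ext
    exact LinearMap.toMatrix_toLin b b A.1
  right_inv s := by
    apply SLV.ext
    intro v
    change (Matrix.toLin b b (LinearMap.toMatrix b b ((s : V ≃ₗ[F] V) : V →ₗ[F] V))) v = _
    rw [Matrix.toLin_toMatrix]
    rfl
  map_mul' A B := by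
    apply SLV.ext
    intro v
    change (Matrix.toLin b b (A * B : Matrix.SpecialLinearGroup ι F).1) v = _
    rw [Matrix.SpecialLinearGroup.coe_mul, Matrix.toLin_mul b b b]
    rfl

theorem slE_apply (b : Basis ι F V) (A : Matrix.SpecialLinearGroup ι F) (v : V) :
    (slE b A : V ≃ₗ[F] V) v = Matrix.toLin b b A.1 v := rfl

theorem slE_transvection (b : Basis ι F V) {i j : ι} (hij : i ≠ j) (c : F) :
    slE b (Matrix.SpecialLinearGroup.transvection hij c) =
      tv (b.coord j) (c • b i) (by simp [Basis.coord_apply, hij]) := by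
  apply SLV.ext
  intro v
  rw [slE_apply, tv_apply]
  refine b.ext_elem fun k => ?_
  rw [Matrix.repr_toLin]
  change ((1 + Matrix.single i j c : Matrix ι ι F).mulVec (b.repr v)) k = _
  rw [Matrix.add_mulVec, Matrix.one_mulVec, Matrix.single_mulVec_eq]
  simp only [Pi.add_apply, Pi.smul_apply, Pi.single_apply, smul_eq_mul, map_add, map_smul, Basis.coord_apply,
    Basis.repr_self, Finsupp.add_apply, Finsupp.smul_apply, Finsupp.single_apply]
  by_cases h : k = i
  · subst h; simp [mul_comm]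
  · simp [h, Ne.symm h]

theorem closure_tv_basis (b : Basis ι F V) : Subgroup.closure {s : SLV F V | ∃ (i j : ι) (hij : i ≠ j) (c : F),
    s = tv (b.coord j) (c • b i) (by simp [Basis.coord_apply, hij])} = ⊤ := by
  have h1 := congrArg (Subgroup.map (slE b).toMonoidHom) (LieClassical.SLGen.closure_transvections (ι := ι) (F := F))
  rw [MonoidHom.map_closure, ← MonoidHom.range_eq_map, MonoidHom.range_eq_top.2 (slE b).surjective] at h1
  rw [← h1]
  congr 1
  ext s
  constructor
  · rintro ⟨i, j, hij, c, rfl⟩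
    exact ⟨Matrix.SpecialLinearGroup.transvection hij c, ⟨i, j, hij, c, rfl⟩, slE_transvection b hij c⟩
  · rintro ⟨_, ⟨i, j, hij, c, rfl⟩, rfl⟩
    exact ⟨i, j, hij, c, slE_transvection b hij c⟩

theorem closure_tv [Module.Finite F V] :
    Subgroup.closure {s : SLV F V | ∃ (φ : Dual F V) (v : V) (h : φ v = 0), s = tv φ v h} = ⊤ := by
  classical
  rw [eq_top_iff, ← closure_tv_basis (Module.finBasis F V), Subgroup.closure_le]
  rintro _ ⟨i, j, hij, c, rfl⟩
  exact Subgroup.subset_closure ⟨_, _, _, rfl⟩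

end gen

/-! ### unipotent radicals `Hom(V/W, W)` -/

section rad

variable {F V : Type*} [Field F] [AddCommGroup V] [Module F V]

/-- `1 + h` for `h` with square zero -/
noncomputable def uh (h : V →ₗ[F] V) (hh : ∀ v, h (h v) = 0) : SLV F V :=
  ⟨LinearEquiv.ofLinearMap (LinearMap.id + h) (LinearMap.id - h)
    (by ext v; simp [hh]) (by ext v; simp [hh]), by
      rw [mem_SLV]
      change LinearMap.det (LinearMap.id + h) = 1
      by_cases hf : Module.Finite F V
      · have h1 := LinearMap.eval_charpoly (-h) 1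
        have h2 : (-h).charpoly = Polynomial.X ^ finrank F V := by
          rw [LinearMap.charpoly_eq_X_pow_iff]
          intro m
          exact ⟨2, by rw [pow_two, Module.End.mul_apply]; simp only [hh, _root_.LinearMap.neg_apply, _root_.map_neg, _root_.neg_zero]⟩
        rw [h2, map_one] at h1
        simp only [Polynomial.eval_pow, Polynomial.eval_X, one_pow, sub_neg_eq_add] at h1
        exact h1.symm
      · exact LinearMap.det_eq_one_of_not_module_finite hf _⟩

@[simp] theorem uh_apply (h : V →ₗ[F] V) (hh : ∀ v, h (h v) = 0) (v : V) :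
    (uh h hh : V ≃ₗ[F] V) v = v + h v := rfl

/-- `Hom(V/W, W)` as a subgroup of `SL(V)` -/
def QW (W : Submodule F V) : Subgroup (SLV F V) where
  carrier := {s | (∀ v, (s : V ≃ₗ[F] V) v - v ∈ W) ∧ ∀ w ∈ W, (s : V ≃ₗ[F] V) w = w}
  one_mem' := ⟨fun v => by simp only [_root_.OneMemClass.coe_one, _root_.LinearEquiv.coe_one, _root_.id_eq, _root_.sub_self, _root_.ZeroMemClass.zero_mem], fun w _ => rfl⟩
  mul_mem' := by
    rintro s t ⟨hs, hs'⟩ ⟨ht, ht'⟩
    refine ⟨fun v => ?_, fun w hw => ?_⟩
    · rw [coe_mul_apply]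
      have h1 := hs ((t : V ≃ₗ[F] V) v)
      have h2 := W.add_mem h1 (ht v)
      simpa using h2
    · rw [coe_mul_apply, ht' w hw, hs' w hw]
  inv_mem' := by
    rintro s ⟨hs, hs'⟩
    refine ⟨fun v => ?_, fun w hw => ?_⟩
    · have h1 := hs (((s⁻¹ : SLV F V) : V ≃ₗ[F] V) v)
      rw [coe_apply_inv] at h1
      have h2 := W.neg_mem h1
      simpa using h2
    · conv_lhs => rw [← hs' w hw]
      rw [coe_inv_apply]

theorem uh_mem_QW {W : Submodule F V} {h : V →ₗ[F] V} (hh : ∀ v, h (h v) = 0) (h1 : ∀ v, h v ∈ W)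
    (h2 : ∀ w ∈ W, h w = 0) : uh h hh ∈ QW W := by
  refine ⟨fun v => ?_, fun w hw => ?_⟩
  · rw [uh_apply, add_sub_cancel_left]; exact h1 v
  · rw [uh_apply, h2 w hw, add_zero]

theorem exists_uh {W : Submodule F V} {s : SLV F V} (hs : s ∈ QW W) :
    ∃ (h : V →ₗ[F] V) (hh : ∀ v, h (h v) = 0), (∀ v, h v ∈ W) ∧ (∀ w ∈ W, h w = 0) ∧ s = uh h hh := by
  let h : V →ₗ[F] V := ((s : V ≃ₗ[F] V) : V →ₗ[F] V) - LinearMap.id
  have h0 : ∀ v, h v = (s : V ≃ₗ[F] V) v - v := fun v => rfl
  have h1 : ∀ v, h v ∈ W := fun v => by rw [h0]; exact hs.1 v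
  have h2 : ∀ w ∈ W, h w = 0 := fun w hw => by rw [h0, hs.2 w hw, sub_self]
  refine ⟨h, fun v => h2 _ (h1 v), h1, h2, ?_⟩
  apply SLV.ext
  intro v
  rw [uh_apply, h0, add_sub_cancel]

theorem QW_comm {W : Submodule F V} {s t : SLV F V} (hs : s ∈ QW W) (ht : t ∈ QW W) : s * t = t * s := by
  obtain ⟨h, hh, h1, h2, rfl⟩ := exists_uh hs
  obtain ⟨k, hk, k1, k2, rfl⟩ := exists_uh ht
  apply SLV.ext
  intro v
  simp only [coe_mul_apply, uh_apply, map_add, h2 _ (k1 v), k2 _ (h1 v)]
  abel

theorem QW_pow {p : ℕ} [CharP F p] {W : Submodule F V} {s : SLV F V} (hs : s ∈ QW W) : s ^ p = 1 := by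
  have key : ∀ n : ℕ, ∀ v, ((s ^ n : SLV F V) : V ≃ₗ[F] V) v = v + n • ((s : V ≃ₗ[F] V) v - v) := by
    intro n
    induction n with
    | zero => intro v; simp only [_root_.pow_zero, _root_.OneMemClass.coe_one, _root_.LinearEquiv.coe_one, _root_.id_eq, _root_.zero_nsmul, _root_.add_zero]
    | succ n ih =>
      intro v
      rw [pow_succ, coe_mul_apply, ih]
      have h1 : (s : V ≃ₗ[F] V) ((s : V ≃ₗ[F] V) v) - (s : V ≃ₗ[F] V) v = (s : V ≃ₗ[F] V) v - v := by
        have h2 := hs.2 _ (hs.1 v)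
        rwa [map_sub] at h2
      rw [h1, succ_nsmul]
      abel
  apply SLV.ext
  intro v
  rw [key, coe_one_apply, ← Nat.cast_smul_eq_nsmul F, CharP.cast_eq_zero, zero_smul, add_zero]

end rad

/-! ### frames -/

section frame

variable {F V G Ω : Type} [Field F] [AddCommGroup V] [Module F V] [Group G] [MulAction G Ω]

/-- the environment together with the description of `N` as `SL(V)` modulo scalars -/
structure Frame (Ω : Type) {F V G : Type} [Field F] [AddCommGroup V] [Module F V] [Group G] [MulAction G Ω]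
    (N : Subgroup G) (κ : SLV F V →* G) : Prop where
  env : Env G Ω N
  range : κ.range = N
  ker : ∀ s : SLV F V, κ s = 1 ↔ ∃ c : F, ∀ v : V, (s : V ≃ₗ[F] V) v = c • v

/-- `f` lifts `x` -/
def Lifts (κ : SLV F V →* G) (x : G) (f : V ≃+ V) : Prop :=
  ∀ s s' : SLV F V, (∀ v, (s' : V ≃ₗ[F] V) (f v) = f ((s : V ≃ₗ[F] V) v)) → x * κ s * x⁻¹ = κ s'

theorem lifts_lin {κ : SLV F V →* G} {x : G} {a : V ≃ₗ[F] V} :
    Lifts κ x a.toAddEquiv ↔ ∀ s : SLV F V, x * κ s * x⁻¹ = κ (cj a s) := by
  constructor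
  · intro h s
    exact h s _ fun v => cj_apply a s v
  · intro h s s' hs
    rw [h]
    congr 1
    exact cj_eq hs

/-- a minimal cover of `Ω` by elements `x i` of pairwise different prime orders `r i` with commuting linear lifts `a i` -/
structure LinCov (Ω : Type) {F V G ι : Type} [Field F] [AddCommGroup V] [Module F V] [Group G] [MulAction G Ω]
    (N : Subgroup G) (κ : SLV F V →* G) (x : ι → G) (r : ι → ℕ) (a : ι → V ≃ₗ[F] V) : Prop where
  fr : Frame Ω N κ
  pf : PF x r
  cov : Cov Ω x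
  min : CovMin Ω x
  lift : ∀ (i : ι) (s : SLV F V), x i * κ s * (x i)⁻¹ = κ (cj (a i) s)
  comm : ∀ i j, a i * a j = a j * a i

end frame

end Cfsg.Agent.H202.RC

private theorem dce_463833cbd8a7 : _root_.True := by
  try have : _root_.True := by simp only [_root_.Cfsg.Agent.H202.RC.uh.congr_simp]
  try have : _root_.True := by simp only [_root_.Cfsg.Agent.H202.RC.tv.congr_simp]
  exact _root_.True.intro
end

-- part: H233/RC/RedA
section
prune_inst 0xfdecfbbbf8fbffffff7fffa7decffdfdbbbfffe6fffdcbffe469ff8bff4b0acdc7abbd8ff812fe1ff7631494fa7b53fffffeffe26bfe7ffffd5ff45ffbff9ffdf7bd08519e88b41fbc2fffe3f07f8e7f000000000000000000000000000000000200000000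
set_option linter.all false
open scoped Cfsg.Agent.FastGrp

/-!
# S3510, row A, box RED: from `PSL_n(F)` to the vector space frame

* `kap e : SL(V) →* G`, `frame_of_iso`, `lift_or_dual` (semilinear lift or duality lift of every `x : G`);
* calculus of semilinear lifts: `scj`, `lifts_mul`, `lifts_inv`, `lift_unique`, `pow_scalar`, `comm_scalar`;
* `SemiCov`; `SemiCov.linCov` (all lifts linear), `SemiCov.field` (standard field automorphism, commuting lifts);
* `red_A`, `red_A_split`: `RCe` for all `g ∈ gammaPSL n F`; `gamma_index`: the index is at most two.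
-/

set_option autoImplicit false
set_option linter.unusedSectionVars false
open Cfsg

namespace Cfsg.Agent.H233.RC

open MulAction Cfsg.Agent.H106.RC Cfsg.Agent.H202.RC Module
open scoped commutatorElement

section kappa

variable {F G Ω : Type} [Field F] [Group G] [MulAction G Ω] {n : ℕ}

/-- the map `SL(V) → G` attached to an isomorphism `N ≃ PSL_n(F)` -/
noncomputable def kap {N : Subgroup G} (e : N ≃* Matrix.ProjectiveSpecialLinearGroup (Fin n) F) :
    SLV F (Fin n → F) →* G :=
  N.subtype.comp (e.symm.toMonoidHom.comp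
    ((QuotientGroup.mk' (Subgroup.center (Matrix.SpecialLinearGroup (Fin n) F))).comp
      (slE (Pi.basisFun F (Fin n))).symm.toMonoidHom))

theorem kap_slE {N : Subgroup G} (e : N ≃* Matrix.ProjectiveSpecialLinearGroup (Fin n) F)
    (A : Matrix.SpecialLinearGroup (Fin n) F) :
    kap e (slE (Pi.basisFun F (Fin n)) A) = (e.symm (QuotientGroup.mk A) : G) := by
  simp only [kap, _root_.Cfsg.Agent.H233.RC.kap, _root_.MulEquiv.toMonoidHom_eq_coe, _root_.MonoidHom.coe_comp, _root_.Subgroup.coe_subtype, _root_.MonoidHom.coe_coe, _root_.QuotientGroup.coe_mk', _root_.Function.comp_apply, _root_.MulEquiv.symm_apply_apply]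

theorem slE_std (A : Matrix.SpecialLinearGroup (Fin n) F) (v : Fin n → F) :
    (slE (Pi.basisFun F (Fin n)) A : (Fin n → F) ≃ₗ[F] (Fin n → F)) v = A.1.mulVec v := by
  rw [slE_apply, Matrix.toLin_eq_toLin', Matrix.toLin'_apply]

theorem frame_of_iso {N : Subgroup G} (hE : Env G Ω N)
    (e : N ≃* Matrix.ProjectiveSpecialLinearGroup (Fin n) F) : Frame Ω N (kap e) where
  env := hE
  range := by
    apply le_antisymm
    · rintro _ ⟨s, rfl⟩
      exact SetLike.coe_mem _
    · intro g hg
      obtain ⟨A, hA⟩ := QuotientGroup.mk_surjective (e ⟨g, hg⟩)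
      refine ⟨slE (Pi.basisFun F (Fin n)) A, ?_⟩
      rw [kap_slE, hA, MulEquiv.symm_apply_apply]
  ker := by
    intro s
    obtain ⟨A, rfl⟩ := (slE (Pi.basisFun F (Fin n))).surjective s
    rw [kap_slE]
    have h1 : ((e.symm (QuotientGroup.mk A) : N) : G) = 1 ↔
        A ∈ Subgroup.center (Matrix.SpecialLinearGroup (Fin n) F) := by
      rw [← QuotientGroup.eq_one_iff, ← e.symm.map_eq_one_iff]
      exact OneMemClass.coe_eq_one
    rw [h1, Matrix.SpecialLinearGroup.mem_center_iff]
    constructor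
    · rintro ⟨r, -, hr⟩
      refine ⟨r, fun v => ?_⟩
      rw [slE_std]
      have h2 : A.1 = Matrix.scalar (Fin n) r := hr.symm
      rw [h2, Matrix.scalar_apply, ← Matrix.smul_one_eq_diagonal, Matrix.smul_mulVec, Matrix.one_mulVec]
    · rintro ⟨c, hc⟩
      have h3 : Matrix.scalar (Fin n) c = A.1 := by
        apply Matrix.toLin'.injective
        apply LinearMap.ext
        intro v
        rw [Matrix.toLin'_apply, Matrix.toLin'_apply, ← slE_std, hc, Matrix.scalar_apply,
          ← Matrix.smul_one_eq_diagonal, Matrix.smul_mulVec, Matrix.one_mulVec]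
      refine ⟨c, ?_, h3⟩
      have h4 := congrArg Matrix.det h3
      rw [A.2, Matrix.scalar_apply, Matrix.det_diagonal, Finset.prod_const, Finset.card_univ] at h4
      exact h4

end kappa

section lifts

variable {F G Ω : Type} [Field F] [Group G] [MulAction G Ω] {n : ℕ}

/-- the semilinear map `v ↦ A σ(v)` -/
noncomputable def semiMap (A : GL (Fin n) F) (σ : F ≃+* F) : (Fin n → F) ≃+ (Fin n → F) where
  toFun v := (A : Matrix (Fin n) (Fin n) F).mulVec (fun i => σ (v i))
  invFun w := fun i => σ.symm (((A⁻¹ : GL (Fin n) F) : Matrix (Fin n) (Fin n) F).mulVec w i)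
  left_inv v := by
    funext i
    simp only
    rw [Matrix.mulVec_mulVec, ← Units.val_mul, inv_mul_cancel, Units.val_one, Matrix.one_mulVec,
      RingEquiv.symm_apply_apply]
  right_inv w := by
    simp only [RingEquiv.apply_symm_apply]
    rw [Matrix.mulVec_mulVec, ← Units.val_mul, mul_inv_cancel, Units.val_one, Matrix.one_mulVec]
  map_add' v w := by
    rw [← Matrix.mulVec_add]
    congr 1
    funext i
    simp

theorem semiMap_apply (A : GL (Fin n) F) (σ : F ≃+* F) (v : Fin n → F) :
    semiMap A σ v = (A : Matrix (Fin n) (Fin n) F).mulVec (fun i => σ (v i)) := rfl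

theorem semiMap_smul (A : GL (Fin n) F) (σ : F ≃+* F) (c : F) (v : Fin n → F) :
    semiMap A σ (c • v) = σ c • semiMap A σ v := by
  rw [semiMap_apply, semiMap_apply, ← Matrix.mulVec_smul]
  congr 1
  funext i
  simp

/-- a sesquilinear form on `V`, semilinear in the first variable, nondegenerate -/
structure Sesq (F : Type) {V : Type} [Field F] [AddCommGroup V] [Module F V] (β : V → V → F) : Prop where
  add_left : ∀ u v w, β (u + v) w = β u w + β v w
  add_right : ∀ u v w, β u (v + w) = β u v + β u w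
  smul_right : ∀ (c : F) v w, β v (c • w) = c * β v w
  semi : ∃ σ : F ≃+* F, ∀ (c : F) v w, β (c • v) w = σ c * β v w
  left : ∀ v, (∀ w, β v w = 0) → v = 0
  right : ∀ w, (∀ v, β v w = 0) → w = 0

end lifts

section scj

variable {F V : Type} [Field F] [AddCommGroup V] [Module F V]

/-- `f` is `σ`-semilinear -/
def SL (σ : F ≃+* F) (f : V ≃+ V) : Prop := ∀ (c : F) (v : V), f (c • v) = σ c • f v

theorem SL.symm {σ : F ≃+* F} {f : V ≃+ V} (h : SL σ f) : SL σ.symm f.symm := by
  intro c v
  apply f.injective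
  rw [f.apply_symm_apply, h, f.apply_symm_apply, σ.apply_symm_apply]

theorem SL.trans {σ τ : F ≃+* F} {f g : V ≃+ V} (hf : SL σ f) (hg : SL τ g) : SL (τ.trans σ) (g.trans f) := by
  intro c v
  rw [AddEquiv.trans_apply, AddEquiv.trans_apply, hg, hf]
  rfl

/-- conjugation of a linear bijection by a semilinear one -/
noncomputable def conjL {σ : F ≃+* F} {f : V ≃+ V} (h : SL σ f) (s : V ≃ₗ[F] V) : V ≃ₗ[F] V where
  toFun v := f (s (f.symm v))
  invFun v := f (s.symm (f.symm v))
  left_inv v := by simp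
  right_inv v := by simp
  map_add' v w := by simp only [_root_.map_add]
  map_smul' c v := by
    rw [h.symm, map_smul, h, σ.apply_symm_apply]
    rfl

theorem conjL_apply {σ : F ≃+* F} {f : V ≃+ V} (h : SL σ f) (s : V ≃ₗ[F] V) (v : V) :
    conjL h s v = f (s (f.symm v)) := rfl

theorem conjL_mul {σ : F ≃+* F} {f : V ≃+ V} (h : SL σ f) (s t : V ≃ₗ[F] V) :
    conjL h (s * t) = conjL h s * conjL h t := by
  apply LinearEquiv.ext
  intro v
  simp [conjL_apply, LinearEquiv.mul_apply]

theorem conjL_one {σ : F ≃+* F} {f : V ≃+ V} (h : SL σ f) : conjL h (1 : V ≃ₗ[F] V) = 1 := by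
  apply LinearEquiv.ext
  intro v
  simp [conjL_apply]

/-- the form `σ ∘ φ ∘ f⁻¹` -/
noncomputable def conjD {σ : F ≃+* F} {f : V ≃+ V} (h : SL σ f) (φ : Dual F V) : Dual F V where
  toFun v := σ (φ (f.symm v))
  map_add' v w := by simp only [_root_.map_add]
  map_smul' c v := by
    rw [h.symm, map_smul, smul_eq_mul, map_mul, σ.apply_symm_apply]
    rfl

theorem conjD_apply {σ : F ≃+* F} {f : V ≃+ V} (h : SL σ f) (φ : Dual F V) (v : V) :
    conjD h φ v = σ (φ (f.symm v)) := rfl

theorem conjL_tv {σ : F ≃+* F} {f : V ≃+ V} (h : SL σ f) (φ : Dual F V) (w : V) (hw : φ w = 0) :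
    conjL h (tv φ w hw : V ≃ₗ[F] V) = (tv (conjD h φ) (f w) (by
      rw [conjD_apply, f.symm_apply_apply, hw, map_zero]) : V ≃ₗ[F] V) := by
  apply LinearEquiv.ext
  intro v
  rw [conjL_apply, tv_apply, tv_apply, map_add, f.apply_symm_apply, h, conjD_apply]

theorem conjL_mem [Module.Finite F V] {σ : F ≃+* F} {f : V ≃+ V} (h : SL σ f) (s : SLV F V) :
    conjL h (s : V ≃ₗ[F] V) ∈ SLV F V := by
  have hs : s ∈ Subgroup.closure {s : SLV F V | ∃ (φ : Dual F V) (v : V) (h : φ v = 0), s = tv φ v h} := by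
    rw [closure_tv]; trivial
  have hinv : ∀ t : V ≃ₗ[F] V, conjL h t⁻¹ = (conjL h t)⁻¹ := by
    intro t
    rw [eq_inv_iff_mul_eq_one, ← conjL_mul, inv_mul_cancel, conjL_one]
  induction hs using Subgroup.closure_induction with
  | mem s hs =>
    obtain ⟨φ, v, hv, rfl⟩ := hs
    rw [conjL_tv]
    exact SetLike.coe_mem _
  | one =>
    rw [Subgroup.coe_one, conjL_one]
    exact one_mem _
  | mul s t _ _ ihs iht =>
    rw [Subgroup.coe_mul, conjL_mul]
    exact mul_mem ihs iht
  | inv s _ ihs =>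
    rw [Subgroup.coe_inv, hinv]
    exact inv_mem ihs

/-- conjugation of `SL(V)` by a semilinear bijection -/
noncomputable def scj [Module.Finite F V] {σ : F ≃+* F} {f : V ≃+ V} (h : SL σ f) (s : SLV F V) : SLV F V :=
  ⟨conjL h (s : V ≃ₗ[F] V), conjL_mem h s⟩

theorem scj_apply [Module.Finite F V] {σ : F ≃+* F} {f : V ≃+ V} (h : SL σ f) (s : SLV F V) (v : V) :
    (scj h s : V ≃ₗ[F] V) (f v) = f ((s : V ≃ₗ[F] V) v) := by
  change f (s.1 (f.symm (f v))) = _
  rw [f.symm_apply_apply]

/-- a semilinear map commuting with `SL(V)` up to scalars is a scalar -/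
theorem scalar_of_comm [Module.Finite F V] (hd : 2 ≤ finrank F V) {σ : F ≃+* F} {h : V ≃+ V} (_hh : SL σ h)
    (hc : ∀ s : SLV F V, ∃ ζ : F, ∀ v, h ((s : V ≃ₗ[F] V) v) = ζ • (s : V ≃ₗ[F] V) (h v)) :
    ∃ c : F, c ≠ 0 ∧ ∀ v, h v = c • v := by
  have h1 : ∀ (w : V) (φ : Dual F V), φ w = 0 → φ (h w) = 0 := by
    intro w φ hφ
    by_cases hw : w = 0
    · subst hw
      rw [map_zero, map_zero]
    obtain ⟨ζ, hζ⟩ := hc (tv φ w hφ)
    have h2 := hζ w
    rw [tv_apply, tv_apply, hφ, zero_smul, add_zero] at h2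
    by_contra hne
    have h3 := congrArg φ h2
    rw [map_smul, map_add, map_smul, hφ, smul_zero, add_zero, smul_eq_mul] at h3
    have hζ1 : ζ = 1 := by
      have : (1 - ζ) * φ (h w) = 0 := by rw [sub_mul, one_mul, ← h3, sub_self]
      rcases mul_eq_zero.1 this with h | h
      · exact (sub_eq_zero.1 h).symm
      · exact (hne h).elim
    rw [hζ1, one_smul] at h2
    have h4 : φ (h w) • w = 0 := by
      have := h2.symm
      rwa [add_eq_left] at this
    rcases smul_eq_zero.1 h4 with h | h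
    · exact hne h
    · exact hw h
  have h2 : ∀ w : V, ∃ c : F, h w = c • w := by
    intro w
    have : h w ∈ Submodule.span F {w} := by
      by_contra hn
      obtain ⟨φ, hφ1, hφ2⟩ := Submodule.exists_dual_map_eq_bot_of_notMem (p := Submodule.span F {w}) hn inferInstance
      apply hφ1
      apply h1
      have h3 : φ w ∈ (Submodule.span F {w}).map φ := ⟨w, Submodule.mem_span_singleton_self w, rfl⟩
      rw [hφ2] at h3
      exact (Submodule.mem_bot F).1 h3
    obtain ⟨c, hc⟩ := Submodule.mem_span_singleton.1 this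
    exact ⟨c, hc.symm⟩
  choose c hcw using h2
  -- independent vectors have the same coefficient
  have h3 : ∀ u w : V, (∀ a : F, w ≠ a • u) → u ≠ 0 → c u = c w := by
    intro u w huw hu
    have h4 := hcw (u + w)
    rw [map_add, hcw u, hcw w, smul_add] at h4
    have h5 : (c u - c (u + w)) • u = (c (u + w) - c w) • w := by
      rw [sub_smul, sub_smul, sub_eq_sub_iff_add_eq_add, h4]
      abel
    have h6 : c (u + w) - c w = 0 := by
      by_contra hne
      apply huw ((c (u + w) - c w)⁻¹ * (c u - c (u + w)))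
      rw [mul_smul, h5, smul_smul, inv_mul_cancel₀ hne, one_smul]
    rw [h6, zero_smul] at h5
    rcases smul_eq_zero.1 h5 with h | h
    · rw [sub_eq_zero.1 h, sub_eq_zero.1 h6]
    · exact (hu h).elim
  have hnt : Nontrivial V := by
    apply Module.nontrivial_of_finrank_pos (R := F)
    omega
  obtain ⟨u, hu⟩ := exists_ne (0 : V)
  have h4 : ∀ u : V, ∃ w : V, ∀ a : F, w ≠ a • u := by
    intro u
    by_contra hcon
    push Not at hcon
    have h5 : finrank F V ≤ 1 := finrank_le_one u fun w => by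
      obtain ⟨a, ha⟩ := hcon w
      exact ⟨a, ha.symm⟩
    omega
  obtain ⟨w, hw⟩ := h4 u
  have hw0 : w ≠ 0 := fun h => hw 0 (by rw [h, zero_smul])
  have huw : ∀ a : F, u ≠ a • w := by
    intro a ha
    by_cases h0 : a = 0
    · rw [h0, zero_smul] at ha; exact hu ha
    · apply hw a⁻¹
      rw [ha, smul_smul, inv_mul_cancel₀ h0, one_smul]
  refine ⟨c u, ?_, ?_⟩
  · intro h0
    have := hcw u
    rw [h0, zero_smul] at this
    exact hu (h.injective (this.trans (map_zero h).symm))
  · intro v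
    by_cases hv : v = 0
    · rw [hv, map_zero, smul_zero]
    by_cases hvu : ∀ a : F, v ≠ a • u
    · rw [h3 u v hvu hu]; exact hcw v
    · push Not at hvu
      obtain ⟨a, ha⟩ := hvu
      have hvw : ∀ b : F, v ≠ b • w := by
        intro b hb
        have ha0 : a ≠ 0 := by rintro rfl; rw [zero_smul] at ha; exact hv ha
        apply huw (a⁻¹ * b)
        rw [mul_smul, ← hb, ha, smul_smul, inv_mul_cancel₀ ha0, one_smul]
      rw [h3 u w hw hu, h3 w v hvw hw0]
      exact hcw v

end scj

section lifts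

variable {F V G Ω : Type} [Field F] [AddCommGroup V] [Module F V] [Group G] [MulAction G Ω]
  {κ : SLV F V →* G}

theorem lifts_mul [Module.Finite F V] {x y : G} {f g : V ≃+ V} {τ : F ≃+* F} (hx : Lifts κ x f)
    (hy : Lifts κ y g) (hg : SL τ g) : Lifts κ (x * y) (g.trans f) := by
  intro s s' hs
  have h1 := hy s (scj hg s) fun v => scj_apply hg s v
  have h2 := hx (scj hg s) s' (fun v => by
    obtain ⟨w, rfl⟩ := g.surjective v
    rw [scj_apply]
    exact hs w)
  rw [← h2, ← h1]
  group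

theorem lifts_inv {x : G} {f : V ≃+ V} (hx : Lifts κ x f) : Lifts κ x⁻¹ f.symm := by
  intro s s' hs
  have h1 := hx s' s (fun v => by
    apply f.symm.injective
    rw [← hs, f.symm_apply_apply, f.symm_apply_apply])
  rw [← h1]
  group

theorem lifts_refl : Lifts κ (1 : G) (AddEquiv.refl V) := by
  intro s s' hs
  have : s' = s := SLV.ext fun v => hs v
  rw [this]
  group

theorem lift_scalar [Module.Finite F V] (hd : 2 ≤ finrank F V) {N : Subgroup G} (hF : Frame Ω N κ)
    {h : V ≃+ V} {σ : F ≃+* F} (hh : SL σ h) (hl : Lifts κ 1 h) : ∃ c : F, c ≠ 0 ∧ ∀ v, h v = c • v := by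
  apply scalar_of_comm hd hh
  intro s
  have h1 := hl s (scj hh s) fun v => scj_apply hh s v
  have h2 : κ (s⁻¹ * scj hh s) = 1 := by
    rw [map_mul, ← h1, map_inv]
    group
  obtain ⟨c, hc⟩ := (hF.ker _).1 h2
  refine ⟨c, fun v => ?_⟩
  have h3 := hc (h v)
  rw [coe_mul_apply, scj_apply] at h3
  rw [← map_smul, ← h3, coe_apply_inv]

theorem lift_unique [Module.Finite F V] (hd : 2 ≤ finrank F V) {N : Subgroup G} (hF : Frame Ω N κ) {x : G}
    {f g : V ≃+ V} {σ τ : F ≃+* F} (hf : SL σ f) (hg : SL τ g) (hxf : Lifts κ x f) (hxg : Lifts κ x g) :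
    ∃ c : F, c ≠ 0 ∧ ∀ v, g v = c • f v := by
  have h1 : Lifts κ 1 (g.trans f.symm) := by
    have := lifts_mul (lifts_inv hxf) hxg hg
    rwa [inv_mul_cancel] at this
  obtain ⟨c, hc0, hc⟩ := lift_scalar hd hF (SL.trans hf.symm hg) h1
  refine ⟨σ c, (map_ne_zero σ).2 hc0, fun v => ?_⟩
  have h2 := congrArg f (hc v)
  rw [AddEquiv.trans_apply, f.apply_symm_apply, hf] at h2
  exact h2

end lifts

/-- a minimal cover of `Ω` by elements `x i` of pairwise different prime orders `r i` with semilinear lifts -/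
structure SemiCov (Ω : Type) {F V G ι : Type} [Field F] [AddCommGroup V] [Module F V] [Group G] [MulAction G Ω]
    (N : Subgroup G) (κ : SLV F V →* G) (x : ι → G) (r : ι → ℕ) (f : ι → V ≃+ V) (σ : ι → F ≃+* F) : Prop where
  fr : Frame Ω N κ
  pf : PF x r
  cov : Cov Ω x
  min : CovMin Ω x
  semi : ∀ i, SL (σ i) (f i)
  lift : ∀ i, Lifts κ (x i) (f i)

section basic

variable {F V G Ω ι : Type} [Field F] [AddCommGroup V] [Module F V] [Module.Finite F V] [Group G] [MulAction G Ω]
  {N : Subgroup G} {κ : SLV F V →* G} {x : ι → G} {r : ι → ℕ} {f : ι → V ≃+ V} {σ : ι → F ≃+* F}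

theorem lifts_pow {y : G} {g : V ≃+ V} {τ : F ≃+* F} (hg : SL τ g) (hy : Lifts κ y g) (k : ℕ) :
    ∃ g' : V ≃+ V, (∀ v, g' v = (g : V → V)^[k] v) ∧ SL (τ ^ k) g' ∧ Lifts κ (y ^ k) g' := by
  induction k with
  | zero =>
    refine ⟨AddEquiv.refl V, fun v => rfl, fun c v => rfl, ?_⟩
    rw [pow_zero]
    exact lifts_refl
  | succ k ih =>
    obtain ⟨g', h1, h2, h3⟩ := ih
    refine ⟨g'.trans g, fun v => ?_, ?_, ?_⟩
    · rw [AddEquiv.trans_apply, h1, Function.iterate_succ_apply']
    · intro c v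
      rw [AddEquiv.trans_apply, AddEquiv.trans_apply, h2, hg, pow_succ']
      rfl
    · rw [pow_succ']
      exact lifts_mul hy h3 h2

/-- the `r`-th power of a lift is a scalar -/
theorem pow_scalar (hd : 2 ≤ finrank F V) (hF : Frame Ω N κ) {y : G} {k : ℕ} (hyk : y ^ k = 1) {g : V ≃+ V}
    {τ : F ≃+* F} (hg : SL τ g) (hy : Lifts κ y g) :
    ∃ c : F, c ≠ 0 ∧ ∀ v, (g : V → V)^[k] v = c • v := by
  obtain ⟨g', h1, h2, h3⟩ := lifts_pow hg hy k
  rw [hyk] at h3
  obtain ⟨c, hc, h4⟩ := lift_scalar hd hF h2 h3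
  exact ⟨c, hc, fun v => by rw [← h1, h4]⟩

/-- lifts of commuting elements commute up to a scalar -/
theorem comm_scalar (hd : 2 ≤ finrank F V) (hF : Frame Ω N κ) {y z : G} (hyz : y * z = z * y) {g h : V ≃+ V}
    {τ ρ : F ≃+* F} (hg : SL τ g) (hh : SL ρ h) (hy : Lifts κ y g) (hz : Lifts κ z h) :
    ∃ c : F, c ≠ 0 ∧ ∀ v, h (g v) = c • g (h v) := by
  have h1 := lifts_mul hy hz hh
  have h2 := lifts_mul hz hy hg
  rw [← hyz] at h2
  exact lift_unique hd hF (SL.trans hg hh) (SL.trans hh hg) h1 h2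

end basic

section lin

variable {F V G Ω ι : Type} [Field F] [AddCommGroup V] [Module F V] [Module.Finite F V] [Group G] [MulAction G Ω]
  {N : Subgroup G} {κ : SLV F V →* G} {x : ι → G} {r : ι → ℕ} {f : ι → V ≃+ V} {σ : ι → F ≃+* F}

/-- a `1`-semilinear bijection as a linear one -/
noncomputable def toLin {τ : F ≃+* F} {g : V ≃+ V} (hg : SL τ g) (h1 : τ = 1) : V ≃ₗ[F] V :=
  { g with
    map_smul' := by
      intro c v
      subst h1
      exact hg c v }

theorem iterate_comm {A B : V → V} {c : F} (hA : ∀ (a : F) v, A (a • v) = a • A v)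
    (h : ∀ v, B (A v) = c • A (B v)) (k : ℕ) (v : V) : B (A^[k] v) = c ^ k • A^[k] (B v) := by
  induction k with
  | zero => simp
  | succ k ih =>
    rw [Function.iterate_succ_apply', Function.iterate_succ_apply', h, ih, hA, smul_smul, pow_succ']

/-- all lifts linear => `LinCov` -/
theorem SemiCov.linCov (hd : 2 ≤ finrank F V) (h : SemiCov Ω N κ x r f σ) (h1 : ∀ i, σ i = 1) :
    LinCov Ω N κ x r fun i => toLin (h.semi i) (h1 i) where
  fr := h.fr
  pf := h.pf
  cov := h.cov
  min := h.min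
  lift i s := by
    have := h.lift i
    exact (lifts_lin (a := toLin (h.semi i) (h1 i))).1 this s
  comm i j := by
    by_cases hij : i = j
    · subst hij; rfl
    have hnt : Nontrivial V := Module.nontrivial_of_finrank_pos (R := F) (by omega)
    obtain ⟨v, hv⟩ := exists_ne (0 : V)
    have hlin : ∀ i (a : F) v, f i (a • v) = a • f i v := by
      intro i a v
      have := h.semi i a v
      rw [h1] at this
      exact this
    obtain ⟨c, hc0, hc⟩ := comm_scalar hd h.fr (h.pf.comm i j) (h.semi i) (h.semi j) (h.lift i) (h.lift j)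
    obtain ⟨ci, hci0, hci⟩ := pow_scalar hd h.fr (h.pf.pow i) (h.semi i) (h.lift i)
    obtain ⟨cj', hcj0, hcj⟩ := pow_scalar hd h.fr (h.pf.pow j) (h.semi j) (h.lift j)
    have e1 : c ^ r i = 1 := by
      have h2 := iterate_comm (A := f i) (B := f j) (hlin i) hc (r i) v
      rw [hci, hci, hlin, smul_smul] at h2
      have h3 : f j v ≠ 0 := fun h => hv ((f j).injective (h.trans (map_zero _).symm))
      have h4 := smul_left_injective F h3 h2
      exact (mul_right_cancel₀ hci0 (by rw [one_mul]; exact h4)).symm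
    have hc' : ∀ v, f i (f j v) = c⁻¹ • f j (f i v) := by
      intro v
      rw [hc, smul_smul, inv_mul_cancel₀ hc0, one_smul]
    have e2 : c⁻¹ ^ r j = 1 := by
      have h2 := iterate_comm (A := f j) (B := f i) (hlin j) hc' (r j) v
      rw [hcj, hcj, hlin, smul_smul] at h2
      have h3 : f i v ≠ 0 := fun h => hv ((f i).injective (h.trans (map_zero _).symm))
      have h4 := smul_left_injective F h3 h2
      exact (mul_right_cancel₀ hcj0 (by rw [one_mul]; exact h4)).symm
    have e3 : c ^ r j = 1 := by rwa [inv_pow, inv_eq_one] at e2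
    have hcop : Nat.Coprime (r i) (r j) := (Nat.coprime_primes (h.pf.prime i) (h.pf.prime j)).2
      fun he => hij (h.pf.inj he)
    have hc1 : c = 1 := by
      have h5 : orderOf c ∣ Nat.gcd (r i) (r j) :=
        Nat.dvd_gcd (orderOf_dvd_of_pow_eq_one e1) (orderOf_dvd_of_pow_eq_one e3)
      rw [hcop] at h5
      exact orderOf_eq_one_iff.1 (Nat.dvd_one.1 h5)
    apply LinearEquiv.ext
    intro w
    change f i (f j w) = f j (f i w)
    rw [hc w, hc1, one_smul]

end lin

section field

variable {F V G Ω ι : Type} [Field F] [Finite F] [AddCommGroup V] [Module F V] [Module.Finite F V] [Group G]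
  [MulAction G Ω] {N : Subgroup G} {κ : SLV F V →* G} {x : ι → G} {r : ι → ℕ} {f : ι → V ≃+ V} {σ : ι → F ≃+* F}

end field

/-- passage from `G`-sets to subgroups of `MulAut S`, one automorphism `g` -/
theorem rce_of_set {S : Type} [Group S] [Finite S] (hS : IsSimpleGroup S)
    (hSn : ¬ IsMulCommutative S) (g : MulAut S)
    (h : ∀ (G : Type) [Group G] [Finite G] (Ω : Type) [Finite Ω] [Nonempty Ω] [MulAction G Ω]
      (N : Subgroup G) (_ : Env G Ω N) (e : N ≃* S) (y : G),
      (∀ m m' : N, (m' : G) = y * m * y⁻¹ → e m' = g (e m)) → ∃ ω : Ω, RegPt y ω) : RCe S g := by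
  classical
  intro H hH
  have hZ : Subgroup.center S = ⊥ := by
    rcases hS.eq_bot_or_eq_top_of_normal (Subgroup.center S) inferInstance with h | h
    · exact h
    · exfalso
      apply hSn
      constructor
      constructor
      intro s t
      have : t ∈ Subgroup.center S := by rw [h]; trivial
      exact Subgroup.mem_center_iff.1 this s
  have hinj : Function.Injective (MulAut.conj : S →* MulAut S) := by
    rw [injective_iff_map_eq_one]
    intro s hs
    have : s ∈ Subgroup.center S := by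
      rw [Subgroup.mem_center_iff]
      intro u
      have h1 := congrArg (fun f : MulAut S => f u) hs
      simp only [MulAut.conj_apply, MulAut.one_apply] at h1
      calc u * s = (s * u * s⁻¹) * s := by rw [h1]
        _ = s * u := by group
    rw [hZ] at this
    exact Subgroup.mem_bot.1 this
  let I : Subgroup (MulAut S) := (MulAut.conj : S →* MulAut S).range
  have hconj : ∀ (a : MulAut S) (s : S), a * MulAut.conj s * a⁻¹ = MulAut.conj (a s) := by
    intro a s
    ext t
    simp only [MulAut.conj_apply, _root_.MulAut.mul_apply, _root_.MulAut.inv_apply, _root_.MulAut.conj_apply, _root_.map_mul, _root_.MulEquiv.apply_symm_apply, _root_.map_inv]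
  have hInorm : I.Normal := by
    constructor
    rintro _ ⟨s, rfl⟩ a
    exact ⟨a s, (hconj a s).symm⟩
  let G₀ : Subgroup (MulAut S) := I ⊔ Subgroup.zpowers g
  have hIG : I ≤ G₀ := le_sup_left
  have hgG : g ∈ G₀ := (le_sup_right : Subgroup.zpowers g ≤ G₀) (Subgroup.mem_zpowers g)
  let H₀ : Subgroup G₀ := H.subgroupOf G₀
  let N : Subgroup G₀ := I.subgroupOf G₀
  have hNn : N.Normal := Subgroup.normal_subgroupOf
  let eN : N ≃* S := ((Subgroup.subgroupOfEquivOfLe hIG).trans
    (MonoidHom.ofInjective hinj).symm)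
  have heN : ∀ m : N, MulAut.conj (eN m) = ((m : G₀) : MulAut S) := by
    intro m
    have h1 : (MonoidHom.ofInjective hinj) (eN m) = Subgroup.subgroupOfEquivOfLe hIG m := by
      simp [eN]
    have h2 := congrArg Subtype.val h1
    exact h2
  have hEnv : Env G₀ (G₀ ⧸ H₀) N := by
    refine ⟨hNn, isSimple_cgr0 eN.symm hS, ?_, ?_, ?_⟩
    · intro hc
      apply hSn
      constructor; constructor
      intro a b
      apply eN.symm.injective
      rw [map_mul, map_mul]
      exact hc.is_comm.comm _ _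
    · rw [eq_bot_iff]
      intro a ha
      rw [Subgroup.mem_centralizer_iff] at ha
      rw [Subgroup.mem_bot]
      apply Subtype.ext
      apply MulEquiv.ext
      intro s
      apply hinj
      have h1 := ha ⟨MulAut.conj s, hIG ⟨s, rfl⟩⟩ (by
        show (MulAut.conj s : MulAut S) ∈ I
        exact ⟨s, rfl⟩)
      have h2 := congrArg Subtype.val h1
      have h3 : MulAut.conj s * (a : MulAut S) = (a : MulAut S) * MulAut.conj s := h2
      rw [← hconj, ← h3]
      simp only [_root_.mul_inv_cancel_right, _root_.OneMemClass.coe_one, _root_.MulAut.one_apply]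
    · intro ω hle
      obtain ⟨k, rfl⟩ := QuotientGroup.mk_surjective ω
      apply hH
      rintro _ ⟨s, rfl⟩
      have h1 : k * ⟨MulAut.conj s, hIG ⟨s, rfl⟩⟩ * k⁻¹ ∈ N := hNn.conj_mem _ (by
        show (MulAut.conj s : MulAut S) ∈ I
        exact ⟨s, rfl⟩) k
      have h2 := hle h1
      rw [mem_stabilizer_iff] at h2
      have h3 : (((k * ⟨MulAut.conj s, hIG ⟨s, rfl⟩⟩ * k⁻¹ * k : G₀)) : G₀ ⧸ H₀) = (k : G₀ ⧸ H₀) := h2
      rw [eq_comm, QuotientGroup.eq] at h3
      have h4 : k⁻¹ * (k * ⟨MulAut.conj s, hIG ⟨s, rfl⟩⟩ * k⁻¹ * k)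
          = (⟨MulAut.conj s, hIG ⟨s, rfl⟩⟩ : G₀) := by group
      rw [h4] at h3
      exact h3
  let gG : G₀ := ⟨g, hgG⟩
  obtain ⟨ω, hω⟩ := h G₀ (G₀ ⧸ H₀) N hEnv eN gG (by
    intro m m' hm
    apply hinj
    rw [heN, hm, ← hconj, heN]
    rfl)
  obtain ⟨k, rfl⟩ := QuotientGroup.mk_surjective ω
  have hk : ∃ (i : ℤ) (s : S), k.1 = g ^ i * ((MulAut.conj s : MulAut S))⁻¹ :=
    sup_form g k.1 k.2
  obtain ⟨i, s, hks⟩ := hk
  refine ⟨s, ?_⟩
  intro z hz hzH
  obtain ⟨j, rfl⟩ := Subgroup.mem_zpowers_iff.1 hz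
  have hpow : ((gG ^ j : G₀) : MulAut S) = g ^ j := by
    rw [Subgroup.coe_zpow]
  have hmem : k⁻¹ * (gG ^ j * k) ∈ H₀ := by
    rw [Subgroup.mem_subgroupOf]
    have e0 : ((k⁻¹ * (gG ^ j * k) : G₀) : MulAut S)
        = (k : MulAut S)⁻¹ * (g ^ j * (k : MulAut S)) := by
      rw [Subgroup.coe_mul, Subgroup.coe_mul, hpow, Subgroup.coe_inv]
    rw [e0, hks]
    have e : (g ^ i * (MulAut.conj s)⁻¹)⁻¹ * (g ^ j * (g ^ i * (MulAut.conj s)⁻¹))
        = MulAut.conj s * (g ^ (-i) * g ^ j * g ^ i) * (MulAut.conj s)⁻¹ := by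
      rw [zpow_neg, mul_inv_rev, inv_inv]; simp only [mul_assoc]
    rw [e, ← zpow_add, ← zpow_add]
    have e2 : -i + j + i = j := by ring
    rw [e2]
    exact hzH
  have hfix : (gG ^ j) • (k : G₀ ⧸ H₀) = (k : G₀ ⧸ H₀) := by
    have : ((gG ^ j * k : G₀) : G₀ ⧸ H₀) = (k : G₀ ⧸ H₀) :=
      (QuotientGroup.eq.2 hmem).symm
    exact this
  have h1 := hω (gG ^ j) (Subgroup.zpow_mem_zpowers gG j) hfix
  rw [← hpow, h1]
  rfl

section gam

variable {F : Type} [Field F] {n : ℕ}

/-- `f` lifts the automorphism `β` of `PSL_n(F)` -/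
def LiftAut (β : MulAut (Matrix.ProjectiveSpecialLinearGroup (Fin n) F)) (f : (Fin n → F) ≃+ (Fin n → F)) : Prop :=
  ∀ S S' : Matrix.SpecialLinearGroup (Fin n) F, (∀ v, S'.1.mulVec (f v) = f (S.1.mulVec v)) →
    β (QuotientGroup.mk S) = QuotientGroup.mk S'

theorem liftAut_of_induced {β : MulAut (Matrix.ProjectiveSpecialLinearGroup (Fin n) F)} {A : GL (Fin n) F}
    {σ : F ≃+* F} (h : Cfsg.IsInducedBySemilinearPSL A σ β) : LiftAut β (semiMap A σ) := by
  intro S S' hss
  apply h
  have h1 : ∀ v, S'.1.mulVec ((A : Matrix (Fin n) (Fin n) F).mulVec v) =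
      (A : Matrix (Fin n) (Fin n) F).mulVec ((S.1.map σ).mulVec v) := by
    intro v
    have h2 := hss (fun i => σ.symm (v i))
    simp only [semiMap_apply, RingEquiv.apply_symm_apply] at h2
    rw [h2]
    congr 1
    funext i
    simp only [Matrix.mulVec, dotProduct, Matrix.map_apply, map_sum, map_mul, RingEquiv.apply_symm_apply]
  have h3 : S'.1 * (A : Matrix (Fin n) (Fin n) F) = (A : Matrix (Fin n) (Fin n) F) * S.1.map σ := by
    apply Matrix.toLin'.injective
    apply LinearMap.ext
    intro v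
    rw [Matrix.toLin'_apply, Matrix.toLin'_apply, ← Matrix.mulVec_mulVec, ← Matrix.mulVec_mulVec, h1]
  rw [← h3, mul_assoc, ← Units.val_mul, mul_inv_cancel, Units.val_one, mul_one]

theorem exists_conj {σ : F ≃+* F} {f : (Fin n → F) ≃+ (Fin n → F)} (h : SL σ f)
    (S : Matrix.SpecialLinearGroup (Fin n) F) :
    ∃ S' : Matrix.SpecialLinearGroup (Fin n) F, ∀ v, S'.1.mulVec (f v) = f (S.1.mulVec v) := by
  obtain ⟨S', hS'⟩ := (slE (Pi.basisFun F (Fin n))).surjective (scj h (slE (Pi.basisFun F (Fin n)) S))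
  refine ⟨S', fun v => ?_⟩
  rw [← slE_std, hS', scj_apply, slE_std]

theorem liftAut_mul {β γ : MulAut (Matrix.ProjectiveSpecialLinearGroup (Fin n) F)}
    {f g : (Fin n → F) ≃+ (Fin n → F)} {τ : F ≃+* F} (hβ : LiftAut β f) (hγ : LiftAut γ g) (hg : SL τ g) :
    LiftAut (β * γ) (g.trans f) := by
  intro S S' hss
  obtain ⟨T, hT⟩ := exists_conj hg S
  rw [MulAut.mul_apply, hγ S T hT]
  apply hβ
  intro v
  obtain ⟨w, rfl⟩ := g.surjective v
  rw [hT]
  exact hss w

theorem liftAut_inv {β : MulAut (Matrix.ProjectiveSpecialLinearGroup (Fin n) F)}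
    {f : (Fin n → F) ≃+ (Fin n → F)} (hβ : LiftAut β f) : LiftAut β⁻¹ f.symm := by
  intro S S' hss
  apply β.injective
  rw [MulAut.apply_inv_self]
  symm
  apply hβ
  intro v
  apply f.symm.injective
  rw [← hss, f.symm_apply_apply, f.symm_apply_apply]

theorem liftAut_one : LiftAut (1 : MulAut (Matrix.ProjectiveSpecialLinearGroup (Fin n) F))
    (AddEquiv.refl (Fin n → F)) := by
  intro S S' hss
  have : S' = S := by
    apply Subtype.ext
    apply Matrix.toLin'.injective
    apply LinearMap.ext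
    intro v
    rw [Matrix.toLin'_apply, Matrix.toLin'_apply]
    exact hss v
  rw [this]
  rfl

theorem exists_liftAut {β : MulAut (Matrix.ProjectiveSpecialLinearGroup (Fin n) F)}
    (hβ : β ∈ Cfsg.gammaPSL n F) :
    ∃ (f : (Fin n → F) ≃+ (Fin n → F)) (σ : F ≃+* F), SL σ f ∧ LiftAut β f := by
  unfold Cfsg.gammaPSL Cfsg.autSubgroupOf at hβ
  induction hβ using Subgroup.closure_induction with
  | mem β h =>
    obtain ⟨A, σ, h⟩ := h
    exact ⟨semiMap A σ, σ, semiMap_smul A σ, liftAut_of_induced h⟩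
  | one => exact ⟨AddEquiv.refl _, 1, fun c v => rfl, liftAut_one⟩
  | mul β γ _ _ h1 h2 =>
    obtain ⟨f, σ, hf, hβ⟩ := h1
    obtain ⟨g, τ, hg, hγ⟩ := h2
    exact ⟨g.trans f, τ.trans σ, SL.trans hf hg, liftAut_mul hβ hγ hg⟩
  | inv β _ h1 =>
    obtain ⟨f, σ, hf, hβ⟩ := h1
    exact ⟨f.symm, σ.symm, hf.symm, liftAut_inv hβ⟩

end gam

section gam

variable {F : Type} [Field F] {n : ℕ}

theorem gamma_of_diag {δ : MulAut (Matrix.ProjectiveSpecialLinearGroup (Fin n) F)}
    (h : Cfsg.IsInnerDiagonalAutPSL δ) : δ ∈ Cfsg.gammaPSL n F := by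
  obtain ⟨A, hA⟩ := h
  apply Subgroup.subset_closure
  refine ⟨A, RingEquiv.refl F, ?_⟩
  intro s s' hs
  apply hA
  rw [hs]
  congr 2

theorem gamma_of_field {φ : MulAut (Matrix.ProjectiveSpecialLinearGroup (Fin n) F)} {σ : F ≃+* F}
    (h : Cfsg.IsStdFieldAutPSL σ φ) : φ ∈ Cfsg.gammaPSL n F := by
  apply Subgroup.subset_closure
  refine ⟨1, σ, ?_⟩
  intro s s' hs
  apply h
  rw [hs, inv_one, Units.val_one, one_mul, mul_one]

/-- the inverse-transpose matrix -/
noncomputable def itm (S : Matrix.SpecialLinearGroup (Fin n) F) : Matrix.SpecialLinearGroup (Fin n) F :=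
  ⟨((S⁻¹ : Matrix.SpecialLinearGroup (Fin n) F) : Matrix (Fin n) (Fin n) F).transpose, by
    rw [Matrix.det_transpose, (S⁻¹ : Matrix.SpecialLinearGroup (Fin n) F).2]⟩

theorem itm_itm (S : Matrix.SpecialLinearGroup (Fin n) F) : itm (itm S) = S := by
  have h1 : (itm S)⁻¹ = ⟨S.1.transpose, by rw [Matrix.det_transpose, S.2]⟩ := by
    apply inv_eq_of_mul_eq_one_right
    apply Subtype.ext
    change ((S⁻¹ : Matrix.SpecialLinearGroup (Fin n) F) : Matrix (Fin n) (Fin n) F).transpose * S.1.transpose = 1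
    rw [← Matrix.transpose_mul]
    have h3 := congrArg Subtype.val (mul_inv_cancel S)
    have h4 : S.1 * ((S⁻¹ : Matrix.SpecialLinearGroup (Fin n) F) : Matrix (Fin n) (Fin n) F) = 1 := h3
    rw [h4, Matrix.transpose_one]
  apply Subtype.ext
  change (((itm S)⁻¹ : Matrix.SpecialLinearGroup (Fin n) F) : Matrix (Fin n) (Fin n) F).transpose = S.1
  rw [h1]
  change S.1.transpose.transpose = S.1
  rw [Matrix.transpose_transpose]

theorem it_apply {γ : MulAut (Matrix.ProjectiveSpecialLinearGroup (Fin n) F)}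
    (h : Cfsg.IsInverseTransposeAutPSL γ) (S : Matrix.SpecialLinearGroup (Fin n) F) :
    γ (QuotientGroup.mk S) = QuotientGroup.mk (itm S) := h S (itm S) rfl

theorem it_unique {γ γ' : MulAut (Matrix.ProjectiveSpecialLinearGroup (Fin n) F)}
    (h : Cfsg.IsInverseTransposeAutPSL γ) (h' : Cfsg.IsInverseTransposeAutPSL γ') : γ = γ' := by
  apply MulEquiv.ext
  intro t
  obtain ⟨S, rfl⟩ := QuotientGroup.mk_surjective t
  rw [it_apply h, it_apply h']

theorem it_sq {γ : MulAut (Matrix.ProjectiveSpecialLinearGroup (Fin n) F)}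
    (h : Cfsg.IsInverseTransposeAutPSL γ) : γ * γ = 1 := by
  apply MulEquiv.ext
  intro t
  obtain ⟨S, rfl⟩ := QuotientGroup.mk_surjective t
  rw [MulAut.mul_apply, it_apply h, it_apply h, itm_itm]
  rfl

theorem it_conj {γ : MulAut (Matrix.ProjectiveSpecialLinearGroup (Fin n) F)}
    (h : Cfsg.IsInverseTransposeAutPSL γ) {β : MulAut (Matrix.ProjectiveSpecialLinearGroup (Fin n) F)}
    (hβ : β ∈ Cfsg.gammaPSL n F) : γ * β * γ ∈ Cfsg.gammaPSL n F := by
  have hinv : γ⁻¹ = γ := inv_eq_of_mul_eq_one_left (it_sq h)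
  have hβ' := hβ
  unfold Cfsg.gammaPSL Cfsg.autSubgroupOf at hβ'
  induction hβ' using Subgroup.closure_induction with
  | mem β h1 =>
    obtain ⟨A, σ, hA⟩ := h1
    apply Subgroup.subset_closure
    -- the matrix `A⁻ᵀ`
    let B : GL (Fin n) F := ⟨((A⁻¹ : GL (Fin n) F) : Matrix (Fin n) (Fin n) F).transpose,
      (A : Matrix (Fin n) (Fin n) F).transpose, by
        rw [← Matrix.transpose_mul, ← Units.val_mul, mul_inv_cancel, Units.val_one, Matrix.transpose_one], by
        rw [← Matrix.transpose_mul, ← Units.val_mul, inv_mul_cancel, Units.val_one, Matrix.transpose_one]⟩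
    refine ⟨B, σ, ?_⟩
    intro S S' hS
    change γ (β (γ (QuotientGroup.mk S))) = _
    rw [it_apply h]
    -- the matrix `A σ(S⁻ᵀ) A⁻¹`
    have hT : (itm S' : Matrix.SpecialLinearGroup (Fin n) F).1 =
        (A : Matrix (Fin n) (Fin n) F) * (itm S).1.map σ * ((A⁻¹ : GL (Fin n) F) : Matrix (Fin n) (Fin n) F) := by
      -- `itm S'` is the inverse transpose of `S'`
      have e1 : (itm S').1.transpose * S'.1 = 1 := by
        change ((S'⁻¹ : Matrix.SpecialLinearGroup (Fin n) F) : Matrix (Fin n) (Fin n) F).transpose.transpose * S'.1 = 1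
        rw [Matrix.transpose_transpose]
        exact congrArg Subtype.val (inv_mul_cancel S')
      have e2 : (itm S).1.transpose * S.1 = 1 := by
        change ((S⁻¹ : Matrix.SpecialLinearGroup (Fin n) F) : Matrix (Fin n) (Fin n) F).transpose.transpose * S.1 = 1
        rw [Matrix.transpose_transpose]
        exact congrArg Subtype.val (inv_mul_cancel S)
      have e3 : ((A : Matrix (Fin n) (Fin n) F) * (itm S).1.map σ *
          ((A⁻¹ : GL (Fin n) F) : Matrix (Fin n) (Fin n) F)).transpose * S'.1 = 1 := by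
        rw [hS, Matrix.transpose_mul, Matrix.transpose_mul]
        change ((A⁻¹ : GL (Fin n) F) : Matrix (Fin n) (Fin n) F).transpose * (((itm S).1.map σ).transpose *
          (A : Matrix (Fin n) (Fin n) F).transpose) * (((A⁻¹ : GL (Fin n) F) : Matrix (Fin n) (Fin n) F).transpose *
          S.1.map σ * (A : Matrix (Fin n) (Fin n) F).transpose) = 1
        have e4 : (A : Matrix (Fin n) (Fin n) F).transpose *
            ((A⁻¹ : GL (Fin n) F) : Matrix (Fin n) (Fin n) F).transpose = 1 := by
          rw [← Matrix.transpose_mul, ← Units.val_mul, inv_mul_cancel, Units.val_one, Matrix.transpose_one]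
        have e5 : ((A⁻¹ : GL (Fin n) F) : Matrix (Fin n) (Fin n) F).transpose *
            (A : Matrix (Fin n) (Fin n) F).transpose = 1 := by
          rw [← Matrix.transpose_mul, ← Units.val_mul, mul_inv_cancel, Units.val_one, Matrix.transpose_one]
        have e6 : ((itm S).1.map σ).transpose * S.1.map σ = 1 := by
          rw [← Matrix.transpose_map, ← Matrix.map_mul, e2, Matrix.map_one _ (map_zero σ) (map_one σ)]
        calc _ = ((A⁻¹ : GL (Fin n) F) : Matrix (Fin n) (Fin n) F).transpose * (((itm S).1.map σ).transpose *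
              ((A : Matrix (Fin n) (Fin n) F).transpose *
              ((A⁻¹ : GL (Fin n) F) : Matrix (Fin n) (Fin n) F).transpose) * S.1.map σ) *
              (A : Matrix (Fin n) (Fin n) F).transpose := by simp only [Matrix.mul_assoc]
          _ = 1 := by rw [e4, mul_one, e6, mul_one, e5]
      have e7 : (itm S').1.transpose = ((A : Matrix (Fin n) (Fin n) F) * (itm S).1.map σ *
          ((A⁻¹ : GL (Fin n) F) : Matrix (Fin n) (Fin n) F)).transpose := by
        have hS'u : S'.1 * (itm S').1.transpose = 1 := mul_eq_one_comm.1 e1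
        rw [← one_mul (itm S').1.transpose, ← e3, mul_assoc, hS'u, mul_one]
      have e8 := congrArg Matrix.transpose e7
      rwa [Matrix.transpose_transpose, Matrix.transpose_transpose] at e8
    rw [hA (itm S) (itm S') hT, it_apply h, itm_itm]
  | one => rw [mul_one, it_sq h]; exact one_mem _
  | mul β β' h1 h2 ih1 ih2 =>
    have := mul_mem (ih1 h1) (ih2 h2)
    have e : γ * β * γ * (γ * β' * γ) = γ * (β * β') * γ := by
      calc γ * β * γ * (γ * β' * γ) = γ * β * (γ * γ) * β' * γ := by group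
        _ = _ := by rw [it_sq h, mul_one, ← mul_assoc]
    rwa [e] at this
  | inv β h1 ih =>
    have := inv_mem (ih h1)
    have e : (γ * β * γ)⁻¹ = γ * β⁻¹ * γ := by
      rw [mul_inv_rev, mul_inv_rev, hinv, mul_assoc]
    rwa [e] at this

/-- `PΓL_n` has index at most two in the automorphism group -/
theorem gamma_index [Fintype F] (hn : 2 ≤ n) (hs : n = 2 → 4 ≤ Fintype.card F)
    {a b : MulAut (Matrix.ProjectiveSpecialLinearGroup (Fin n) F)} (ha : a ∉ Cfsg.gammaPSL n F)
    (hb : b ∉ Cfsg.gammaPSL n F) : a * b ∈ Cfsg.gammaPSL n F := by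
  obtain ⟨p, hp⟩ := CharP.exists F
  obtain ⟨k, hpp, hk⟩ := FiniteField.card F p
  have : Fact p.Prime := ⟨hpp⟩
  have key : ∀ c : MulAut (Matrix.ProjectiveSpecialLinearGroup (Fin n) F), c ∉ Cfsg.gammaPSL n F →
      ∃ (τ γ : MulAut (Matrix.ProjectiveSpecialLinearGroup (Fin n) F)), τ ∈ Cfsg.gammaPSL n F ∧
        Cfsg.IsInverseTransposeAutPSL γ ∧ c = τ * γ := by
    intro c hc
    obtain ⟨δ, φ, γ, σ, h1, h2, h3, h4⟩ := S2690.result (F := F) (p := p) (f := k) hk k.2 hn hs c
    rcases h3 with h3 | h3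
    · exfalso
      apply hc
      rw [h4, h3, mul_one]
      exact mul_mem (gamma_of_diag h1) (gamma_of_field h2)
    · exact ⟨δ * φ, γ, mul_mem (gamma_of_diag h1) (gamma_of_field h2), h3, h4⟩
  obtain ⟨τ, γ, h1, h2, rfl⟩ := key a ha
  obtain ⟨τ', γ', h1', h2', rfl⟩ := key b hb
  obtain rfl := it_unique h2 h2'
  have e : τ * γ * (τ' * γ) = τ * (γ * τ' * γ) := by group
  rw [e]
  exact mul_mem h1 (it_conj h2 h1')

end gam

end Cfsg.Agent.H233.RC

private theorem dce_74a6f9682dc4 : _root_.True := by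
  try have : _root_.True := by simp only [_root_.Cfsg.Agent.H233.RC.conjL.congr_simp]
  try have : _root_.True := by simp only [_root_.Cfsg.Agent.H233.RC.kap.eq_1]
  exact _root_.True.intro
end
end
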