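import Cfsg.Agent.H202.RC.Point_mg_m3
import Cfsg.Agent.H578.RC.One_m3
import Cfsg.Agent.H198.TwComp
import Cfsg.Agent.H810.RC.Core_mg_m3
import Cfsg.Agent.H385.RC.Dec_mg_m3
import Cfsg.Agent.H989.OkuboRoot
import Cfsg.Agent.H669.TriBal
import Cfsg.Agent.H746.BRigid
import Cfsg.Agent.H916.RG.Pair_m3
import Cfsg.Agent.H199.PslAut
import Cfsg.Agent.H233.RC.RedA
import Cfsg.Agent.S0256
import Cfsg.Agent.H950.Quad
import Cfsg.Agent.H566.RC.TypeI
import Cfsg.Agent.UGT.U2.FOne.OrthJ
import Cfsg.Agent.LieClassical.OrthFinite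
import Cfsg.Agent.H198.TriCls
import Cfsg.Agent.H752.SemiNormal
import Mathlib
import Cfsg.Agent.LieClassical.OrthCore
import Cfsg.Agent.H93.RC.BoxB3_m3
import Cfsg.Agent.H721.RC.Boxes_m3
import Cfsg.Agent.FastGrp
import Cfsg.Agent.Prune
set_option linter.all false

section
prune_inst 0x7ffea9ffabf8b9dfdfff7e77a69ccdfdfdb93fffa4dffdcb3fe021df0b9f4b00cdc1238d0bea02fc0e96421410e87b43fdfefeffe06bd87ffffd1ff41ffbfe4fedf7b508519488340fbc0ff603f0778e7f3fffffffffffffffffffffffffffaeffbfffffffff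

-- part: H442/RC/K3_mg
section
prune_inst 0x52000004022000000008010202000000000002200000c0004a20506000840024082084009002504120088010001002010000020020000000000000000190100000002043040a000020090000000000000000000000000000000000000010000000000000
set_option linter.all false
open scoped Cfsg.Agent.FastGrp

-- part: H442/RC/Fr
section
/-!
# S3510, triality of type (ii): Siegel elements of a hyperbolic frame

`Fr Q v w p q` : `v, w, p, q` singular, `b(v, w) = b(p, q) = 1`, the other products zero.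
`Am t = sg v (t q)`, `Bm t = sg w (t p)` generate `L₋`, `Ap t = sg v (-t p)`, `Bp t = sg w (-t q)` generate `L₊`.
-/

set_option autoImplicit false
set_option linter.unusedSectionVars false

namespace Cfsg.Agent.H442.RC.TriB

open QuadraticMap MulAction
open Cfsg.Agent.LieClassical.OrthCore Cfsg.Agent.LieClassical.OrthTrans
open Cfsg.Agent.LieClassical.OrthSimple Cfsg.Agent.ClassicalGeometry.OrthSemi
open Cfsg.Agent.ClassicalGeometry.OrthAut1 Cfsg.Agent.AutOrth.SemiSim

variable {F V : Type*} [Field F] [AddCommGroup V] [Module F V] {Q : QuadraticForm F V} {v w p q : V}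

/-- hyperbolic frame of a `4`-space of plus type -/
structure Fr (Q : QuadraticForm F V) (v w p q : V) : Prop where
  Qv : Q v = 0
  Qw : Q w = 0
  Qp : Q p = 0
  Qq : Q q = 0
  vw : polar Q v w = 1
  pq : polar Q p q = 1
  vp : polar Q v p = 0
  vq : polar Q v q = 0
  wp : polar Q w p = 0
  wq : polar Q w q = 0

theorem pself {u : V} (hu : Q u = 0) : polar Q u u = 0 := by
  rw [QuadraticMap.polar_self, hu]; simp

namespace Fr

variable (f : Fr Q v w p q)

include f

theorem symm : Fr Q w v q p :=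
  ⟨f.Qw, f.Qv, f.Qq, f.Qp, by rw [polar_comm, f.vw], by rw [polar_comm, f.pq], f.wq, f.wp, f.vq, f.vp⟩

theorem wv : polar Q w v = 1 := by rw [polar_comm, f.vw]
theorem qp : polar Q q p = 1 := by rw [polar_comm, f.pq]
theorem pv : polar Q p v = 0 := by rw [polar_comm, f.vp]
theorem qv : polar Q q v = 0 := by rw [polar_comm, f.vq]
theorem pw : polar Q p w = 0 := by rw [polar_comm, f.wp]
theorem qw : polar Q q w = 0 := by rw [polar_comm, f.wq]

theorem vtq (t : F) : polar Q v (t • q) = 0 := by rw [polar_smul_right, f.vq, smul_zero]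
theorem wtp (t : F) : polar Q w (t • p) = 0 := by rw [polar_smul_right, f.wp, smul_zero]
theorem vtp (t : F) : polar Q v (t • p) = 0 := by rw [polar_smul_right, f.vp, smul_zero]
theorem wtq (t : F) : polar Q w (t • q) = 0 := by rw [polar_smul_right, f.wq, smul_zero]

omit f in
/-- `L₋` -/
def Am (f : Fr Q v w p q) (t : F) : ↥(E Q) := sg Q v (t • q) f.Qv (f.vtq t)
omit f in
def Bm (f : Fr Q v w p q) (t : F) : ↥(E Q) := sg Q w (t • p) f.Qw (f.wtp t)
omit f in
/-- `L₊` -/
def Ap (f : Fr Q v w p q) (t : F) : ↥(E Q) := sg Q v ((-t) • p) f.Qv (f.vtp (-t))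
omit f in
def Bp (f : Fr Q v w p q) (t : F) : ↥(E Q) := sg Q w ((-t) • q) f.Qw (f.wtq (-t))

theorem Am_apply (t : F) (x : V) : (f.Am t : V ≃ₗ[F] V) x = x + (t * polar Q v x) • q - (t * polar Q q x) • v := by
  rw [Am, sg_apply, QuadraticMap.map_smul, f.Qq, polar_smul_left]
  simp only [smul_eq_mul]
  module

theorem Bm_apply (t : F) (x : V) : (f.Bm t : V ≃ₗ[F] V) x = x + (t * polar Q w x) • p - (t * polar Q p x) • w := by
  rw [Bm, sg_apply, QuadraticMap.map_smul, f.Qp, polar_smul_left]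
  simp only [smul_eq_mul]
  module

theorem Ap_apply (t : F) (x : V) : (f.Ap t : V ≃ₗ[F] V) x = x - (t * polar Q v x) • p + (t * polar Q p x) • v := by
  rw [Ap, sg_apply, QuadraticMap.map_smul, f.Qp, polar_smul_left]
  simp only [smul_eq_mul]
  module

theorem Bp_apply (t : F) (x : V) : (f.Bp t : V ≃ₗ[F] V) x = x - (t * polar Q w x) • q + (t * polar Q q x) • w := by
  rw [Bp, sg_apply, QuadraticMap.map_smul, f.Qq, polar_smul_left]
  simp only [smul_eq_mul]
  module

end Fr

theorem extE {a b : ↥(E Q)} (h : ∀ x, (a : V ≃ₗ[F] V) x = (b : V ≃ₗ[F] V) x) : a = b :=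
  Subtype.ext (LinearEquiv.ext h)

theorem mulE (a b : ↥(E Q)) (x : V) : ((a * b : ↥(E Q)) : V ≃ₗ[F] V) x = (a : V ≃ₗ[F] V) ((b : V ≃ₗ[F] V) x) := rfl

macro "frs" f:term : tactic => `(tactic| simp only [mulE, Fr.Am_apply $f, Fr.Bm_apply $f, Fr.Ap_apply $f, Fr.Bp_apply $f,
  polar_add_right, polar_sub_right, polar_smul_right, smul_eq_mul, Fr.vw $f, Fr.pq $f, Fr.vp $f, Fr.vq $f, Fr.wp $f,
  Fr.wq $f, Fr.wv $f, Fr.qp $f, Fr.pv $f, Fr.qv $f, Fr.pw $f, Fr.qw $f, pself (Fr.Qv $f), pself (Fr.Qw $f),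
  pself (Fr.Qp $f), pself (Fr.Qq $f), mul_zero, mul_one, add_zero, sub_zero, zero_smul, zero_add, zero_sub])

namespace Fr

variable (f : Fr Q v w p q)

include f

theorem AmAp (s t : F) : f.Am s * f.Ap t = f.Ap t * f.Am s := by
  apply extE; intro x; frs f; module

theorem AmBp (s t : F) : f.Am s * f.Bp t = f.Bp t * f.Am s := by
  apply extE; intro x; frs f; module

theorem BmAp (s t : F) : f.Bm s * f.Ap t = f.Ap t * f.Bm s := by
  apply extE; intro x; frs f; module

theorem BmBp (s t : F) : f.Bm s * f.Bp t = f.Bp t * f.Bm s := by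
  apply extE; intro x; frs f; module

theorem Am_add (s t : F) : f.Am s * f.Am t = f.Am (s + t) := by
  apply extE; intro x; frs f; module

theorem Bm_add (s t : F) : f.Bm s * f.Bm t = f.Bm (s + t) := by
  apply extE; intro x; frs f; module

theorem Am_zero : f.Am 0 = 1 := by
  apply extE; intro x; frs f; simp only [_root_.MulZeroClass.zero_mul, _root_.zero_smul, _root_.add_zero, _root_.sub_zero]; rfl

theorem Bm_zero : f.Bm 0 = 1 := by
  apply extE; intro x; frs f; simp only [_root_.MulZeroClass.zero_mul, _root_.zero_smul, _root_.add_zero, _root_.sub_zero]; rfl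

theorem Am_inv (t : F) : (f.Am t)⁻¹ = f.Am (-t) := by
  rw [inv_eq_iff_mul_eq_one, f.Am_add, add_neg_cancel, f.Am_zero]

theorem Bm_inv (t : F) : (f.Bm t)⁻¹ = f.Bm (-t) := by
  rw [inv_eq_iff_mul_eq_one, f.Bm_add, add_neg_cancel, f.Bm_zero]

theorem Bm_pow (t : F) (n : ℕ) : f.Bm t ^ n = f.Bm (n * t) := by
  induction n with
  | zero => rw [pow_zero, Nat.cast_zero, zero_mul, f.Bm_zero]
  | succ n ih => rw [pow_succ, ih, f.Bm_add, Nat.cast_succ, add_mul, one_mul]

omit f in
/-- the element of order `3` of `L₋` -/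
def kk (f : Fr Q v w p q) : ↥(E Q) := f.Bm 3 * (f.Am 1 * f.Bm 1 * f.Am (-1))

theorem kk_apply (x : V) : (f.kk : V ≃ₗ[F] V) x = x + polar Q w x • (p - v) + polar Q v x • (q - (2 : F) • w) -
    polar Q q x • (v + (2 : F) • p) - polar Q p x • (w + q) := by
  rw [kk]; frs f; module

theorem kk_v : (f.kk : V ≃ₗ[F] V) v = p := by
  rw [kk_apply]; frs f; module

theorem kk_p : (f.kk : V ≃ₗ[F] V) p = -v - p := by
  rw [kk_apply]; frs f; module

theorem kk_cube : f.kk ^ 3 = 1 := by
  apply extE; intro x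
  rw [pow_three, mulE, mulE, f.kk_apply, f.kk_apply, f.kk_apply]
  frs f
  change _ = x
  module

end Fr

end Cfsg.Agent.H442.RC.TriB
end

-- part: H442/RC/SC
section
/-!
# S3510, triality: local triality for a symmetric composition `dia τ`

`Pr τ v w` : `v ⋄ v = 0 = w ⋄ w`, `b(v, w) = 1`; then `v, w, v ⋄ w, w ⋄ v` is a hyperbolic frame.
`tri_sieg` : `S (x ⋄ y) = S' x ⋄ S'' y`.
-/

set_option autoImplicit false
set_option linter.unusedSectionVars false

namespace Cfsg.Agent.H442.RC.TriB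

open Module QuadraticMap Cfsg.Agent.LieClassical.OrthCore Cfsg.Agent.LieClassical.OrthTrans
  Cfsg.Agent.LieClassical.OrthSimple Cfsg.Agent.ClassicalGeometry.OrthAut1
  Cfsg.Agent.ClassicalGeometry.OrthSemi Cfsg.Agent.H198.Classes
  Cfsg.Agent.LieClassical.QuadForms Cfsg.Agent.H198.ClassesPlus
  Cfsg.Agent.ClassicalGeometry.TrialityOct Cfsg.Agent.ClassicalGeometry.Triality
  Cfsg.Agent.ClassicalGeometry.TrialitySpaces Cfsg.Agent.H198.TriBase Cfsg.Agent.H198.TriAut
  Cfsg.Agent.H198.TriDia Cfsg.Agent.H566.RC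

universe u

variable {F : Type u} [Field F] {τ : G8 F}

/-- a pair of opposite nilpotent elements -/
structure Pr (τ : G8 F) (v w : V8 F) : Prop where
  vv : dia τ v v = 0
  ww : dia τ w w = 0
  vw : polar (plusForm 4 F) v w = 1

theorem Pr.symm {v w : V8 F} (k : Pr τ v w) : Pr τ w v := ⟨k.ww, k.vv, by rw [polar_comm, k.vw]⟩

section

variable (h : Au τ) {v w : V8 F}

include h

theorem norm_of_dia {v : V8 F} (hv : dia τ v v = 0) : plusForm 4 F v = 0 := by
  have h1 := h.dia_norm v v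
  rw [hv, QuadraticMap.map_zero] at h1
  exact mul_self_eq_zero.1 h1.symm

theorem dia_zero_right (u : V8 F) : dia τ u 0 = 0 := by
  have h1 := h.dia_add_right u 0 0
  rw [add_zero] at h1
  exact left_eq_add.1 h1

theorem dia_zero_left (u : V8 F) : dia τ 0 u = 0 := by
  have h1 := h.dia_add_left 0 0 u
  rw [add_zero] at h1
  exact left_eq_add.1 h1

variable (k : Pr τ v w)

include k

/-- products -/
theorem p_v : dia τ (dia τ v w) v = 0 := by rw [h.dia_dia, norm_of_dia h k.vv, zero_smul]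
theorem v_q : dia τ v (dia τ w v) = 0 := by rw [h.dia_dia', norm_of_dia h k.vv, zero_smul]
theorem w_p : dia τ w (dia τ v w) = 0 := by rw [h.dia_dia', norm_of_dia h k.ww, zero_smul]
theorem q_w : dia τ (dia τ w v) w = 0 := by rw [h.dia_dia, norm_of_dia h k.ww, zero_smul]

theorem v_p : dia τ v (dia τ v w) = v := by
  have h1 := h.lin2 v v w
  rw [k.vv, dia_zero_right h, add_zero, k.vw, one_smul] at h1
  exact h1

theorem q_v : dia τ (dia τ w v) v = v := by
  have h1 := h.lin1 w v v
  rw [k.vv, dia_zero_left h, add_zero, polar_comm, k.vw, one_smul] at h1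
  exact h1

theorem w_q : dia τ w (dia τ w v) = w := v_p h k.symm

theorem p_w : dia τ (dia τ v w) w = w := q_v h k.symm

theorem p_p : dia τ (dia τ v w) (dia τ v w) = -dia τ w v := by
  have h1 := h.lin1 v w (dia τ v w)
  rw [p_w h k] at h1
  rw [← h.assoc, k.vv, polar_zero_left, zero_smul] at h1
  exact eq_neg_of_add_eq_zero_left h1

theorem q_q : dia τ (dia τ w v) (dia τ w v) = -dia τ v w := p_p h k.symm

theorem p_q : dia τ (dia τ v w) (dia τ w v) = 0 := by
  have h1 := h.lin1 v w (dia τ w v)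
  rw [q_w h k, dia_zero_left h, add_zero] at h1
  rw [h1, polar_comm, h.assoc, k.vv, polar_zero_right, zero_smul]

theorem q_p : dia τ (dia τ w v) (dia τ v w) = 0 := p_q h k.symm

theorem frame : Fr (plusForm 4 F) v w (dia τ v w) (dia τ w v) := by
  have hv := norm_of_dia h k.vv
  have hw := norm_of_dia h k.ww
  refine ⟨hv, hw, by rw [h.dia_norm, hv, zero_mul], by rw [h.dia_norm, hv, mul_zero], k.vw, ?_, ?_, ?_, ?_, ?_⟩
  · rw [h.assoc, w_q h k, k.vw]
  · rw [← h.assoc, k.vv, polar_zero_left]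
  · rw [polar_comm, h.assoc, k.vv, polar_zero_right]
  · rw [polar_comm, h.assoc, k.ww, polar_zero_right]
  · rw [← h.assoc, k.ww, polar_zero_left]

end

section tri

variable (h : Au τ) {a b : V8 F}

include h

theorem polar_left (b x z : V8 F) : polar (plusForm 4 F) (dia τ b x) (dia τ b z) =
    plusForm 4 F b * polar (plusForm 4 F) x z := by
  rw [polar_comm, ← h.assoc, h.dia_dia, polar_smul_left, smul_eq_mul, polar_comm]

theorem polar_right (b x z : V8 F) : polar (plusForm 4 F) (dia τ x b) (dia τ z b) =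
    plusForm 4 F b * polar (plusForm 4 F) x z := by
  rw [h.assoc, h.dia_dia', polar_smul_right, smul_eq_mul]

theorem neg_left (x y : V8 F) : dia τ (-x) y = -dia τ x y := by
  rw [← neg_one_smul F x, h.dia_smul_left, neg_one_smul]

theorem neg_right (x y : V8 F) : dia τ x (-y) = -dia τ x y := by
  rw [← neg_one_smul F y, h.dia_smul_right, neg_one_smul]

theorem sub_left (x x' y : V8 F) : dia τ (x - x') y = dia τ x y - dia τ x' y := by
  rw [sub_eq_add_neg, h.dia_add_left, neg_left h, sub_eq_add_neg]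

theorem sub_right (x y y' : V8 F) : dia τ x (y - y') = dia τ x y - dia τ x y' := by
  rw [sub_eq_add_neg, h.dia_add_right, neg_right h, sub_eq_add_neg]

/-- **local triality** for a Siegel element -/
theorem tri_sieg (ha : plusForm 4 F a = 0) (hb : plusForm 4 F b = 0) (hab : polar (plusForm 4 F) a b = 0) (x y : V8 F) :
    dia τ x y + polar (plusForm 4 F) a (dia τ x y) • b - polar (plusForm 4 F) b (dia τ x y) • a =
      dia τ (x - dia τ (dia τ b x) a) (y - dia τ a (dia τ y b)) := by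
  have t0 : dia τ a (dia τ y b) = -dia τ b (dia τ y a) := by
    have h1 := h.lin2 a y b
    rw [hab, zero_smul] at h1
    exact eq_neg_of_add_eq_zero_left h1
  have t1 : dia τ (dia τ (dia τ b x) a) (dia τ a (dia τ y b)) = 0 := by
    have h1 := h.lin1 (dia τ b x) a (dia τ a (dia τ y b))
    rw [h.dia_dia, ha, zero_smul, dia_zero_left h, add_zero] at h1
    rw [h1, t0, polar_neg_right, polar_left h, hb, zero_mul, neg_zero, zero_smul]
  have t2 : dia τ (dia τ a x) b = -dia τ (dia τ b x) a := by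
    have h1 := h.lin1 a x b
    rw [hab, zero_smul] at h1
    exact eq_neg_of_add_eq_zero_left h1
  have t3 := h.lin1 y b (dia τ a x)
  rw [t2, neg_left h] at t3
  have t4 := h.lin2 x a (dia τ y b)
  have t5 : polar (plusForm 4 F) y (dia τ a x) = polar (plusForm 4 F) a (dia τ x y) := by
    rw [polar_comm, h.assoc]
  have t6 : polar (plusForm 4 F) x (dia τ y b) = polar (plusForm 4 F) b (dia τ x y) := by
    rw [← h.assoc, polar_comm]
  rw [t5] at t3
  rw [t6] at t4
  have t7 : dia τ (dia τ y b) (dia τ a x) = polar (plusForm 4 F) a (dia τ x y) • b + dia τ (dia τ (dia τ b x) a) y := by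
    rw [← t3]; abel
  rw [t7] at t4
  have t8 : dia τ x (dia τ a (dia τ y b)) = polar (plusForm 4 F) b (dia τ x y) • a -
      (polar (plusForm 4 F) a (dia τ x y) • b + dia τ (dia τ (dia τ b x) a) y) := by
    rw [← t4]; abel
  rw [sub_left h, sub_right h, sub_right h, t1, t8]
  abel

/-- `(p ⋄ x) ⋄ v = b(v, x) q - b(q, x) v` for `p = v ⋄ w`, `q = w ⋄ v` -/
theorem px_v {v w : V8 F} (k : Pr τ v w) (x : V8 F) : dia τ (dia τ (dia τ v w) x) v =
    polar (plusForm 4 F) v x • dia τ w v - polar (plusForm 4 F) (dia τ w v) x • v := by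
  have h1 := h.lin1 v w x
  have h2 := h.lin1 (dia τ x w) v v
  rw [k.vv, dia_zero_left h, add_zero] at h2
  have h3 : dia τ (dia τ v w) x = polar (plusForm 4 F) v x • w - dia τ (dia τ x w) v := by
    rw [← h1]; abel
  rw [h3, sub_left h, h.dia_smul_left, h2, h.assoc, polar_comm _ x]

end tri

end Cfsg.Agent.H442.RC.TriB
end

-- part: H442/RC/XT
section
/-!
# S3510, triality: the images of Siegel elements under `xt hG τ`
-/

set_option autoImplicit false
set_option linter.unusedSectionVars false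

namespace Cfsg.Agent.H442.RC.TriB

open Module QuadraticMap Cfsg.Agent.LieClassical.OrthCore Cfsg.Agent.LieClassical.OrthTrans
  Cfsg.Agent.LieClassical.OrthSimple Cfsg.Agent.ClassicalGeometry.OrthAut1
  Cfsg.Agent.ClassicalGeometry.OrthSemi Cfsg.Agent.H198.Classes
  Cfsg.Agent.LieClassical.QuadForms Cfsg.Agent.H198.ClassesPlus
  Cfsg.Agent.ClassicalGeometry.TrialityOct Cfsg.Agent.ClassicalGeometry.Triality
  Cfsg.Agent.ClassicalGeometry.TrialitySpaces Cfsg.Agent.H198.TriBase Cfsg.Agent.H198.TriAut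
  Cfsg.Agent.H198.TriDia Cfsg.Agent.H566.RC Cfsg.Agent.AutOrth.SemiSim

universe u

variable {F : Type u} [Field F] {τ : G8 F}

theorem appG (M N : G8 F) (x : V8 F) : (M * N).1 x = M.1 (N.1 x) := rfl

theorem inv_appG (M : G8 F) (x : V8 F) : M⁻¹.1 (M.1 x) = x := M.1.symm_apply_apply x

theorem app_invG (M : G8 F) (x : V8 F) : M.1 (M⁻¹.1 x) = x := M.1.apply_symm_apply x

/-- **the images under the triality automorphism** -/
theorem xt_psi (hG : Good (plusForm 4 F)) (h : Au τ) {M M₁ M₂ : G8 F}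
    (hM : ∀ x y, M.1 (dia τ x y) = dia τ (M₁.1 x) (M₂.1 y)) :
    xt hG τ * Psi (plusForm 4 F) M * (xt hG τ)⁻¹ = Psi (plusForm 4 F) M₁ := by
  have hkk : ∀ x : V8 F, (kapG F).1 x = oconj x := kapG_apply
  have hT : TriS M (τ⁻¹ * (kapG F * M₁ * kapG F) * τ) (τ * (kapG F * M₂ * kapG F) * τ⁻¹) := by
    intro x y
    have e1 : omul x y = dia τ (oconj (τ.1 x)) (oconj (τ⁻¹.1 y)) := by
      rw [dia, oconj_oconj, oconj_oconj, inv_appG, app_invG]
    rw [e1, hM, dia]
    simp only [appG, hkk]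
  have h1 := rho_conj hG hT
  have e2 : kapG F * (τ⁻¹ * (kapG F * M₁ * kapG F) * τ) * kapG F = τ⁻¹ * M₁ * τ := by
    have hk := aut_kap h.tri
    have hk2 : kapG F * τ⁻¹ * kapG F = τ⁻¹ := aut_kap h.tri.inv
    calc kapG F * (τ⁻¹ * (kapG F * M₁ * kapG F) * τ) * kapG F
        = (kapG F * τ⁻¹ * kapG F) * M₁ * (kapG F * τ * kapG F) := by group
      _ = _ := by rw [hk, hk2]
  simp only [e2] at h1
  simp only [xt]
  have e3 : Psi (plusForm 4 F) τ * rho hG * Psi (plusForm 4 F) M * (Psi (plusForm 4 F) τ * rho hG)⁻¹ =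
      Psi (plusForm 4 F) τ * (rho hG * Psi (plusForm 4 F) M * (rho hG)⁻¹) * (Psi (plusForm 4 F) τ)⁻¹ := by group
  simp only [e3, h1, ← map_inv (Psi (plusForm 4 F)), ← map_mul (Psi (plusForm 4 F)), ← map_mul (Psi (plusForm 4 F))]
  congr 1
  group

section sieg

variable (h : Au τ) {a b : V8 F} (ha : plusForm 4 F a = 0) (hb : plusForm 4 F b = 0)
  (hab : polar (plusForm 4 F) a b = 0)

theorem S1_aux (h : Au τ) (hb : plusForm 4 F b = 0) (hab : polar (plusForm 4 F) a b = 0) (x : V8 F) :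
    dia τ b (dia τ (dia τ b x) a) = 0 := by
  have h1 := h.lin2 b (dia τ b x) a
  rw [h.dia_dia, hb, zero_smul, dia_zero_right h, add_zero, polar_comm, hab, zero_smul] at h1
  exact h1

theorem S2_aux (h : Au τ) (hb : plusForm 4 F b = 0) (hab : polar (plusForm 4 F) a b = 0) (x : V8 F) :
    dia τ (dia τ a (dia τ x b)) b = 0 := by
  have h1 := h.lin1 a (dia τ x b) b
  rw [h.dia_dia', hb, zero_smul, dia_zero_left h, add_zero, hab, zero_smul] at h1
  exact h1

/-- `x ↦ x - (b ⋄ x) ⋄ a` -/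
def S1 (h : Au τ) (ha : plusForm 4 F a = 0) (hb : plusForm 4 F b = 0) (hab : polar (plusForm 4 F) a b = 0) : G8 F :=
  ⟨{ toFun := fun x => x - dia τ (dia τ b x) a
     invFun := fun x => x + dia τ (dia τ b x) a
     left_inv := fun x => by
       change (x - dia τ (dia τ b x) a) + dia τ (dia τ b (x - dia τ (dia τ b x) a)) a = x
       rw [sub_right h, sub_left h, S1_aux h hb hab, dia_zero_left h, sub_zero, sub_add_cancel]
     right_inv := fun x => by
       change (x + dia τ (dia τ b x) a) - dia τ (dia τ b (x + dia τ (dia τ b x) a)) a = x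
       rw [h.dia_add_right, h.dia_add_left, S1_aux h hb hab, dia_zero_left h, add_zero, add_sub_cancel_right] },
   RingEquiv.refl F, 1, one_ne_zero, fun x y => by
     change (x + y) - dia τ (dia τ b (x + y)) a = (x - dia τ (dia τ b x) a) + (y - dia τ (dia τ b y) a)
     rw [h.dia_add_right, h.dia_add_left]; abel,
   fun c x => by
     change (c • x) - dia τ (dia τ b (c • x)) a = c • (x - dia τ (dia τ b x) a)
     rw [h.dia_smul_right, h.dia_smul_left, smul_sub],
   fun x => by
     change plusForm 4 F (x - dia τ (dia τ b x) a) = 1 * plusForm 4 F x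
     have h1 : polar (plusForm 4 F) x (dia τ (dia τ b x) a) = 0 := by
       rw [polar_comm, h.assoc, polar_right h, polar_comm _ b, hab, mul_zero]
     rw [sub_eq_add_neg, QuadraticMap.map_add (plusForm 4 F), QuadraticMap.map_neg, h.dia_norm, ha, mul_zero,
       polar_neg_right, h1]
     ring⟩

theorem S1_apply (x : V8 F) : (S1 h ha hb hab).1 x = x - dia τ (dia τ b x) a := rfl

/-- `x ↦ x - a ⋄ (x ⋄ b)` -/
def S2 (h : Au τ) (ha : plusForm 4 F a = 0) (hb : plusForm 4 F b = 0) (hab : polar (plusForm 4 F) a b = 0) : G8 F :=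
  ⟨{ toFun := fun x => x - dia τ a (dia τ x b)
     invFun := fun x => x + dia τ a (dia τ x b)
     left_inv := fun x => by
       change (x - dia τ a (dia τ x b)) + dia τ a (dia τ (x - dia τ a (dia τ x b)) b) = x
       rw [sub_left h, sub_right h, S2_aux h hb hab, dia_zero_right h, sub_zero, sub_add_cancel]
     right_inv := fun x => by
       change (x + dia τ a (dia τ x b)) - dia τ a (dia τ (x + dia τ a (dia τ x b)) b) = x
       rw [h.dia_add_left, h.dia_add_right, S2_aux h hb hab, dia_zero_right h, add_zero, add_sub_cancel_right] },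
   RingEquiv.refl F, 1, one_ne_zero, fun x y => by
     change (x + y) - dia τ a (dia τ (x + y) b) = (x - dia τ a (dia τ x b)) + (y - dia τ a (dia τ y b))
     rw [h.dia_add_left, h.dia_add_right]; abel,
   fun c x => by
     change (c • x) - dia τ a (dia τ (c • x) b) = c • (x - dia τ a (dia τ x b))
     rw [h.dia_smul_left, h.dia_smul_right, smul_sub],
   fun x => by
     change plusForm 4 F (x - dia τ a (dia τ x b)) = 1 * plusForm 4 F x
     have h1 : polar (plusForm 4 F) x (dia τ a (dia τ x b)) = 0 := by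
       rw [← h.assoc, polar_left h, hab, mul_zero]
     rw [sub_eq_add_neg, QuadraticMap.map_add (plusForm 4 F), QuadraticMap.map_neg, h.dia_norm, ha, zero_mul,
       polar_neg_right, h1]
     ring⟩

theorem S2_apply (x : V8 F) : (S2 h ha hb hab).1 x = x - dia τ a (dia τ x b) := rfl

/-- **image of a Siegel element** -/
theorem xt_sg (hG : Good (plusForm 4 F)) :
    xt hG τ * Psi (plusForm 4 F) (Cfsg.Agent.H93.RC.tg (plusForm 4 F) (sg (plusForm 4 F) a b ha hab)) * (xt hG τ)⁻¹ =
      Psi (plusForm 4 F) (S1 h ha hb hab) := by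
  apply xt_psi hG h (M₂ := S2 h ha hb hab)
  intro x y
  rw [S1_apply, S2_apply, ← tri_sieg h ha hb hab, Cfsg.Agent.H93.RC.tg_apply, sg_apply, hb]
  simp only [_root_.MulZeroClass.zero_mul, _root_.zero_smul, _root_.sub_zero]

end sieg

/-- exact automorphisms are isometries -/
theorem isom_of_dia (h : Au τ) {M : G8 F} (hl : Cfsg.Agent.H198.TriDia.IsLin M)
    (hd : ∀ x y, M.1 (dia τ x y) = dia τ (M.1 x) (M.1 y)) (x : V8 F) :
    plusForm 4 F (M.1 x) = plusForm 4 F x := by
  obtain ⟨c, hc⟩ := hl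
  have h1 : ∀ y : V8 F, (plusForm 4 F (M.1 x) - plusForm 4 F x) • M.1 y = 0 := by
    intro y
    rw [sub_smul, ← h.dia_dia, ← hd, ← hd, h.dia_dia, hc.smul]
    simp
  obtain ⟨y, hy⟩ := M.1.surjective (one8 F)
  have h2 := h1 y
  rw [hy] at h2
  rcases smul_eq_zero.1 h2 with h4 | h4
  · exact sub_eq_zero.1 h4
  · exfalso
    have h5 := norm_one8 (F := F)
    rw [h4, QuadraticMap.map_zero] at h5
    exact zero_ne_one h5

end Cfsg.Agent.H442.RC.TriB
end

-- part: H442/RC/K1
section
/-!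
# S3510, triality: the first kill lemma

`kill_one`: `x i₁` a linear triality automorphism `xt hG τ`, all other members `p'`-elements whose exact lifts fix
an opposite pair `v, w` (`v ⋄ v = 0 = w ⋄ w`, `b(v, w) = 1`), `p ≠ 3`: no cover.
-/

set_option autoImplicit false
set_option linter.unusedSectionVars false

namespace Cfsg.Agent.H442.RC.TriB

open Module QuadraticMap Cfsg.Agent.LieClassical.OrthCore Cfsg.Agent.LieClassical.OrthTrans
  Cfsg.Agent.LieClassical.OrthSimple Cfsg.Agent.ClassicalGeometry.OrthAut1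
  Cfsg.Agent.ClassicalGeometry.OrthSemi Cfsg.Agent.H198.Classes
  Cfsg.Agent.LieClassical.QuadForms Cfsg.Agent.H198.ClassesPlus
  Cfsg.Agent.ClassicalGeometry.TrialityOct Cfsg.Agent.ClassicalGeometry.Triality
  Cfsg.Agent.ClassicalGeometry.TrialitySpaces Cfsg.Agent.H198.TriBase Cfsg.Agent.H198.TriAut
  Cfsg.Agent.H198.TriDia Cfsg.Agent.H566.RC Cfsg.Agent.AutOrth.SemiSim Cfsg.Agent.H106.RC Cfsg.Agent.H93.RC

universe u

variable {F : Type u} [Field F]

/-! ### Lifts -/

section lifts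

variable {G Ω : Type*} [Group G] [MulAction G Ω] {N : Subgroup G} {σ : P8 F →* G}

theorem comm_of_lf (hE : Env G Ω N) (hσ : Rp (plusForm 4 F) N σ) {X Y : G} {A B : G8 F} (hX : Lf (up σ) X A)
    (hY : Lf (up σ) Y B) (h : A * B = B * A) : X * Y = Y * X := by
  have h1 := La.lf.2 (hX.mul hY)
  have h2 := La.lf.2 (hY.mul hX)
  simp only [h] at h1
  exact La.eq hE hσ h1 h2

theorem eq_of_lf (hE : Env G Ω N) (hσ : Rp (plusForm 4 F) N σ) {X Y : G} {A : G8 F} (hX : Lf (up σ) X A)
    (hY : Lf (up σ) Y A) : X = Y := La.eq hE hσ (La.lf.2 hX) (La.lf.2 hY)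

end lifts

/-! ### Elements fixing the frame -/

/-- linear isometry fixing the frame -/
structure Fix4 (H : G8 F) (v w p q : V8 F) : Prop where
  ss : IsSS (plusForm 4 F) (RingEquiv.refl F) 1 H.1
  fv : H.1 v = v
  fw : H.1 w = w
  fp : H.1 p = p
  fq : H.1 q = q

theorem ss_polar {H : G8 F} (hs : IsSS (plusForm 4 F) (RingEquiv.refl F) 1 H.1) (x y : V8 F) :
    polar (plusForm 4 F) (H.1 x) (H.1 y) = polar (plusForm 4 F) x y := by
  simp only [QuadraticMap.polar]
  rw [← hs.add, hs.form, hs.form, hs.form]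
  simp only [_root_.RingEquiv.refl_apply, _root_.one_mul]

theorem ss_smul {H : G8 F} (hs : IsSS (plusForm 4 F) (RingEquiv.refl F) 1 H.1) (c : F) (x : V8 F) :
    H.1 (c • x) = c • H.1 x := hs.smul c x

section fix

variable {H K : G8 F} {v w p q : V8 F}

theorem Fix4.mul (hH : Fix4 H v w p q) (hK : Fix4 K v w p q) : Fix4 (H * K) v w p q := by
  refine ⟨?_, ?_, ?_, ?_, ?_⟩
  · have h1 := hH.ss.mul hK.ss
    rw [map_one, mul_one] at h1
    exact h1
  · rw [appG, hK.fv, hH.fv]
  · rw [appG, hK.fw, hH.fw]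
  · rw [appG, hK.fp, hH.fp]
  · rw [appG, hK.fq, hH.fq]

theorem extG {A B : G8 F} (h : ∀ x, A.1 x = B.1 x) : A = B := Subtype.ext (Equiv.ext h)

theorem tgE (β : ↥(E (plusForm 4 F))) (x : V8 F) : (tg (plusForm 4 F) β).1 x = (β : V8 F ≃ₗ[F] V8 F) x := rfl

theorem Fix4.pol_v (hH : Fix4 H v w p q) (x : V8 F) : polar (plusForm 4 F) v (H.1 x) = polar (plusForm 4 F) v x := by
  conv_lhs => rw [← hH.fv]
  exact ss_polar hH.ss v x
theorem Fix4.pol_w (hH : Fix4 H v w p q) (x : V8 F) : polar (plusForm 4 F) w (H.1 x) = polar (plusForm 4 F) w x := by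
  conv_lhs => rw [← hH.fw]
  exact ss_polar hH.ss w x
theorem Fix4.pol_p (hH : Fix4 H v w p q) (x : V8 F) : polar (plusForm 4 F) p (H.1 x) = polar (plusForm 4 F) p x := by
  conv_lhs => rw [← hH.fp]
  exact ss_polar hH.ss p x
theorem Fix4.pol_q (hH : Fix4 H v w p q) (x : V8 F) : polar (plusForm 4 F) q (H.1 x) = polar (plusForm 4 F) q x := by
  conv_lhs => rw [← hH.fq]
  exact ss_polar hH.ss q x

theorem Fix4.comm_Am (hH : Fix4 H v w p q) (f : Fr (plusForm 4 F) v w p q) (t : F) :
    H * tg (plusForm 4 F) (f.Am t) = tg (plusForm 4 F) (f.Am t) * H := by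
  apply extG; intro x
  rw [appG, appG, tgE, tgE, f.Am_apply, f.Am_apply, hH.ss.sub, hH.ss.add, ss_smul hH.ss, ss_smul hH.ss, hH.fq, hH.fv,
    hH.pol_v, hH.pol_q]

theorem Fix4.comm_Bm (hH : Fix4 H v w p q) (f : Fr (plusForm 4 F) v w p q) (t : F) :
    H * tg (plusForm 4 F) (f.Bm t) = tg (plusForm 4 F) (f.Bm t) * H := by
  apply extG; intro x
  rw [appG, appG, tgE, tgE, f.Bm_apply, f.Bm_apply, hH.ss.sub, hH.ss.add, ss_smul hH.ss, ss_smul hH.ss, hH.fp, hH.fw,
    hH.pol_w, hH.pol_p]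

theorem Fix4.comm_Ap (hH : Fix4 H v w p q) (f : Fr (plusForm 4 F) v w p q) (t : F) :
    H * tg (plusForm 4 F) (f.Ap t) = tg (plusForm 4 F) (f.Ap t) * H := by
  apply extG; intro x
  rw [appG, appG, tgE, tgE, f.Ap_apply, f.Ap_apply, hH.ss.add, hH.ss.sub, ss_smul hH.ss, ss_smul hH.ss, hH.fp, hH.fv,
    hH.pol_v, hH.pol_p]

theorem Fix4.comm_Bp (hH : Fix4 H v w p q) (f : Fr (plusForm 4 F) v w p q) (t : F) :
    H * tg (plusForm 4 F) (f.Bp t) = tg (plusForm 4 F) (f.Bp t) * H := by
  apply extG; intro x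
  rw [appG, appG, tgE, tgE, f.Bp_apply, f.Bp_apply, hH.ss.add, hH.ss.sub, ss_smul hH.ss, ss_smul hH.ss, hH.fq, hH.fw,
    hH.pol_w, hH.pol_q]

theorem comm_mul {G : Type*} [Group G] {a b c : G} (h1 : a * b = b * a) (h2 : a * c = c * a) :
    a * (b * c) = b * c * a := by
  rw [← mul_assoc, h1, mul_assoc, h2, mul_assoc]

theorem Fix4.comm_kk (hH : Fix4 H v w p q) (f : Fr (plusForm 4 F) v w p q) :
    H * tg (plusForm 4 F) f.kk = tg (plusForm 4 F) f.kk * H := by
  simp only [Fr.kk, map_mul (tg (plusForm 4 F)), map_mul (tg (plusForm 4 F)), map_mul (tg (plusForm 4 F))]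
  exact comm_mul (hH.comm_Bm f 3) (comm_mul (comm_mul (hH.comm_Am f 1) (hH.comm_Bm f 1)) (hH.comm_Am f (-1)))

end fix

/-! ### Images under the triality automorphism -/

section im

variable {τ : G8 F} (hG : Good (plusForm 4 F)) (h : Au τ) {v w : V8 F} (k : Pr τ v w)

/-- the image of `β` has a lift fixing the frame -/
def Im (hG : Good (plusForm 4 F)) (τ : G8 F) (v w : V8 F) (β : ↥(E (plusForm 4 F))) : Prop :=
  ∃ H : G8 F, Fix4 H v w (dia τ v w) (dia τ w v) ∧
    xt hG τ * Psi (plusForm 4 F) (tg (plusForm 4 F) β) * (xt hG τ)⁻¹ = Psi (plusForm 4 F) H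

theorem gen_c {G : Type*} [Group G] (x a b : G) : x * (a * b) * x⁻¹ = x * a * x⁻¹ * (x * b * x⁻¹) := by group

theorem Im.mul {β γ : ↥(E (plusForm 4 F))} (hβ : Im hG τ v w β) (hγ : Im hG τ v w γ) : Im hG τ v w (β * γ) := by
  obtain ⟨H, hH, h1⟩ := hβ
  obtain ⟨K, hK, h2⟩ := hγ
  refine ⟨H * K, hH.mul hK, ?_⟩
  exact (congrArg (fun z => xt hG τ * z * (xt hG τ)⁻¹) ((congrArg (Psi (plusForm 4 F))
    (map_mul (tg (plusForm 4 F)) β γ)).trans (map_mul (Psi (plusForm 4 F)) _ _))).trans ((gen_c _ _ _).trans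
      ((congrArg₂ (· * ·) h1 h2).trans (map_mul (Psi (plusForm 4 F)) H K).symm))

include h k

theorem fix_S1 {a b : V8 F} (ha : plusForm 4 F a = 0) (hb : plusForm 4 F b = 0) (hab : polar (plusForm 4 F) a b = 0)
    (h1 : dia τ (dia τ b v) a = 0) (h2 : dia τ (dia τ b w) a = 0) (h3 : dia τ (dia τ b (dia τ v w)) a = 0)
    (h4 : dia τ (dia τ b (dia τ w v)) a = 0) : Fix4 (S1 h ha hb hab) v w (dia τ v w) (dia τ w v) := by
  refine ⟨?_, ?_, ?_, ?_, ?_⟩
  · exact ⟨one_ne_zero, fun x y => by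
      rw [S1_apply, S1_apply, S1_apply, h.dia_add_right, h.dia_add_left]; abel, fun c x => by
      rw [S1_apply, S1_apply, h.dia_smul_right, h.dia_smul_left, smul_sub]; rfl, fun x => by
      have h1 : polar (plusForm 4 F) x (dia τ (dia τ b x) a) = 0 := by
        rw [polar_comm, h.assoc, polar_right h, polar_comm _ b, hab, mul_zero]
      rw [S1_apply, sub_eq_add_neg, QuadraticMap.map_add (plusForm 4 F), QuadraticMap.map_neg, h.dia_norm, ha, mul_zero,
        polar_neg_right, h1]
      simp⟩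
  · rw [S1_apply, h1, sub_zero]
  · rw [S1_apply, h2, sub_zero]
  · rw [S1_apply, h3, sub_zero]
  · rw [S1_apply, h4, sub_zero]

theorem im_Am (t : F) : Im hG τ v w ((frame h k).Am t) := by
  have hv := norm_of_dia h k.vv
  have hb : plusForm 4 F (t • dia τ w v) = 0 := by
    rw [QuadraticMap.map_smul, (frame h k).Qq, smul_zero]
  refine ⟨S1 h hv hb ((frame h k).vtq t), ?_, xt_sg h hv hb _ hG⟩
  apply fix_S1 h k
  · rw [h.dia_smul_left, h.dia_smul_left, q_v h k, k.vv, smul_zero]
  · rw [h.dia_smul_left, h.dia_smul_left, q_w h k, dia_zero_left h, smul_zero]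
  · rw [h.dia_smul_left, h.dia_smul_left, q_p h k, dia_zero_left h, smul_zero]
  · rw [h.dia_smul_left, h.dia_smul_left, q_q h k, neg_left h, p_v h k, neg_zero, smul_zero]

theorem im_Bm (t : F) : Im hG τ v w ((frame h k).Bm t) := by
  have hw := norm_of_dia h k.ww
  have hb : plusForm 4 F (t • dia τ v w) = 0 := by
    rw [QuadraticMap.map_smul, (frame h k).Qp, smul_zero]
  refine ⟨S1 h hw hb ((frame h k).wtp t), ?_, xt_sg h hw hb _ hG⟩
  apply fix_S1 h k
  · rw [h.dia_smul_left, h.dia_smul_left, p_v h k, dia_zero_left h, smul_zero]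
  · rw [h.dia_smul_left, h.dia_smul_left, p_w h k, k.ww, smul_zero]
  · rw [h.dia_smul_left, h.dia_smul_left, p_p h k, neg_left h, q_w h k, neg_zero, smul_zero]
  · rw [h.dia_smul_left, h.dia_smul_left, p_q h k, dia_zero_left h, smul_zero]

theorem im_kk : Im hG τ v w (frame h k).kk := by
  rw [Fr.kk]
  exact (im_Bm hG h k 3).mul hG (((im_Am hG h k 1).mul hG (im_Bm hG h k 1)).mul hG (im_Am hG h k (-1)))

end im

theorem M_fix4 {τ : G8 F} (h : Au τ) {v w : V8 F} {M : G8 F} (hl : Cfsg.Agent.H198.TriDia.IsLin M)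
    (hd : ∀ x y, M.1 (dia τ x y) = dia τ (M.1 x) (M.1 y)) (hv : M.1 v = v) (hw : M.1 w = w) :
    Fix4 M v w (dia τ v w) (dia τ w v) := by
  have h1 := isom_of_dia h hl hd
  obtain ⟨c, hc⟩ := hl
  refine ⟨⟨one_ne_zero, hc.add, hc.smul, fun x => ?_⟩, hv, hw, by rw [hd, hv, hw], by rw [hd, hv, hw]⟩
  rw [h1, one_mul]
  rfl

/-- **kill lemma 1** -/
theorem kill_one [Finite F] {G Ω : Type*} [Group G] [Finite G] [MulAction G Ω] [Nonempty Ω] {N : Subgroup G}
    {σ : P8 F →* G} (hG : Good (plusForm 4 F)) (hE : Env G Ω N) (hσ : Rp (plusForm 4 F) N σ) {p : ℕ} [CharP F p]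
    (hp3 : p ≠ 3) {ι : Type*} [Finite ι] {x : ι → G} {r : ι → ℕ} {i₁ : ι}
    (hr : ∀ j, j ≠ i₁ → (r j).Prime) (hx : ∀ j, j ≠ i₁ → x j ^ r j = 1) (hx1 : ∀ j, j ≠ i₁ → x j ≠ 1)
    (hrp : ∀ j, j ≠ i₁ → r j ≠ p) (hc : ∀ i j, x i * x j = x j * x i) (hcov : Cov Ω x)
    {τ : G8 F} (h : Au τ) (hL : La σ (x i₁) (xt hG τ))
    {M : ι → G8 F} (hM : ∀ j, j ≠ i₁ → Lf (up σ) (x j) (M j))
    (hl : ∀ j, j ≠ i₁ → Cfsg.Agent.H198.TriDia.IsLin (M j))
    (hd : ∀ j, j ≠ i₁ → ∀ u w, (M j).1 (dia τ u w) = dia τ ((M j).1 u) ((M j).1 w))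
    {v w : V8 F} (k : Pr τ v w) (hv : ∀ j, j ≠ i₁ → (M j).1 v = v) (hw : ∀ j, j ≠ i₁ → (M j).1 w = w) : False := by
  classical
  set! f := frame h k with hf
  have hF : ∀ j, j ≠ i₁ → Fix4 (M j) v w (dia τ v w) (dia τ w v) := fun j hj =>
    M_fix4 h (hl j hj) (hd j hj) (hv j hj) (hw j hj)
  set! κ := f.kk with hκ
  have hκ3 : κ ^ 3 = 1 := f.kk_cube
  set! b := up σ (κ * κ) with hb
  have hbinv : b⁻¹ = up σ κ := by
    rw [inv_eq_iff_mul_eq_one, hb, ← map_mul, ← pow_two, ← pow_succ, hκ3, map_one]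
  obtain ⟨H, hHF, hH⟩ := (im_kk hG h k).mul hG (im_kk hG h k)
  have hbL : Lf (up σ) b (tg (plusForm 4 F) (κ * κ)) := Lf.tg _
  set! b₁ := x i₁ * b * (x i₁)⁻¹ with hb₁
  have hb₁L : Lf (up σ) b₁ H := hL.conj_lf hbL hH
  have hHκ : H * tg (plusForm 4 F) κ = tg (plusForm 4 F) κ * H := hHF.comm_kk f
  have hcb : ∀ j, j ≠ i₁ → b * x j = x j * b := by
    intro j hj
    refine (comm_of_lf hE hσ (hM j hj) hbL ?_).symm
    rw [map_mul (tg (plusForm 4 F))]
    exact comm_mul ((hF j hj).comm_kk f) ((hF j hj).comm_kk f)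
  have hbb : b * b₁ = b₁ * b := by
    refine (comm_of_lf hE hσ hb₁L hbL ?_).symm
    rw [map_mul (tg (plusForm 4 F))]
    exact comm_mul hHκ hHκ
  have hb3 : b ^ 3 = 1 := by
    rw [hb, ← map_pow, ← pow_two, ← pow_mul, mul_comm 2 3, pow_mul, hκ3, one_pow, map_one]
  have hb₁3 : b₁ ^ 3 = 1 := by rw [hb₁, conj_pow, hb3, mul_one, mul_inv_cancel]
  set! z := b⁻¹ * b₁ with hz
  have hz3 : z ^ 3 = 1 := by
    have : Commute b⁻¹ b₁ := (show Commute b b₁ from hbb).inv_left
    rw [hz, this.mul_pow, inv_pow, hb3, hb₁3, inv_one, mul_one]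
  have hzL : Lf (up σ) z (tg (plusForm 4 F) κ * H) := by
    rw [hz, hbinv]
    exact (Lf.tg κ).mul hb₁L
  have hzx : ∀ j, j ≠ i₁ → z * x j = x j * z := by
    intro j hj
    have e1 : Commute b (x j) := hcb j hj
    have e2 : Commute (x i₁) (x j) := hc i₁ j
    have e3 : Commute b₁ (x j) := (e2.mul_left e1).mul_left e2.inv_left
    exact (e1.inv_left.mul_left e3).eq
  have hzv : (tg (plusForm 4 F) κ * H).1 v = dia τ v w := by rw [appG, hHF.fv, tgE, hκ, f.kk_v]
  have hzp : (tg (plusForm 4 F) κ * H).1 (dia τ v w) = -v - dia τ v w := by rw [appG, hHF.fp, tgE, hκ, f.kk_p]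
  have hz1 : z ≠ 1 := by
    intro h1
    rw [hzL.eq_one_iff hG hE hσ.rep] at h1
    obtain ⟨a, ha, h2⟩ := h1
    have h3 := h2 v
    rw [hzv] at h3
    have h4 := congrArg (polar (plusForm 4 F) w) h3
    rw [f.wp, polar_smul_right, f.wv, smul_eq_mul, mul_one] at h4
    exact ha h4.symm
  have hZs : ∀ c : F, ∀ y : V8 F, (tg (plusForm 4 F) κ * H).1 (c • y) = c • (tg (plusForm 4 F) κ * H).1 y := by
    intro c y
    rw [appG, appG, ss_smul hHF.ss, tgE, tgE, map_smul]
  have hZa : ∀ y y' : V8 F, (tg (plusForm 4 F) κ * H).1 (y + y') = (tg (plusForm 4 F) κ * H).1 y +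
      (tg (plusForm 4 F) κ * H).1 y' := by
    intro y y'
    rw [appG, appG, appG, hHF.ss.add, tgE, tgE, tgE, map_add]
  have hcov' : Cov Ω (Function.update x i₁ z) := mv_one hcov hcb rfl
  refine H297.RC.box_LR hG hE hσ.rep (p := p) (y := Function.update x i₁ z)
    (M := Function.update M i₁ (tg (plusForm 4 F) κ * H)) (r := Function.update r i₁ 3) ?_ ?_ ?_ ?_ ?_ ?_
    (u := v) (w := dia τ v w) f.Qv f.Qp f.vp ?_ ?_ ?_ (fun ω => Or.inr (hcov' ω))
  · intro i
    by_cases hi : i = i₁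
    · subst hi; rw [Function.update_self, Function.update_self]; exact hzL
    · rw [Function.update_of_ne hi, Function.update_of_ne hi]; exact hM i hi
  · intro i
    by_cases hi : i = i₁
    · subst hi; rw [Function.update_self]; exact Nat.prime_three
    · rw [Function.update_of_ne hi]; exact hr i hi
  · intro i
    by_cases hi : i = i₁
    · subst hi; rw [Function.update_self]; exact hp3.symm
    · rw [Function.update_of_ne hi]; exact hrp i hi
  · intro i
    by_cases hi : i = i₁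
    · subst hi; rw [Function.update_self, Function.update_self]; exact hz3
    · rw [Function.update_of_ne hi, Function.update_of_ne hi]; exact hx i hi
  · intro i
    by_cases hi : i = i₁
    · subst hi; rw [Function.update_self]; exact hz1
    · rw [Function.update_of_ne hi]; exact hx1 i hi
  · intro i j
    by_cases hi : i = i₁
    · subst hi
      by_cases hj : j = i
      · subst hj; rfl
      · rw [Function.update_self, Function.update_of_ne hj]; exact hzx j hj
    · by_cases hj : j = i₁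
      · subst hj
        rw [Function.update_self, Function.update_of_ne hi]; exact (hzx i hi).symm
      · rw [Function.update_of_ne hi, Function.update_of_ne hj]; exact hc i j
  · intro h0
    have := f.vw
    rw [h0, polar_zero_left] at this
    exact zero_ne_one this
  · intro a ha
    have h1 := congrArg (fun z => polar (plusForm 4 F) z (dia τ w v)) ha
    beta_reduce at h1
    rw [f.pq, polar_smul_left, f.vq, smul_zero] at h1
    exact one_ne_zero h1
  · intro i y hy
    obtain ⟨a, c, rfl⟩ := Submodule.mem_span_pair.1 hy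
    rw [Submodule.mem_span_pair]
    by_cases hi : i = i₁
    · subst hi
      rw [Function.update_self, hZa, hZs, hZs, hzv, hzp]
      exact ⟨-c, a - c, by module⟩
    · rw [Function.update_of_ne hi, (hF i hi).ss.add, ss_smul (hF i hi).ss, ss_smul (hF i hi).ss, (hF i hi).fv,
        (hF i hi).fp]
      exact ⟨a, c, rfl⟩

end Cfsg.Agent.H442.RC.TriB
end

-- part: H442/RC/K2
section
/-!
# S3510, triality: the second kill lemma

`mv3` : replacing `x i` by `A (x i B x i⁻¹)` of order `3`, `A`, `B` commuting with the other members, `(A B) ^ p = 1`.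
`kill_two`: `x i₁` a linear triality automorphism, `x i₀` acts on the frame as `Ap 1 Bp 3 Am 1 Bm 3`, all other members
`p'`-elements whose exact lifts fix the frame.
-/

set_option autoImplicit false
set_option linter.unusedSectionVars false

namespace Cfsg.Agent.H442.RC.TriB

open Module QuadraticMap Cfsg.Agent.LieClassical.OrthCore Cfsg.Agent.LieClassical.OrthTrans
  Cfsg.Agent.LieClassical.OrthSimple Cfsg.Agent.ClassicalGeometry.OrthAut1
  Cfsg.Agent.ClassicalGeometry.OrthSemi Cfsg.Agent.H198.Classes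
  Cfsg.Agent.LieClassical.QuadForms Cfsg.Agent.H198.ClassesPlus
  Cfsg.Agent.ClassicalGeometry.TrialityOct Cfsg.Agent.ClassicalGeometry.Triality
  Cfsg.Agent.ClassicalGeometry.TrialitySpaces Cfsg.Agent.H198.TriBase Cfsg.Agent.H198.TriAut
  Cfsg.Agent.H198.TriDia Cfsg.Agent.H566.RC Cfsg.Agent.AutOrth.SemiSim Cfsg.Agent.H106.RC Cfsg.Agent.H93.RC

universe u

variable {F : Type u} [Field F]

section mv

variable {G Ω ι : Type*} [Group G] [MulAction G Ω] [DecidableEq ι]

/-- the quotient trick -/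
theorem mv3 {x : ι → G} (h : Cov Ω x) (i : ι) {A B : G} (hA : ∀ j, j ≠ i → A * x j = x j * A)
    (hB : ∀ j, j ≠ i → B * x j = x j * B) (hx : ∀ j, x i * x j = x j * x i) {p : ℕ} (hp : p.Coprime 3)
    (h1 : (A * B) ^ p = 1) (h2 : (A * (x i * B * (x i)⁻¹)) ^ 3 = 1) :
    Cov Ω (Function.update x i (A * (x i * B * (x i)⁻¹))) := by
  apply h.mv
  set C := Subgroup.closure {z | ∃ c : G, (∀ j, j ≠ i → c * x j = x j * c) ∧ z = c * x i * c⁻¹} with hC
  let Z : Subgroup G :=
    { carrier := {c | ∀ j, j ≠ i → Commute c (x j)}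
      mul_mem' := fun ha hb j hj => (ha j hj).mul_left (hb j hj)
      one_mem' := fun j _ => Commute.one_left _
      inv_mem' := fun ha j hj => (ha j hj).inv_left }
  have hZ : ∀ c, c ∈ Z ↔ ∀ j, j ≠ i → c * x j = x j * c := fun c => Iff.rfl
  have hAZ : A ∈ Z := hA
  have hBZ : B ∈ Z := hB
  have hyZ : x i ∈ Z := fun j _ => hx j
  let K : Subgroup Z := C.subgroupOf Z
  have hK : K.Normal := by
    constructor
    intro n hn g
    rw [Subgroup.mem_subgroupOf] at hn ⊢
    have h3 : C ≤ C.comap (MulAut.conj (g : G)).toMonoidHom := by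
      rw [hC, Subgroup.closure_le]
      rintro _ ⟨c, hc, rfl⟩
      rw [SetLike.mem_coe, Subgroup.mem_comap]
      apply Subgroup.subset_closure
      refine ⟨g * c, fun j hj => ?_, ?_⟩
      · exact (Commute.mul_left (g.2 j hj) (hc j hj)).eq
      · change (g : G) * (c * x i * c⁻¹) * (g : G)⁻¹ = _
        group
    exact h3 hn
  have hyK : (⟨x i, hyZ⟩ : Z) ∈ K := by
    rw [Subgroup.mem_subgroupOf]
    exact Subgroup.subset_closure ⟨1, by simp, by simp⟩
  set! a : Z := ⟨A, hAZ⟩
  set! b : Z := ⟨B, hBZ⟩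
  set y : Z := ⟨x i, hyZ⟩
  have hq : QuotientGroup.mk' K (a * (y * b * y⁻¹)) = QuotientGroup.mk' K (a * b) := by
    have hy1 : QuotientGroup.mk' K y = 1 := (QuotientGroup.eq_one_iff y).2 hyK
    rw [map_mul, map_mul, map_mul, map_inv, hy1, one_mul, inv_one, mul_one, ← map_mul]
  have e1 : orderOf (QuotientGroup.mk' K (a * (y * b * y⁻¹))) ∣ p := by
    rw [orderOf_dvd_iff_pow_eq_one, hq, ← map_pow]
    have : (a * b) ^ p = 1 := Subtype.ext h1
    rw [this, map_one]
  have e2 : orderOf (QuotientGroup.mk' K (a * (y * b * y⁻¹))) ∣ 3 := by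
    rw [orderOf_dvd_iff_pow_eq_one, ← map_pow]
    have : (a * (y * b * y⁻¹)) ^ 3 = 1 := Subtype.ext h2
    rw [this, map_one]
  have e3 := Nat.eq_one_of_dvd_coprimes hp e1 e2
  rw [orderOf_eq_one_iff] at e3
  have e4 := (QuotientGroup.eq_one_iff _).1 e3
  rw [Subgroup.mem_subgroupOf] at e4
  exact e4

end mv

/-! ### Images of `L₊` -/

section im

variable {τ : G8 F} (hG : Good (plusForm 4 F)) (h : Au τ) {v w : V8 F} (k : Pr τ v w)

include h k

theorem xt_Ap (t : F) : xt hG τ * Psi (plusForm 4 F) (tg (plusForm 4 F) ((frame h k).Ap t)) * (xt hG τ)⁻¹ =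
    Psi (plusForm 4 F) (tg (plusForm 4 F) ((frame h k).Am t)) := by
  have hv := norm_of_dia h k.vv
  have hb : plusForm 4 F ((-t) • dia τ v w) = 0 := by
    rw [QuadraticMap.map_smul, (frame h k).Qp, smul_zero]
  have e := xt_sg h hv hb ((frame h k).vtp (-t)) hG
  refine ((congrArg (fun z => xt hG τ * Psi (plusForm 4 F) (tg (plusForm 4 F) z) * (xt hG τ)⁻¹)
    (show (frame h k).Ap t = sg (plusForm 4 F) v ((-t) • dia τ v w) hv ((frame h k).vtp (-t)) from rfl)).trans e).trans
      (congrArg (Psi (plusForm 4 F)) ?_)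
  apply extG
  intro x
  rw [S1_apply, tgE, (frame h k).Am_apply, h.dia_smul_left, h.dia_smul_left, px_v h k]
  module

theorem xt_Bp (t : F) : xt hG τ * Psi (plusForm 4 F) (tg (plusForm 4 F) ((frame h k).Bp t)) * (xt hG τ)⁻¹ =
    Psi (plusForm 4 F) (tg (plusForm 4 F) ((frame h k).Bm t)) := by
  have hw := norm_of_dia h k.ww
  have hb : plusForm 4 F ((-t) • dia τ w v) = 0 := by
    rw [QuadraticMap.map_smul, (frame h k).Qq, smul_zero]
  have e := xt_sg h hw hb ((frame h k).wtq (-t)) hG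
  refine ((congrArg (fun z => xt hG τ * Psi (plusForm 4 F) (tg (plusForm 4 F) z) * (xt hG τ)⁻¹)
    (show (frame h k).Bp t = sg (plusForm 4 F) w ((-t) • dia τ w v) hw ((frame h k).wtq (-t)) from rfl)).trans e).trans
      (congrArg (Psi (plusForm 4 F)) ?_)
  apply extG
  intro x
  rw [S1_apply, tgE, (frame h k).Bm_apply, h.dia_smul_left, h.dia_smul_left, px_v h k.symm]
  module

end im

/-- **kill lemma 2** -/
theorem kill_two [Finite F] {G Ω : Type*} [Group G] [Finite G] [MulAction G Ω] [Nonempty Ω] {N : Subgroup G}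
    {σ : P8 F →* G} (hG : Good (plusForm 4 F)) (hE : Env G Ω N) (hσ : Rp (plusForm 4 F) N σ) {p : ℕ} [CharP F p]
    (hp3 : p ≠ 3) {ι : Type*} [Finite ι] {x : ι → G} {r : ι → ℕ} {i₁ i₀ : ι} (h01 : i₀ ≠ i₁)
    (hr : ∀ j, j ≠ i₁ → j ≠ i₀ → (r j).Prime) (hx : ∀ j, j ≠ i₁ → j ≠ i₀ → x j ^ r j = 1)
    (hx1 : ∀ j, j ≠ i₁ → j ≠ i₀ → x j ≠ 1) (hrp : ∀ j, j ≠ i₁ → j ≠ i₀ → r j ≠ p)
    (hc : ∀ i j, x i * x j = x j * x i) (hcov : Cov Ω x)
    {τ : G8 F} (h : Au τ) (hL : La σ (x i₁) (xt hG τ)) {v w : V8 F} (k : Pr τ v w)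
    {M : ι → G8 F} (hM : ∀ j, j ≠ i₁ → Lf (up σ) (x j) (M j))
    (hF : ∀ j, j ≠ i₁ → j ≠ i₀ → Fix4 (M j) v w (dia τ v w) (dia τ w v))
    (hY : Fix4 ((tg (plusForm 4 F) (((frame h k).Ap 1 * (frame h k).Bp 3) *
      ((frame h k).Am 1 * (frame h k).Bm 3)))⁻¹ * M i₀) v w (dia τ v w) (dia τ w v)) : False := by
  classical
  set! f := frame h k with hf; rewrite [← hf] at hY
  have hpp : p.Prime := CharP.char_is_prime F p
  have hpc : p.Coprime 3 := (Nat.coprime_primes hpp Nat.prime_three).2 hp3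
  -- commutation with elements having a lift fixing the frame
  have cA : ∀ {X : G} {H : G8 F}, Lf (up σ) X H → Fix4 H v w (dia τ v w) (dia τ w v) → ∀ t,
      Commute X (up σ (f.Am t)) := fun hX hH t => comm_of_lf hE hσ hX (Lf.tg _) (hH.comm_Am f t)
  have cB : ∀ {X : G} {H : G8 F}, Lf (up σ) X H → Fix4 H v w (dia τ v w) (dia τ w v) → ∀ t,
      Commute X (up σ (f.Bm t)) := fun hX hH t => comm_of_lf hE hσ hX (Lf.tg _) (hH.comm_Bm f t)
  have cA' : ∀ {X : G} {H : G8 F}, Lf (up σ) X H → Fix4 H v w (dia τ v w) (dia τ w v) → ∀ t,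
      Commute X (up σ (f.Ap t)) := fun hX hH t => comm_of_lf hE hσ hX (Lf.tg _) (hH.comm_Ap f t)
  have cB' : ∀ {X : G} {H : G8 F}, Lf (up σ) X H → Fix4 H v w (dia τ v w) (dia τ w v) → ∀ t,
      Commute X (up σ (f.Bp t)) := fun hX hH t => comm_of_lf hE hσ hX (Lf.tg _) (hH.comm_Bp f t)
  -- the elements
  set! b := up σ (f.Ap 1 * f.Bp 3) with hb
  set! gm := up σ (f.Am 1 * f.Bm 3) with hgm
  set! x₁ := x i₁ with hx₁; rewrite [← hx₁] at hL
  set! y := x i₀ with hy
  set! B1 := up σ (f.Bm 1) with hB1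
  set! B3 := up σ (f.Bm 3) with hB3
  set! κ := f.kk with hκ
  set! kk := up σ κ with hkk
  have hκ3 : κ ^ 3 = 1 := f.kk_cube
  have hkk3 : kk ^ 3 = 1 := by rw [hkk, ← map_pow, hκ3, map_one]
  -- `y = b gm η`
  set! η := (b * gm)⁻¹ * y with hη
  have hηL : Lf (up σ) η ((tg (plusForm 4 F) ((f.Ap 1 * f.Bp 3) * (f.Am 1 * f.Bm 3)))⁻¹ * M i₀) := by
    have e : b * gm = up σ ((f.Ap 1 * f.Bp 3) * (f.Am 1 * f.Bm 3)) := by rw [hb, hgm, ← map_mul]
    rw [hη, e]
    exact (Lf.tg _).inv.mul (hM i₀ h01)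
  have hyη : y = b * gm * η := by rw [hη]; group
  -- commutation of `L₊` and `L₋`
  have cPA : ∀ t, Commute b (up σ (f.Am t)) := by
    intro t
    change b * _ = _ * b
    rw [hb, ← map_mul, ← map_mul]
    (with_reducible congr 1)
    rw [mul_assoc, ← f.AmBp, ← mul_assoc, ← f.AmAp, mul_assoc]
  have cPB : ∀ t, Commute b (up σ (f.Bm t)) := by
    intro t
    change b * _ = _ * b
    rw [hb, ← map_mul, ← map_mul]
    (with_reducible congr 1)
    rw [mul_assoc, ← f.BmBp, ← mul_assoc, ← f.BmAp, mul_assoc]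
  have cbg : Commute b gm := by rw [hgm, map_mul]; exact (cPA 1).mul_right (cPB 3)
  have cηb : Commute η b := by rw [hb, map_mul]; exact (cA' hηL hY 1).mul_right (cB' hηL hY 3)
  have cby : Commute b y := by
    rw [hyη]
    exact ((Commute.refl b).mul_right cbg).mul_right cηb.symm
  -- images under `x₁`
  have imA : x₁ * b * x₁⁻¹ = gm := by
    have e1 : x₁ * up σ (f.Ap 1) * x₁⁻¹ = up σ (f.Am 1) :=
      eq_of_lf hE hσ (hL.conj_lf (Lf.tg _) (xt_Ap hG h k 1)) (Lf.tg _)
    have e2 : x₁ * up σ (f.Bp 3) * x₁⁻¹ = up σ (f.Bm 3) :=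
      eq_of_lf hE hσ (hL.conj_lf (Lf.tg _) (xt_Bp hG h k 3)) (Lf.tg _)
    rw [hb, hgm, map_mul, map_mul, ← e1, ← e2]
    group
  -- conjugation of `B1`
  have hconj : gm * B1 * gm⁻¹ = up σ (f.Am 1 * f.Bm 1 * f.Am (-1)) := by
    rw [hgm, hB1, ← map_inv, ← map_mul, ← map_mul]
    (with_reducible congr 1)
    rw [mul_inv_rev, f.Am_inv, f.Bm_inv]
    have e : f.Am 1 * f.Bm 3 * f.Bm 1 * (f.Bm (-3) * f.Am (-1)) = f.Am 1 * (f.Bm 3 * f.Bm 1 * f.Bm (-3)) * f.Am (-1) := by
      group
    rw [e, f.Bm_add, f.Bm_add]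
    norm_num
  have hkkB : kk = B3 * (gm * B1 * gm⁻¹) := by
    rw [hconj, hkk, hκ, Fr.kk, map_mul]
  have hyB : y * B1 * y⁻¹ = gm * B1 * gm⁻¹ := by
    have c1 : Commute η B1 := cB hηL hY 1
    have c2 : Commute b (gm * B1 * gm⁻¹) := (cbg.mul_right (cPB 1)).mul_right cbg.inv_right
    calc y * B1 * y⁻¹ = b * gm * (η * B1 * η⁻¹) * gm⁻¹ * b⁻¹ := by rw [hyη]; group
      _ = b * (gm * B1 * gm⁻¹) * b⁻¹ := by rw [c1.eq, mul_inv_cancel_right]; group
      _ = _ := by rw [c2.eq, mul_inv_cancel_right]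
  -- step 1
  set! z := b⁻¹ * gm with hz
  have hcb : ∀ j, j ≠ i₁ → b * x j = x j * b := by
    intro j hj
    by_cases hj0 : j = i₀
    · subst hj0; exact cby
    · exact (comm_of_lf hE hσ (hM j hj) (Lf.tg _) (by
        rw [map_mul (tg (plusForm 4 F))]
        exact comm_mul ((hF j hj hj0).comm_Ap f 1) ((hF j hj hj0).comm_Bp f 3))).symm
  have cov1 : Cov Ω (Function.update x i₁ z) := mv_one hcov hcb imA.symm
  have czy : Commute z y := by
    have e1 : Commute x₁ y := hc i₁ i₀
    have e2 : Commute gm y := by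
      rw [← imA]
      exact (e1.mul_left cby).mul_left e1.inv_left
    exact cby.inv_left.mul_left e2
  have hxj : ∀ j, j ≠ i₁ → Commute z (x j) := by
    intro j hj
    have e1 : Commute x₁ (x j) := hc i₁ j
    have e0 : Commute b (x j) := hcb j hj
    have e2 : Commute gm (x j) := by
      rw [← imA]
      exact (e1.mul_left e0).mul_left e1.inv_left
    exact e0.inv_left.mul_left e2
  have hzB : z * B1 * z⁻¹ = gm * B1 * gm⁻¹ := by
    have c2 : Commute b (gm * B1 * gm⁻¹) := (cbg.mul_right (cPB 1)).mul_right cbg.inv_right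
    calc z * B1 * z⁻¹ = b⁻¹ * (gm * B1 * gm⁻¹) * b := by rw [hz]; group
      _ = _ := by rw [c2.inv_left.eq, inv_mul_cancel_right]
  -- step 2
  set! y₀ := x₁ * kk * x₁⁻¹ with hy₀
  have hy₀3 : y₀ ^ 3 = 1 := by rw [hy₀, conj_pow, hkk3, mul_one, mul_inv_cancel]
  obtain ⟨H0, hH0, hH0'⟩ := im_kk hG h k
  have hy₀L : Lf (up σ) y₀ H0 := hL.conj_lf (Lf.tg _) hH0'
  -- the elements `x₁ B x₁⁻¹`
  have hB0 : ∀ t, ∀ j, j ≠ i₀ → Commute (x₁ * up σ (f.Bm t) * x₁⁻¹) (Function.update x i₁ z j) := by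
    intro t j hj
    obtain ⟨H, hH, hH'⟩ := im_Bm hG h k t
    have hL1 : Lf (up σ) (x₁ * up σ (f.Bm t) * x₁⁻¹) H := hL.conj_lf (Lf.tg _) hH'
    by_cases hj1 : j = i₁
    · subst hj1
      rw [Function.update_self, hz, hb, hgm, map_mul, map_mul]
      exact ((cA' hL1 hH 1).mul_right (cB' hL1 hH 3)).inv_right.mul_right ((cA hL1 hH 1).mul_right (cB hL1 hH 3))
    · rw [Function.update_of_ne hj1]
      have e1 : Commute x₁ (x j) := hc i₁ j
      have e2 : Commute (up σ (f.Bm t)) (x j) := (cB (hM j hj1) (hF j hj1 hj) t).symm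
      exact (e1.mul_left e2).mul_left e1.inv_left
  have hBp : ∀ t, (up σ (f.Bm t)) ^ p = 1 := by
    intro t
    rw [← map_pow, f.Bm_pow, CharP.cast_eq_zero F p, zero_mul, f.Bm_zero, map_one]
  have hy₀B : y₀ = (x₁ * B3 * x₁⁻¹) * (y * (x₁ * B1 * x₁⁻¹) * y⁻¹) := by
    have e1 : y * x₁ = x₁ * y := hc i₀ i₁
    have e2 : y * (x₁ * B1 * x₁⁻¹) * y⁻¹ = x₁ * (y * B1 * y⁻¹) * x₁⁻¹ := by
      calc y * (x₁ * B1 * x₁⁻¹) * y⁻¹ = (y * x₁) * B1 * (y * x₁)⁻¹ := by group
        _ = _ := by rw [e1]; group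
    rw [e2, hyB, hy₀, hkkB]
    group
  have cov2 : Cov Ω (Function.update (Function.update x i₁ z) i₀ y₀) := by
    have e0 : (Function.update x i₁ z) i₀ = y := Function.update_of_ne h01 _ _
    have key := mv3 cov1 i₀ (A := x₁ * B3 * x₁⁻¹) (B := x₁ * B1 * x₁⁻¹) (hB0 3) (hB0 1) (p := p) (by
      intro j
      rw [e0]
      by_cases hj1 : j = i₁
      · subst hj1; rw [Function.update_self]; exact czy.symm
      · rw [Function.update_of_ne hj1]; exact hc i₀ j) hpc (by
        have e : x₁ * B3 * x₁⁻¹ * (x₁ * B1 * x₁⁻¹) = x₁ * up σ (f.Bm 4) * x₁⁻¹ := by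
          have e4 : up σ (f.Bm 4) = B3 * B1 := by
            rw [hB3, hB1, ← map_mul, f.Bm_add]
            norm_num
          rw [e4]; group
        rw [e, conj_pow, hBp, mul_one, mul_inv_cancel]) (by
        rw [e0, ← hy₀B]; exact hy₀3)
    rw [e0, ← hy₀B] at key
    exact key
  -- step 3
  have cxy₀ : ∀ j, j ≠ i₁ → j ≠ i₀ → Commute y₀ (x j) := by
    intro j hj1 hj0
    have e1 : Commute x₁ (x j) := hc i₁ j
    have e2 : Commute kk (x j) := (comm_of_lf hE hσ (hM j hj1) (Lf.tg _) ((hF j hj1 hj0).comm_kk f)).symm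
    exact (e1.mul_left e2).mul_left e1.inv_left
  have czy₀ : Commute z y₀ := by
    have h1 : Commute y₀ z := by
      rw [hz, hb, hgm, map_mul, map_mul]
      exact ((cA' hy₀L hH0 1).mul_right (cB' hy₀L hH0 3)).inv_right.mul_right ((cA hy₀L hH0 1).mul_right (cB hy₀L hH0 3))
    exact h1.symm
  have hB2 : ∀ t, ∀ j, j ≠ i₁ → Commute (up σ (f.Bm t)) (Function.update (Function.update x i₁ z) i₀ y₀ j) := by
    intro t j hj1
    by_cases hj0 : j = i₀
    · subst hj0; rw [Function.update_self]; exact (cB hy₀L hH0 t).symm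
    · rw [Function.update_of_ne hj0, Function.update_of_ne hj1]
      exact (cB (hM j hj1) (hF j hj1 hj0) t).symm
  have cov3 : Cov Ω (Function.update (Function.update (Function.update x i₁ z) i₀ y₀) i₁ kk) := by
    have e0 : (Function.update (Function.update x i₁ z) i₀ y₀) i₁ = z := by
      rw [Function.update_of_ne h01.symm, Function.update_self]
    have ek : B3 * (z * B1 * z⁻¹) = kk := by rw [hzB, ← hkkB]
    have key := mv3 cov2 i₁ (A := B3) (B := B1) (hB2 3) (hB2 1) (p := p) (by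
      intro j
      rw [e0]
      by_cases hj0 : j = i₀
      · subst hj0; rw [Function.update_self]; exact czy₀
      · rw [Function.update_of_ne hj0]
        by_cases hj1 : j = i₁
        · subst hj1; rw [Function.update_self]
        · rw [Function.update_of_ne hj1]; exact hxj j hj1) hpc (by
        have e4 : B3 * B1 = up σ (f.Bm 4) := by
          rw [hB3, hB1, ← map_mul, f.Bm_add]
          norm_num
        rw [e4, hBp]) (by rw [e0, ek]; exact hkk3)
    rw [e0, ek] at key
    exact key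
  -- the final family
  have hkkv : (tg (plusForm 4 F) κ).1 v = dia τ v w := f.kk_v
  have hkkp : (tg (plusForm 4 F) κ).1 (dia τ v w) = -v - dia τ v w := f.kk_p
  have hkkL : Lf (up σ) kk (tg (plusForm 4 F) κ) := Lf.tg _
  have hkk1 : kk ≠ 1 := by
    intro h1
    rw [hkkL.eq_one_iff hG hE hσ.rep] at h1
    obtain ⟨a, ha, h2⟩ := h1
    have h3 := h2 v
    rw [hkkv] at h3
    have h4 := congrArg (polar (plusForm 4 F) w) h3
    rw [f.wp, polar_smul_right, f.wv, smul_eq_mul, mul_one] at h4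
    exact ha h4.symm
  have hy₀1 : y₀ ≠ 1 := by
    intro h1
    apply hkk1
    rw [hy₀, mul_inv_eq_one] at h1
    exact mul_left_cancel (h1.trans (mul_one _).symm)
  set! X := Function.update (Function.update (Function.update x i₁ z) i₀ y₀) i₁ kk with hX; rewrite [← hX] at cov3
  have X1 : X i₁ = kk := Function.update_self _ _ _
  have X0 : X i₀ = y₀ := by rw [hX, Function.update_of_ne h01, Function.update_self]
  have Xj : ∀ j, j ≠ i₁ → j ≠ i₀ → X j = x j := fun j h1 h0 => by
    rw [hX, Function.update_of_ne h1, Function.update_of_ne h0, Function.update_of_ne h1]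
  set! L := Function.update (Function.update M i₀ H0) i₁ (tg (plusForm 4 F) κ) with hLd
  have L1 : L i₁ = tg (plusForm 4 F) κ := Function.update_self _ _ _
  have L0 : L i₀ = H0 := by rw [hLd, Function.update_of_ne h01, Function.update_self]
  have Lj : ∀ j, j ≠ i₁ → j ≠ i₀ → L j = M j := fun j h1 h0 => by
    rw [hLd, Function.update_of_ne h1, Function.update_of_ne h0]
  set! R := Function.update (Function.update r i₀ 3) i₁ 3 with hR
  have R1 : R i₁ = 3 := Function.update_self _ _ _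
  have R0 : R i₀ = 3 := by rw [hR, Function.update_of_ne h01, Function.update_self]
  have Rj : ∀ j, j ≠ i₁ → j ≠ i₀ → R j = r j := fun j h1 h0 => by
    rw [hR, Function.update_of_ne h1, Function.update_of_ne h0]
  clear_value X L R
  have cases3 : ∀ {P : ι → Prop}, P i₁ → P i₀ → (∀ j, j ≠ i₁ → j ≠ i₀ → P j) → ∀ j, P j := by
    intro P h1 h0 hj j
    by_cases e1 : j = i₁
    · subst e1; exact h1
    · by_cases e0 : j = i₀
      · subst e0; exact h0
      · exact hj j e1 e0
  have ckj : ∀ j, j ≠ i₁ → j ≠ i₀ → Commute kk (x j) := fun j hj1 hj0 =>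
    (comm_of_lf hE hσ (hM j hj1) (Lf.tg _) ((hF j hj1 hj0).comm_kk f)).symm
  have cky : Commute kk y₀ := (comm_of_lf hE hσ hy₀L hkkL (hH0.comm_kk f)).symm
  refine H297.RC.box_LR hG hE hσ.rep (p := p) (y := X) (M := L) (r := R) ?_ ?_ ?_ ?_ ?_ ?_
    (u := v) (w := dia τ v w) f.Qv f.Qp f.vp ?_ ?_ ?_ (fun ω => Or.inr (cov3 ω))
  · refine cases3 ?_ ?_ ?_
    · rw [X1, L1]; exact hkkL
    · rw [X0, L0]; exact hy₀L
    · intro j h1 h0; rw [Xj j h1 h0, Lj j h1 h0]; exact hM j h1
  · refine cases3 ?_ ?_ ?_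
    · rw [R1]; exact Nat.prime_three
    · rw [R0]; exact Nat.prime_three
    · intro j h1 h0; rw [Rj j h1 h0]; exact hr j h1 h0
  · refine cases3 ?_ ?_ ?_
    · rw [R1]; exact hp3.symm
    · rw [R0]; exact hp3.symm
    · intro j h1 h0; rw [Rj j h1 h0]; exact hrp j h1 h0
  · refine cases3 ?_ ?_ ?_
    · rw [X1, R1]; exact hkk3
    · rw [X0, R0]; exact hy₀3
    · intro j h1 h0; rw [Xj j h1 h0, Rj j h1 h0]; exact hx j h1 h0
  · refine cases3 ?_ ?_ ?_
    · rw [X1]; exact hkk1
    · rw [X0]; exact hy₀1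
    · intro j h1 h0; rw [Xj j h1 h0]; exact hx1 j h1 h0
  · refine cases3 ?_ ?_ ?_
    · refine cases3 rfl ?_ ?_
      · rw [X1, X0]; exact cky
      · intro j h1 h0; rw [X1, Xj j h1 h0]; exact ckj j h1 h0
    · refine cases3 ?_ rfl ?_
      · rw [X1, X0]; exact cky.symm
      · intro j h1 h0; rw [X0, Xj j h1 h0]; exact cxy₀ j h1 h0
    · intro i h1 h0
      refine cases3 ?_ ?_ ?_
      · rw [X1, Xj i h1 h0]; exact (ckj i h1 h0).symm
      · rw [X0, Xj i h1 h0]; exact (cxy₀ i h1 h0).symm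
      · intro j h1' h0'; rw [Xj i h1 h0, Xj j h1' h0']; exact hc i j
  · intro h0
    have := f.vw
    rw [h0, polar_zero_left] at this
    exact zero_ne_one this
  · intro a ha
    have h1 := congrArg (fun z => polar (plusForm 4 F) z (dia τ w v)) ha
    beta_reduce at h1
    rw [f.pq, polar_smul_left, f.vq, smul_zero] at h1
    exact one_ne_zero h1
  · have hfix : ∀ {H : G8 F}, Fix4 H v w (dia τ v w) (dia τ w v) → ∀ y ∈ Submodule.span F {v, dia τ v w},
        H.1 y ∈ Submodule.span F {v, dia τ v w} := by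
      intro H hH y hy
      obtain ⟨a, c, rfl⟩ := Submodule.mem_span_pair.1 hy
      rw [Submodule.mem_span_pair, hH.ss.add, ss_smul hH.ss, ss_smul hH.ss, hH.fv, hH.fp]
      exact ⟨a, c, rfl⟩
    refine cases3 ?_ ?_ ?_
    · intro y hy
      obtain ⟨a, c, rfl⟩ := Submodule.mem_span_pair.1 hy
      have e1 : (tg (plusForm 4 F) κ).1 (a • v + c • dia τ v w) =
          a • (tg (plusForm 4 F) κ).1 v + c • (tg (plusForm 4 F) κ).1 (dia τ v w) := by
        rw [tgE, tgE, tgE, map_add, map_smul, map_smul]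
      rw [L1, Submodule.mem_span_pair, e1, hkkv, hkkp]
      exact ⟨-c, a - c, by module⟩
    · rw [L0]; exact hfix hH0
    · intro j h1 h0; rw [Lj j h1 h0]; exact hfix (hF j h1 h0)

end Cfsg.Agent.H442.RC.TriB
end

-- part: H911/RC/CharThree
section
/-!
# Symmetric compositions in characteristic three (S3510, triality, type iv; helper911)

`TC Q (refl) m`, `char F = 3`, `F` finite: `polar Q x (m x x) = (polar Q z x) ^ 3` for a vector `z`, fixed by all
automorphisms; `exists_vec`: a nondegenerate subspace `U` of even dimension containing `z` contains a vector `a` with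
`Q a ≠ 0`, `4 Q(a)³ ≠ t(a)²` (for `|F| = 3` with `t(a)² - 4 Q(a)³` not a square), except one case with `|F| = 3`, `dim U = 2`.
-/

set_option autoImplicit false

namespace Cfsg.Agent.H911.RC

open Module QuadraticMap Cfsg.Agent.LieClassical.OrthCore Cfsg.Agent.LieClassical.OrthTrans Cfsg.Agent.H198.TwComp

variable {F V : Type*} [Field F] [AddCommGroup V] [Module F V] {Q : QuadraticForm F V} {m : V → V → V}

section comp

variable (h : TC Q (RingEquiv.refl F) m)
include h

theorem tc_left (a b : V) : m (m a b) a = Q a • b := h.left a b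

theorem tc_right (a b : V) : m a (m b a) = Q a • b := h.right a b

theorem tc_smul_left (k : F) (a b : V) : m (k • a) b = k • m a b := h.smul_left k a b

theorem tc_smul_right (k : F) (a b : V) : m a (k • b) = k • m a b := h.smul_right k a b

theorem tc_mul (a b : V) : Q (m a b) = Q a * Q b := by
  by_cases ha : a = 0
  · rw [ha, h.zero_left, QuadraticMap.map_zero, zero_mul]
  have h1 := tc_left h (m a b) a
  rw [tc_left h a b, tc_smul_left h, tc_right h b a, smul_smul] at h1
  have h2 : (Q a * Q b - Q (m a b)) • a = 0 := by rw [sub_smul, h1, sub_self]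
  exact (sub_eq_zero.1 ((smul_eq_zero.1 h2).resolve_right ha)).symm

theorem tc_polar_right (a b c : V) : polar Q (m a b) (m c b) = Q b * polar Q a c := by
  rw [polar, ← h.add_left, tc_mul h, tc_mul h, tc_mul h, polar]
  ring

theorem tc_assoc (h2 : (2 : F) ≠ 0) (hQ : Nondeg Q) (a b c : V) : polar Q (m a b) c = polar Q a (m b c) := by
  have key : ∀ b, Q b ≠ 0 → polar Q (m a b) c = polar Q a (m b c) := by
    intro b hb
    have h1 := tc_polar_right h a b (m b c)
    rw [tc_left h, polar_smul_right, smul_eq_mul] at h1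
    exact mul_left_cancel₀ hb h1
  by_cases hb : Q b = 0
  swap
  · exact key b hb
  by_cases hb0 : b = 0
  · rw [hb0, h.zero_left, h.zero_right, polar_zero_left, polar_zero_right]
  -- a nonsingular vector
  obtain ⟨u, hu⟩ : ∃ u, Q u ≠ 0 := by
    by_contra hcon
    push Not at hcon
    apply hb0
    apply hQ
    intro y
    rw [polar, hcon, hcon, hcon, sub_zero, sub_zero]
  have hadd : ∀ b₁ b₂ : V, Q b₁ ≠ 0 → Q b₂ ≠ 0 → polar Q (m a (b₁ + b₂)) c = polar Q a (m (b₁ + b₂) c) := by
    intro b₁ b₂ h₁ h₂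
    rw [h.add_right, h.add_left, polar_add_left, polar_add_right, key _ h₁, key _ h₂]
  have hp : ∀ x y, Q (x + y) = Q x + Q y + polar Q x y := by
    intro x y
    rw [polar]; ring
  by_cases h3 : Q (b + u) = 0
  · have h4 : Q (b - u) ≠ 0 := by
      intro h5
      rw [hp, hb, zero_add] at h3
      rw [sub_eq_add_neg, hp, hb, zero_add, QuadraticMap.map_neg, polar_neg_right] at h5
      have h6 : (2 : F) * Q u = 0 := by linear_combination h3 + h5
      exact hu ((mul_eq_zero.1 h6).resolve_left h2)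
    have h5 := hadd (b - u) u h4 hu
    rwa [sub_add_cancel] at h5
  · have h4 : Q (-u) ≠ 0 := by rwa [QuadraticMap.map_neg]
    have h5 := hadd (b + u) (-u) h3 h4
    rwa [add_neg_cancel_right] at h5

theorem tc_cubic_add (h3 : (3 : F) = 0) (h2 : (2 : F) ≠ 0) (hQ : Nondeg Q) (x y : V) :
    polar Q (x + y) (m (x + y) (x + y)) = polar Q x (m x x) + polar Q y (m y y) := by
  have e1 : polar Q y (m x x) = polar Q x (m x y) := by
    rw [← tc_assoc h h2 hQ x x y, polar_comm]
  have e2 : polar Q x (m y x) = polar Q x (m x y) := by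
    rw [← tc_assoc h h2 hQ x y x, polar_comm]
  have e3 : polar Q x (m y y) = polar Q y (m y x) := by
    rw [← tc_assoc h h2 hQ y y x, polar_comm]
  have e4 : polar Q y (m x y) = polar Q y (m y x) := by
    rw [← tc_assoc h h2 hQ y x y, polar_comm]
  rw [h.add_left, h.add_right, h.add_right]
  simp only [polar_add_left, polar_add_right]
  rw [e1, e2, e3, e4]
  linear_combination (polar Q x (m x y) + polar Q y (m y x)) * h3

theorem tc_cubic_smul (c : F) (x : V) : polar Q (c • x) (m (c • x) (c • x)) = c ^ 3 * polar Q x (m x x) := by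
  rw [tc_smul_left h, tc_smul_right h, polar_smul_left, polar_smul_right, polar_smul_right]
  simp only [smul_eq_mul]
  ring

/-- **the vector `z`** -/
theorem exists_z [Finite F] [CharP F 3] [FiniteDimensional F V] (hQ : Nondeg Q) :
    ∃ z : V, ∀ x, polar Q x (m x x) = polar Q z x ^ 3 := by
  have hp3 : Fact (Nat.Prime 3) := ⟨Nat.prime_three⟩
  have h3 : (3 : F) = 0 := by exact_mod_cast CharP.cast_eq_zero F 3
  have h2 : (2 : F) ≠ 0 := by
    intro h2
    have : (1 : F) = 0 := by linear_combination h3 - h2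
    exact one_ne_zero this
  let ε := frobeniusEquiv F 3
  let g : V →ₗ[F] F :=
    { toFun := fun x => ε.symm (polar Q x (m x x))
      map_add' := fun x y => by rw [tc_cubic_add h h3 h2 hQ, map_add]
      map_smul' := fun c x => by
        rw [tc_cubic_smul h, map_mul, RingHom.id_apply, smul_eq_mul]
        congr 1
        rw [RingEquiv.symm_apply_eq]
        rfl }
  have hg : ∀ x, g x ^ 3 = polar Q x (m x x) := fun x => ε.apply_symm_apply _
  have hinj : Function.Injective (polarBilin Q : V →ₗ[F] Module.Dual F V) := by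
    rw [injective_iff_map_eq_zero]
    intro x hx
    exact hQ x fun y => LinearMap.congr_fun hx y
  have hsur := (LinearMap.injective_iff_surjective_of_finrank_eq_finrank (Subspace.dual_finrank_eq (K := F) (V := V)).symm).1 hinj
  obtain ⟨z, hz⟩ := hsur g
  refine ⟨z, fun x => ?_⟩
  rw [← hg, ← hz]
  rfl

omit h in
/-- `z` is fixed by all automorphisms -/
theorem fix_z [CharP F 3] (hQ : Nondeg Q) {z : V} (hz : ∀ x, polar Q x (m x x) = polar Q z x ^ 3) {s : V ≃ₗ[F] V}
    (hs : ∀ x, Q (s x) = Q x) (hm : ∀ x y, s (m x y) = m (s x) (s y)) : s z = z := by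
  have hp3 : Fact (Nat.Prime 3) := ⟨Nat.prime_three⟩
  have hpol : ∀ x y, polar Q (s x) (s y) = polar Q x y := by
    intro x y
    rw [polar, ← map_add, hs, hs, hs, polar]
  have h1 : ∀ x, polar Q z x = polar Q z (s x) := by
    intro x
    apply frobenius_inj F 3
    rw [frobenius_def, frobenius_def, ← hz, ← hz, ← hm, hpol]
  rw [← sub_eq_zero]
  apply hQ
  intro y
  obtain ⟨x, rfl⟩ := s.surjective y
  rw [sub_eq_add_neg, polar_add_left, polar_neg_left, hpol, ← h1, add_neg_cancel]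

end comp

section core

variable [FiniteDimensional F V]

/-- orthogonal subspaces -/
theorem finrank_add_le (hQ : Nondeg Q) {A B : Submodule F V} (h : ∀ a ∈ A, ∀ b ∈ B, polar Q a b = 0) :
    finrank F A + finrank F B ≤ finrank F V := by
  let φ : A →ₗ[F] B.dualAnnihilator :=
    LinearMap.codRestrict _ ((polarBilin Q).comp A.subtype) (fun a => by
      rw [Submodule.mem_dualAnnihilator]
      intro b hb
      exact h a a.2 b hb)
  have hφ : Function.Injective φ := by
    rw [injective_iff_map_eq_zero]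
    intro a ha
    apply Subtype.ext
    apply hQ
    intro y
    exact LinearMap.congr_fun (congrArg Subtype.val ha) y
  have h1 := LinearMap.finrank_le_finrank_of_injective hφ
  have h2 := Subspace.finrank_add_finrank_dualAnnihilator_eq B
  omega

theorem finrank_ker_one (f : V →ₗ[F] F) : finrank F V ≤ finrank F (LinearMap.ker f) + 1 := by
  have h1 := LinearMap.finrank_range_add_finrank_ker f
  have h2 : finrank F (LinearMap.range f) ≤ 1 := by
    have := Submodule.finrank_le (LinearMap.range f)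
    rwa [finrank_self] at this
  omega

theorem finrank_ker_two (f g : V →ₗ[F] F) : finrank F V ≤ finrank F (LinearMap.ker (f.prod g)) + 2 := by
  have h1 := LinearMap.finrank_range_add_finrank_ker (f.prod g)
  have h2 : finrank F (LinearMap.range (f.prod g)) ≤ 2 := by
    have := Submodule.finrank_le (LinearMap.range (f.prod g))
    rwa [finrank_prod, finrank_self] at this
  omega

theorem polar_zero_of {A : Submodule F V} (h : ∀ a ∈ A, Q a = 0) {a b : V} (ha : a ∈ A) (hb : b ∈ A) :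
    polar Q a b = 0 := by
  rw [polar, h _ (A.add_mem ha hb), h _ ha, h _ hb, sub_zero, sub_zero]

/-- many elements -/
theorem vec_nine [Finite F] (h9 : 5 ≤ Nat.card F) (h2 : (2 : F) ≠ 0) (hQ : Nondeg Q) (hd : 2 ≤ finrank F V) (z : V) :
    ∃ a, Q a ≠ 0 ∧ Q a ≠ polar Q z a ^ 2 := by
  have := Fintype.ofFinite F
  obtain ⟨a₁, ha₁⟩ : ∃ a, Q a ≠ 0 := by
    by_contra hcon
    push Not at hcon
    have hnt : Nontrivial V := Module.nontrivial_of_finrank_pos (R := F) (by omega)
    obtain ⟨x, hx⟩ := exists_ne (0 : V)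
    exact hx (hQ x fun y => by rw [polar, hcon, hcon, hcon, sub_zero, sub_zero])
  obtain ⟨a₂, ha₂⟩ : ∃ a, polar Q z a ^ 2 - Q a ≠ 0 := by
    by_contra hcon
    push Not at hcon
    have h1 := finrank_ker_one (polarBilin Q z)
    have hnt : Nontrivial (LinearMap.ker (polarBilin Q z)) := Module.nontrivial_of_finrank_pos (R := F) (by omega)
    obtain ⟨x, hx⟩ := exists_ne (0 : LinearMap.ker (polarBilin Q z))
    apply hx
    apply Subtype.ext
    apply hQ
    intro y
    have h3 : polar Q z x = 0 := x.2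
    have e1 := hcon (x + y)
    have e2 := hcon (x : V)
    have e3 := hcon y
    rw [polar_add_right, h3, Q_add] at e1
    rw [h3] at e2
    linear_combination e2 + e3 - e1
  let P : Polynomial F := Polynomial.C (Q a₁) + Polynomial.C (polar Q a₁ a₂) * Polynomial.X +
    Polynomial.C (Q a₂) * Polynomial.X ^ 2
  let R : Polynomial F := Polynomial.C (polar Q z a₁ ^ 2 - Q a₁) +
    Polynomial.C (2 * polar Q z a₁ * polar Q z a₂ - polar Q a₁ a₂) * Polynomial.X +
    Polynomial.C (polar Q z a₂ ^ 2 - Q a₂) * Polynomial.X ^ 2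
  have hP : ∀ c, P.eval c = Q (a₁ + c • a₂) := by
    intro c
    simp only [P, Polynomial.eval_add, Polynomial.eval_mul, Polynomial.eval_C, Polynomial.eval_X, Polynomial.eval_pow]
    rw [Q_add, QuadraticMap.map_smul, polar_smul_right, smul_eq_mul, smul_eq_mul]
    ring
  have hR : ∀ c, R.eval c = polar Q z (a₁ + c • a₂) ^ 2 - Q (a₁ + c • a₂) := by
    intro c
    simp only [R, Polynomial.eval_add, Polynomial.eval_mul, Polynomial.eval_C, Polynomial.eval_X, Polynomial.eval_pow]
    rw [Q_add, QuadraticMap.map_smul, polar_smul_right, polar_add_right, polar_smul_right, smul_eq_mul, smul_eq_mul,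
      smul_eq_mul]
    ring
  have hP0 : P ≠ 0 := by
    intro h
    have h1 := hP 0
    rw [h, Polynomial.eval_zero, zero_smul, add_zero] at h1
    exact ha₁ h1.symm
  have hR0 : R ≠ 0 := by
    intro h
    have h1 : R.coeff 2 = polar Q z a₂ ^ 2 - Q a₂ := by
      simp only [R, Polynomial.coeff_add, Polynomial.coeff_C_mul, Polynomial.coeff_X_pow, Polynomial.coeff_X,
        Polynomial.coeff_C]
      norm_num
    rw [h, Polynomial.coeff_zero] at h1
    exact ha₂ h1.symm
  have hdP : P.natDegree ≤ 2 := by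
    simp only [P]
    compute_degree
  have hdR : R.natDegree ≤ 2 := by
    simp only [R]
    compute_degree
  have hPR : (P * R).natDegree ≤ 4 := Polynomial.natDegree_mul_le.trans (by omega)
  obtain ⟨c, hc⟩ := Polynomial.exists_eval_ne_zero_of_natDegree_lt_card (P * R) (mul_ne_zero hP0 hR0) (by
    rw [Cardinal.mk_fintype, ← Nat.card_eq_fintype_card]
    exact_mod_cast lt_of_le_of_lt hPR (by omega))
  rw [Polynomial.eval_mul, hP, hR] at hc
  exact ⟨_, left_ne_zero_of_mul hc, fun h => right_ne_zero_of_mul hc (by rw [← h, sub_self])⟩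

/-- three elements -/
theorem vec_three (hF : ∀ c : F, c = 0 ∨ c = 1 ∨ c = -1) (h3 : (3 : F) = 0) (hQ : Nondeg Q)
    (hev : Even (finrank F V)) {z : V} (hz : z ≠ 0) :
    (∃ a, Q a ≠ 0 ∧ polar Q z a ^ 2 - Q a = -1) ∨
      (Q z = 1 ∧ ∃ w, Q w = -1 ∧ polar Q z w = 0 ∧ ∀ x, ∃ α β : F, x = α • z + β • w) := by
  have h10 : (1 : F) ≠ 0 := one_ne_zero
  rcases hF (Q z) with h0 | h1 | h1
  · left
    obtain ⟨y, hy⟩ := hQ.exists_polar_eq hz (1 : F)
    refine ⟨-z + (y - Q y • z), ?_, ?_⟩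
    · have e : Q (-z + (y - Q y • z)) = -1 := by
        rw [Q_add, sub_eq_add_neg, Q_add, QuadraticMap.map_neg, QuadraticMap.map_neg, QuadraticMap.map_smul, h0,
          polar_neg_right, polar_smul_right, polar_add_right, polar_neg_left, polar_neg_left, polar_neg_right,
          polar_smul_right, polar_self', h0, hy, polar_comm Q y z, hy]
        simp only [smul_eq_mul]
        ring
      rw [e]
      exact neg_ne_zero.2 h10
    · have e : Q (-z + (y - Q y • z)) = -1 := by
        rw [Q_add, sub_eq_add_neg, Q_add, QuadraticMap.map_neg, QuadraticMap.map_neg, QuadraticMap.map_smul, h0,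
          polar_neg_right, polar_smul_right, polar_add_right, polar_neg_left, polar_neg_left, polar_neg_right,
          polar_smul_right, polar_self', h0, hy, polar_comm Q y z, hy]
        simp only [smul_eq_mul]
        ring
      rw [e, polar_add_right, polar_sub_right, polar_neg_right, polar_smul_right, polar_self', h0, hy]
      simp only [smul_eq_mul]
      linear_combination h3
  · -- `Q z = 1`
    have hpos : 0 < finrank F V := by
      have : Nontrivial V := ⟨⟨z, 0, hz⟩⟩
      exact finrank_pos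
    have hker := finrank_ker_one (polarBilin Q z)
    by_cases hd : finrank F V = 2
    · have hnt : Nontrivial (LinearMap.ker (polarBilin Q z)) := Module.nontrivial_of_finrank_pos (R := F) (by omega)
      obtain ⟨w, hw⟩ := exists_ne (0 : LinearMap.ker (polarBilin Q z))
      have hw0 : (w : V) ≠ 0 := fun h => hw (Subtype.ext h)
      have hzw : polar Q z w = 0 := w.2
      have hli : LinearIndependent F ![z, (w : V)] := by
        rw [LinearIndependent.pair_iff]
        intro s t hst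
        have e1 : polar Q z (s • z + t • (w : V)) = 0 := by rw [hst, polar_zero_right]
        rw [polar_add_right, polar_smul_right, polar_smul_right, hzw, polar_self', h1, smul_eq_mul, smul_eq_mul] at e1
        have e2 : s = 0 := by linear_combination (-1 : F) * e1 + s * h3
        rw [e2, zero_smul, zero_add] at hst
        exact ⟨e2, (smul_eq_zero.1 hst).resolve_right hw0⟩
      have hspan : Submodule.span F (Set.range ![z, (w : V)]) = ⊤ :=
        hli.span_eq_top_of_card_eq_finrank (by rw [Fintype.card_fin, hd])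
      have hrep : ∀ x, ∃ α β : F, x = α • z + β • (w : V) := by
        intro x
        have hx : x ∈ Submodule.span F (Set.range ![z, (w : V)]) := by rw [hspan]; trivial
        rw [Matrix.range_cons, Matrix.range_cons, Matrix.range_empty, Set.union_empty, Set.singleton_union,
          Submodule.mem_span_pair] at hx
        obtain ⟨α, β, h⟩ := hx
        exact ⟨α, β, h.symm⟩
      rcases hF (Q w) with h5 | h5 | h5
      · exfalso
        apply hw0
        apply hQ
        intro x
        obtain ⟨α, β, rfl⟩ := hrep x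
        rw [polar_add_right, polar_smul_right, polar_smul_right, polar_comm Q w z, hzw, polar_self', h5]
        simp
      · left
        refine ⟨w, by rw [h5]; exact h10, ?_⟩
        rw [hzw, h5]
        ring
      · right
        exact ⟨h1, w, h5, hzw, hrep⟩
    · left
      have hd4 : 4 ≤ finrank F V := by
        obtain ⟨k, hk⟩ := hev
        omega
      obtain ⟨x, hx, hx0⟩ : ∃ x ∈ LinearMap.ker (polarBilin Q z), Q x ≠ 0 := by
        by_contra hcon
        push Not at hcon
        have := finrank_add_le hQ (A := LinearMap.ker (polarBilin Q z)) (B := LinearMap.ker (polarBilin Q z))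
          fun a ha b hb => polar_zero_of hcon ha hb
        omega
      have hzx : polar Q z x = 0 := hx
      rcases hF (Q x) with h5 | h5 | h5
      · exact absurd h5 hx0
      · refine ⟨x, hx0, ?_⟩
        rw [hzx, h5]
        ring
      · set! A := LinearMap.ker ((polarBilin Q z).prod (polarBilin Q x)) with hA
        have hA2 := finrank_ker_two (polarBilin Q z) (polarBilin Q x)
        rw [← hA] at hA2
        have hmem : ∀ y, y ∈ A ↔ polar Q z y = 0 ∧ polar Q x y = 0 := by
          intro y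
          rw [hA, LinearMap.mem_ker, LinearMap.prod_apply, Prod.mk_eq_zero]
          rfl
        obtain ⟨y, hy, hy0⟩ : ∃ y ∈ A, Q y ≠ 0 := by
          by_contra hcon
          push Not at hcon
          have hxA : x ∉ A := fun h => hx0 (hcon x h)
          have hB : finrank F (A ⊔ Submodule.span F {x} : Submodule F V) = finrank F A + 1 := by
            have h6 := Submodule.finrank_sup_add_finrank_inf_eq A (Submodule.span F {x})
            have h7 : A ⊓ Submodule.span F {x} = ⊥ := by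
              rw [Submodule.eq_bot_iff]
              rintro v ⟨hv1, hv2⟩
              obtain ⟨c, rfl⟩ := Submodule.mem_span_singleton.1 hv2
              by_cases hc : c = 0
              · rw [hc, zero_smul]
              · exfalso
                apply hxA
                have := A.smul_mem c⁻¹ hv1
                rwa [smul_smul, inv_mul_cancel₀ hc, one_smul] at this
            rw [h7, finrank_bot, finrank_span_singleton (fun h => hx0 (by rw [h, QuadraticMap.map_zero]))] at h6
            omega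
          have h8 := finrank_add_le hQ (A := A) (B := A ⊔ Submodule.span F {x}) (by
            intro a ha b hb
            obtain ⟨b₁, hb₁, b₂, hb₂, rfl⟩ := Submodule.mem_sup.1 hb
            obtain ⟨c, rfl⟩ := Submodule.mem_span_singleton.1 hb₂
            rw [polar_add_right, polar_smul_right, polar_zero_of hcon ha hb₁, polar_comm Q a x, ((hmem a).1 ha).2]
            simp)
          omega
        obtain ⟨hzy, hxy⟩ := (hmem y).1 hy
        rcases hF (Q y) with h6 | h6 | h6
        · exact absurd h6 hy0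
        · refine ⟨y, hy0, ?_⟩
          rw [hzy, h6]
          ring
        · have e : Q (x + y) = 1 := by
            rw [Q_add, h5, h6, hxy]
            linear_combination (-1 : F) * h3
          refine ⟨x + y, by rw [e]; exact h10, ?_⟩
          rw [polar_add_right, hzx, hzy, e]
          ring
  · left
    refine ⟨z, by rw [h1]; exact neg_ne_zero.2 h10, ?_⟩
    rw [polar_self', h1]
    linear_combination 2 * h3

end core

end Cfsg.Agent.H911.RC
end

-- part: H911/RC/KpThree
section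
/-!
# S3510, triality, characteristic three: a composition plane of fixed vectors (helper911)

* `exists_Kp_plane` : if `Q a ≠ 0`, `t(a)² ≠ 4 Q(a)³` and `|F| ≥ 4` or the plane `⟨a, a ⋄ a⟩` is anisotropic, then
  `Kp τ a b` for some `b` in this plane (any characteristic);
* `exists_Kp_fix` : characteristic three, `s` a linear isometric automorphism of `dia τ` of order prime to three: such
  vectors `a`, `b` fixed by `s`, or `|F| = 3` and the fixed space is a split plane `⟨z, w⟩`;
* `exists_Kp_family` : the same for a family.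
-/

set_option autoImplicit false

namespace Cfsg.Agent.H911.RC

open Module QuadraticMap Cfsg.Agent.LieClassical.OrthCore Cfsg.Agent.LieClassical.OrthTrans
  Cfsg.Agent.LieClassical.OrthSimple Cfsg.Agent.ClassicalGeometry.OrthAut1
  Cfsg.Agent.ClassicalGeometry.OrthSemi Cfsg.Agent.H198.Classes
  Cfsg.Agent.LieClassical.QuadForms Cfsg.Agent.H198.ClassesPlus
  Cfsg.Agent.ClassicalGeometry.TrialityOct Cfsg.Agent.ClassicalGeometry.Triality
  Cfsg.Agent.ClassicalGeometry.TrialitySpaces Cfsg.Agent.H198.TriBase Cfsg.Agent.H198.TriAut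
  Cfsg.Agent.H198.TriDia Cfsg.Agent.H198.TriTC Cfsg.Agent.H198.TwComp
open Cfsg.Agent.H566.RC (Au Kp)

universe u

variable {F : Type u} [Field F]

section plane

variable {τ : G8 F} (h : Au τ)
include h

theorem aa_aa (a : V8 F) : dia τ (dia τ a a) (dia τ a a) =
    polar (plusForm 4 F) a (dia τ a a) • a - plusForm 4 F a • dia τ a a := by
  have h1 := h.lin1 a a (dia τ a a)
  rw [h.dia_dia a a, h.dia_smul_left] at h1
  rw [← h1, add_sub_cancel_right]

/-- products in the plane -/
theorem prod_plane (a : V8 F) (x y x' y' : F) : dia τ (x • a + y • dia τ a a) (x' • a + y' • dia τ a a) =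
    ((x * y' + y * x') * plusForm 4 F a + y * y' * polar (plusForm 4 F) a (dia τ a a)) • a +
      (x * x' - y * y' * plusForm 4 F a) • dia τ a a := by
  simp only [h.dia_add_left, h.dia_add_right, h.dia_smul_left, h.dia_smul_right]
  rw [h.dia_dia a a, h.dia_dia' a a, aa_aa h]
  module

theorem Q_plane (a : V8 F) (x y : F) : plusForm 4 F (x • a + y • dia τ a a) =
    x ^ 2 * plusForm 4 F a + x * y * polar (plusForm 4 F) a (dia τ a a) + y ^ 2 * plusForm 4 F a ^ 2 := by
  rw [Q_add, QuadraticMap.map_smul, QuadraticMap.map_smul, h.dia_norm, polar_smul_left, polar_smul_right]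
  simp only [smul_eq_mul]
  ring

omit h in
theorem polar_plane (a : V8 F) (x y : F) : polar (plusForm 4 F) a (x • a + y • dia τ a a) =
    2 * x * plusForm 4 F a + y * polar (plusForm 4 F) a (dia τ a a) := by
  rw [polar_add_right, polar_smul_right, polar_smul_right, polar_self']
  simp only [smul_eq_mul]
  ring

/-- the second vector -/
theorem Kp_of {a : V8 F} (ha : plusForm 4 F a ≠ 0)
    (hd : polar (plusForm 4 F) a (dia τ a a) ^ 2 ≠ 4 * plusForm 4 F a ^ 3) {l : F}
    (hv : l ^ 2 * plusForm 4 F a + l * polar (plusForm 4 F) a (dia τ a a) + plusForm 4 F a ^ 2 ≠ 0)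
    (hav : 2 * l * plusForm 4 F a + polar (plusForm 4 F) a (dia τ a a) ≠ 0) :
    ∃ x y : F, Kp τ a (x • a + y • dia τ a a) := by
  obtain ⟨t, ht⟩ : ∃ t, polar (plusForm 4 F) a (dia τ a a) = t := ⟨_, rfl⟩
  obtain ⟨κ, hκ⟩ : ∃ κ, plusForm 4 F a = κ := ⟨_, rfl⟩
  rw [ht, hκ] at hd hv hav
  rw [hκ] at ha
  obtain ⟨μ, hμ0, hμ⟩ : ∃ μ : F, μ ≠ 0 ∧ μ * (l ^ 2 * κ + l * t + κ ^ 2) = 2 * l * κ + t :=
    ⟨(2 * l * κ + t) / (l ^ 2 * κ + l * t + κ ^ 2), div_ne_zero hav hv, div_mul_cancel₀ _ hv⟩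
  refine ⟨1 - μ * l, -μ, ?_, ?_, ?_, ?_, ?_, ?_, ?_⟩
  · rw [Q_plane h, ht, hκ]
    linear_combination μ * hμ
  · rw [hκ]; exact ha
  · rw [polar_plane, ht, hκ]
    intro e
    apply hd
    have e1 : μ ^ 2 * (t ^ 2 - 4 * κ ^ 3) = 0 := by
      linear_combination e - 4 * κ * μ * hμ
    linear_combination (mul_eq_zero.1 e1).resolve_left (pow_ne_zero 2 hμ0)
  · have e1 := prod_plane h a 1 0 (1 - μ * l) (-μ)
    have e2 := prod_plane h a (1 - μ * l) (-μ) 1 0
    rw [one_smul, zero_smul, add_zero] at e1 e2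
    rw [e1, e2]
    module
  all_goals
    have key : ∀ x y : F, ∃ α β : F, x • a + y • dia τ a a = α • a + β • ((1 - μ * l) • a + (-μ) • dia τ a a) := by
      intro x y
      refine ⟨x + y * (μ⁻¹ - l), -(y * μ⁻¹), ?_⟩
      match_scalars
      · field_simp
        ring
      · field_simp
  · have := key 0 1
    rwa [zero_smul, one_smul, zero_add] at this
  · rw [prod_plane h]
    exact key _ _
  · have e1 := prod_plane h a 1 0 (1 - μ * l) (-μ)
    rw [one_smul, zero_smul, add_zero] at e1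
    rw [e1]
    exact key _ _

/-- **a composition plane** -/
theorem exists_Kp_plane [Finite F] {a : V8 F} (ha : plusForm 4 F a ≠ 0)
    (hd : polar (plusForm 4 F) a (dia τ a a) ^ 2 ≠ 4 * plusForm 4 F a ^ 3)
    (hc : 4 ≤ Nat.card F ∨ ∀ l : F,
      l ^ 2 * plusForm 4 F a + l * polar (plusForm 4 F) a (dia τ a a) + plusForm 4 F a ^ 2 ≠ 0) :
    ∃ x y : F, Kp τ a (x • a + y • dia τ a a) := by
  have := Fintype.ofFinite F
  have hor : polar (plusForm 4 F) a (dia τ a a) ≠ 0 ∨ 2 * plusForm 4 F a ≠ 0 := by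
    by_contra hcon
    push Not at hcon
    apply hd
    linear_combination polar (plusForm 4 F) a (dia τ a a) * hcon.1 - 2 * plusForm 4 F a ^ 2 * hcon.2
  rcases hc with hc | hc
  · obtain ⟨t, ht⟩ : ∃ t, polar (plusForm 4 F) a (dia τ a a) = t := ⟨_, rfl⟩
    obtain ⟨κ, hκ⟩ : ∃ κ, plusForm 4 F a = κ := ⟨_, rfl⟩
    rw [ht, hκ] at hor
    rw [hκ] at ha
    let P : Polynomial F := Polynomial.C t + Polynomial.C (2 * κ) * Polynomial.X
    let R : Polynomial F := Polynomial.C (κ ^ 2) + Polynomial.C t * Polynomial.X + Polynomial.C κ * Polynomial.X ^ 2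
    have hP0 : P ≠ 0 := by
      intro e
      have e0 := congrArg (fun p => p.coeff 0) e
      have e1 := congrArg (fun p => p.coeff 1) e
      simp only [P, Polynomial.coeff_C, Polynomial.coeff_X, _root_.map_mul, _root_.Polynomial.coeff_add, _root_.Polynomial.coeff_C, ↓ _root_.reduceIte, _root_.Polynomial.mul_coeff_zero, _root_.Polynomial.coeff_X, _root_.one_ne_zero, _root_.MulZeroClass.mul_zero, _root_.add_zero, _root_.Polynomial.coeff_zero, _root_.Polynomial.coeff_C_succ, _root_.Polynomial.coeff_mul_X, _root_.zero_add, _root_.mul_eq_zero] at e0 e1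
      rcases hor with h1 | h1
      · exact h1 e0
      · apply h1
        rcases e1 with e1 | e1 <;> rw [e1] <;> simp
    have hR0 : R ≠ 0 := by
      intro e
      have h1 : R.coeff 2 = κ := by
        simp only [R, Polynomial.coeff_add, Polynomial.coeff_C_mul, Polynomial.coeff_X_pow, Polynomial.coeff_X,
          Polynomial.coeff_C]
        norm_num
      rw [e, Polynomial.coeff_zero] at h1
      exact ha h1.symm
    have hdP : P.natDegree ≤ 1 := by
      simp only [P]
      compute_degree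
    have hdR : R.natDegree ≤ 2 := by
      simp only [R]
      compute_degree
    have hPR : (P * R).natDegree ≤ 3 := Polynomial.natDegree_mul_le.trans (by omega)
    obtain ⟨l, hl⟩ := Polynomial.exists_eval_ne_zero_of_natDegree_lt_card (P * R) (mul_ne_zero hP0 hR0) (by
      rw [Cardinal.mk_fintype, ← Nat.card_eq_fintype_card]
      exact_mod_cast lt_of_le_of_lt hPR (by omega))
    rw [Polynomial.eval_mul] at hl
    have h1 := left_ne_zero_of_mul hl
    have h2 := right_ne_zero_of_mul hl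
    simp only [P, R, Polynomial.eval_add, Polynomial.eval_mul, Polynomial.eval_C, Polynomial.eval_X,
      Polynomial.eval_pow] at h1 h2
    refine Kp_of h (by rw [hκ]; exact ha) hd (l := l) ?_ ?_
    · rw [ht, hκ]
      intro e
      exact h2 (by linear_combination e)
    · rw [ht, hκ]
      intro e
      exact h1 (by linear_combination e)
  · by_cases ht : polar (plusForm 4 F) a (dia τ a a) = 0
    · refine Kp_of h ha hd (l := 1) (hc 1) ?_
      rw [ht, add_zero, mul_one]
      exact hor.resolve_left fun h => h ht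
    · refine Kp_of h ha hd (l := 0) (hc 0) ?_
      rwa [mul_zero, zero_mul, zero_add]

end plane

/-- the restriction of the form to the fixed space of an isometry -/
theorem nondeg_fix {V : Type*} [AddCommGroup V] [Module F V] {Q : QuadraticForm F V} (hQ : Nondeg Q) {s : V ≃ₗ[F] V}
    (hs : s ∈ O Q) {n : ℕ} (hn : s ^ n = 1) (hn0 : (n : F) ≠ 0) :
    Nondeg (Q.comp (LinearMap.ker ((s : V →ₗ[F] V) - 1)).subtype) := by
  intro x hx
  have hmem : ∀ v : V, v ∈ LinearMap.ker ((s : V →ₗ[F] V) - 1) ↔ s v = v := by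
    intro v
    rw [LinearMap.mem_ker, LinearMap.sub_apply, sub_eq_zero]
    rfl
  have hpol : ∀ (g : V ≃ₗ[F] V), g ∈ O Q → ∀ x y, polar Q (g x) (g y) = polar Q x y := by
    intro g hg x y
    rw [polar, ← map_add, hg, hg, hg, polar]
  have hpow : ∀ i, (s ^ i) (x : V) = x := by
    intro i
    induction i with
    | zero => rfl
    | succ i ih => rw [pow_succ, LinearEquiv.mul_apply, (hmem _).1 x.2, ih]
  apply Subtype.ext
  apply hQ
  intro y
  set! N : V := ∑ i ∈ Finset.range n, (s ^ i) y with hN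
  have hsN : s N = N := by
    have e1 : s N = ∑ i ∈ Finset.range n, (s ^ (i + 1)) y := by
      rw [hN, map_sum]
      refine Finset.sum_congr rfl fun i _ => ?_
      rw [pow_succ', LinearEquiv.mul_apply]
    have e2 := Finset.sum_range_succ (fun i => (s ^ i) y) n
    have e3 := Finset.sum_range_succ' (fun i => (s ^ i) y) n
    rw [e3, hn, pow_zero] at e2
    rw [e1]
    exact add_right_cancel e2
  have h1 : polar Q (x : V) N = 0 := hx ⟨N, (hmem _).2 hsN⟩
  have h2 : polar Q (x : V) N = n * polar Q (x : V) y := by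
    rw [← polarBilin_apply_apply, hN, map_sum]
    have e1 : ∀ i ∈ Finset.range n, polarBilin Q (x : V) ((s ^ i) y) = polar Q (x : V) y := by
      intro i _
      rw [polarBilin_apply_apply]
      nth_rw 1 [← hpow i]
      exact hpol _ ((O Q).pow_mem hs i) _ _
    rw [Finset.sum_congr rfl e1, Finset.sum_const, Finset.card_range, nsmul_eq_mul]
  rw [h1] at h2
  exact (mul_eq_zero.1 h2.symm).resolve_left hn0

/-- small fields of characteristic three -/
theorem three_elts [Finite F] (h3 : (3 : F) = 0) (h : ¬ 5 ≤ Nat.card F) :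
    Nat.card F = 3 ∧ ∀ c : F, c = 0 ∨ c = 1 ∨ c = -1 := by
  have := Fintype.ofFinite F
  have hc : CharP F 3 := (CharP.charP_iff_prime_eq_zero Nat.prime_three).2 (by exact_mod_cast h3)
  obtain ⟨n, -, hn⟩ := FiniteField.card F 3
  rw [Nat.card_eq_fintype_card] at h ⊢
  have hn1 : (n : ℕ) = 1 := by
    by_contra hne
    have h2 : 2 ≤ (n : ℕ) := by have := n.pos; omega
    have h4 : 3 ^ 2 ≤ 3 ^ (n : ℕ) := Nat.pow_le_pow_right (by norm_num) h2
    rw [← hn] at h4
    omega
  rw [hn1, pow_one] at hn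
  refine ⟨hn, fun c => ?_⟩
  have h4 := FiniteField.pow_card c
  rw [hn] at h4
  have h5 : c * ((c - 1) * (c + 1)) = 0 := by linear_combination h4
  rcases mul_eq_zero.1 h5 with h6 | h6
  · exact Or.inl h6
  · rcases mul_eq_zero.1 h6 with h7 | h7
    · exact Or.inr (Or.inl (sub_eq_zero.1 h7))
    · exact Or.inr (Or.inr (eq_neg_of_add_eq_zero_left h7))

theorem dia_one8 {τ : G8 F} (h : Au τ) : dia τ (one8 F) (one8 F) = one8 F := by
  rw [h.dia_eq, aut_one h.tri, aut_one h.tri, oconj_one8, one_omul]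

/-- the split plane -/
structure Spl (τ : G8 F) (z w : V8 F) : Prop where
  qz : plusForm 4 F z = 1
  qw : plusForm 4 F w = -1
  perp : polar (plusForm 4 F) z w = 0
  zz : dia τ z z = z
  zw : dia τ z w = -w
  wz : dia τ w z = -w
  ww : dia τ w w = z

/-- **characteristic three, one element** -/
theorem exists_Kp_fix [Finite F] (hG : Good (plusForm 4 F)) (h3 : (3 : F) = 0) {τ : G8 F} (h : Au τ)
    {s : V8 F ≃ₗ[F] V8 F} (hs : s ∈ O (plusForm 4 F)) (hm : ∀ u w, s (dia τ u w) = dia τ (s u) (s w)) {n : ℕ}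
    (hn : s ^ n = 1) (hn3 : ¬ 3 ∣ n) :
    (∃ a b, Kp τ a b ∧ s a = a ∧ s b = b) ∨
      (Nat.card F = 3 ∧ ∃ z w, Spl τ z w ∧ s z = z ∧ s w = w ∧ ∀ x, s x = x → ∃ α β : F, x = α • z + β • w) := by
  have hc : CharP F 3 := (CharP.charP_iff_prime_eq_zero Nat.prime_three).2 (by exact_mod_cast h3)
  have hp3 : Fact (Nat.Prime 3) := ⟨Nat.prime_three⟩
  have h2 : (2 : F) ≠ 0 := by
    intro h2
    have : (1 : F) = 0 := by linear_combination h3 - h2
    exact one_ne_zero this
  have hmem : ∀ v : V8 F, v ∈ LinearMap.ker ((s : V8 F →ₗ[F] V8 F) - 1) ↔ s v = v := by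
    intro v
    rw [LinearMap.mem_ker, LinearMap.sub_apply, sub_eq_zero]
    rfl
  have hQ' := nondeg_fix hG.nondeg hs hn (by rwa [Ne, CharP.cast_eq_zero_iff F 3])
  have hev := H675.RC.even_fix hG hs hm
  obtain ⟨z, hz⟩ := exists_z (H675.RC.tc_dia h) hG.nondeg
  have hsz : s z = z := fix_z hG.nondeg hz hs hm
  have hz0 : z ≠ 0 := by
    rintro rfl
    have e := hz (one8 F)
    rw [dia_one8 h, polar_self', norm_one8, polar_zero_left, mul_one] at e
    exact h2 (by rw [e]; ring)
  set U := LinearMap.ker ((s : V8 F →ₗ[F] V8 F) - 1) with hU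
  set Q' := (plusForm 4 F).comp U.subtype with hQ'd
  have hpol : ∀ x y : U, polar Q' x y = polar (plusForm 4 F) (x : V8 F) (y : V8 F) := fun x y => rfl
  have hval : ∀ x : U, Q' x = plusForm 4 F (x : V8 F) := fun x => rfl
  let z' : U := ⟨z, (hmem z).2 hsz⟩
  have hz' : z' ≠ 0 := fun e => hz0 (congrArg Subtype.val e)
  have hd2 : 2 ≤ finrank F U := by
    have : Nontrivial U := ⟨⟨z', 0, hz'⟩⟩
    have h4 : 0 < finrank F U := finrank_pos
    obtain ⟨k, hk⟩ := hev
    omega
  -- fixed vectors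
  have hfix : ∀ a : V8 F, s a = a → ∀ x y : F, s (x • a + y • dia τ a a) = x • a + y • dia τ a a := by
    intro a ha x y
    rw [map_add, map_smul, map_smul, hm, ha]
  by_cases h5 : 5 ≤ Nat.card F
  · obtain ⟨a, ha, ha'⟩ := vec_nine h5 h2 hQ' hd2 z'
    rw [hval] at ha ha'
    rw [hpol] at ha'
    left
    have hsa : s (a : V8 F) = a := (hmem _).1 a.2
    obtain ⟨x, y, hk⟩ := exists_Kp_plane h ha (by
      rw [hz]
      intro e
      apply ha'
      apply frobenius_inj F 3
      rw [frobenius_def, frobenius_def]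
      linear_combination (-1 : F) * e - plusForm 4 F (a : V8 F) ^ 3 * h3) (Or.inl (by omega))
    exact ⟨a, _, hk, hsa, hfix _ hsa _ _⟩
  · obtain ⟨hcard, hF⟩ := three_elts h3 h5
    rcases vec_three hF h3 hQ' hev hz' with ⟨a, ha, ha'⟩ | ⟨h1, w, hw, hzw, hrep⟩
    · rw [hval] at ha ha'
      rw [hpol] at ha'
      left
      have hsa : s (a : V8 F) = a := (hmem _).1 a.2
      obtain ⟨g, hg⟩ : ∃ g, polar (plusForm 4 F) z (a : V8 F) = g := ⟨_, rfl⟩
      obtain ⟨κ, hκ⟩ : ∃ κ, plusForm 4 F (a : V8 F) = κ := ⟨_, rfl⟩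
      have hza := hz (a : V8 F)
      have ha'' : g ^ 2 - κ = -1 := by rw [← hg, ← hκ]; exact ha'
      rw [hg] at hza
      have hdisc : (g ^ 3) ^ 2 - 4 * κ ^ 3 = -1 := by
        have e1 : (g ^ 2 - κ) ^ 3 = -1 := by rw [ha'']; ring
        linear_combination e1 + (g ^ 4 * κ - g ^ 2 * κ ^ 2 - κ ^ 3) * h3
      obtain ⟨x, y, hk⟩ := exists_Kp_plane h ha (by
        rw [hza, hκ]
        intro e
        rw [e, sub_self] at hdisc
        exact one_ne_zero (neg_eq_zero.1 hdisc.symm)) (Or.inr fun l => by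
        rw [hza, hκ]
        intro e
        have e1 : (2 * l * κ + g ^ 3) ^ 2 = -1 := by
          linear_combination hdisc + 4 * κ * e
        rcases hF (2 * l * κ + g ^ 3) with e2 | e2 | e2
        · rw [e2] at e1
          exact one_ne_zero (α := F) (by linear_combination e1)
        · rw [e2] at e1
          exact h2 (by linear_combination e1)
        · rw [e2] at e1
          exact h2 (by linear_combination e1))
      exact ⟨a, _, hk, hsa, hfix _ hsa _ _⟩
    · right
      rw [hval] at h1 hw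
      rw [hpol] at hzw
      have hsw : s (w : V8 F) = w := (hmem _).1 w.2
      have hrep' : ∀ x, s x = x → ∃ α β : F, x = α • z + β • (w : V8 F) := by
        intro x hx
        obtain ⟨α, β, e⟩ := hrep ⟨x, (hmem x).2 hx⟩
        exact ⟨α, β, congrArg Subtype.val e⟩
      obtain ⟨w', hw'⟩ : ∃ w' : V8 F, (w : V8 F) = w' := ⟨_, rfl⟩
      rw [hw'] at hw hsw hrep'
      have h1' : plusForm 4 F z = 1 := h1
      have hzw' : polar (plusForm 4 F) z w' = 0 := by rw [← hw']; exact hzw
      have hwz' : polar (plusForm 4 F) w' z = 0 := by rw [polar_comm]; exact hzw'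
      have hzz : polar (plusForm 4 F) z z = 2 := by rw [polar_self', h1', mul_one]
      have hww : polar (plusForm 4 F) w' w' = -2 := by rw [polar_self', hw]; ring
      -- coordinates
      have c1 : ∀ α β : F, polar (plusForm 4 F) z (α • z + β • w') = 2 * α := by
        intro α β
        rw [polar_add_right, polar_smul_right, polar_smul_right, hzz, hzw', smul_eq_mul, smul_eq_mul]
        ring
      have c2 : ∀ α β : F, polar (plusForm 4 F) w' (α • z + β • w') = -2 * β := by
        intro α β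
        rw [polar_add_right, polar_smul_right, polar_smul_right, hww, hwz', smul_eq_mul, smul_eq_mul]
        ring
      have c3 : ∀ α β : F, plusForm 4 F (α • z + β • w') = α ^ 2 - β ^ 2 := by
        intro α β
        rw [Q_add, QuadraticMap.map_smul, QuadraticMap.map_smul, polar_smul_left, polar_smul_right, hzw', h1', hw]
        simp only [smul_eq_mul]
        ring
      obtain ⟨α₁, β₁, e₁⟩ := hrep' (dia τ z z) (by rw [hm, hsz])
      obtain ⟨α₂, β₂, e₂⟩ := hrep' (dia τ z w') (by rw [hm, hsz, hsw])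
      obtain ⟨α₃, β₃, e₃⟩ := hrep' (dia τ w' z) (by rw [hm, hsz, hsw])
      obtain ⟨α₄, β₄, e₄⟩ := hrep' (dia τ w' w') (by rw [hm, hsw])
      have a1 : α₁ = 1 := by
        have e := hz z
        rw [e₁, c1, hzz] at e
        have e' : 2 * (α₁ - 1) = 0 := by linear_combination e + 2 * h3
        exact sub_eq_zero.1 ((mul_eq_zero.1 e').resolve_left h2)
      have b1 : β₁ = 0 := by
        have e := h.dia_norm z z
        rw [e₁, c3, h1', a1] at e
        exact pow_eq_zero_iff (two_ne_zero) |>.1 (by linear_combination (-1 : F) * e : β₁ ^ 2 = 0)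
      have ezz : dia τ z z = z := by rw [e₁, a1, b1, one_smul, zero_smul, add_zero]
      have a2 : α₂ = 0 := by
        have e := h.assoc z z w'
        rw [ezz, hzw', e₂, c1] at e
        exact (mul_eq_zero.1 e.symm).resolve_left h2
      have a3 : α₃ = 0 := by
        have e := h.assoc w' z z
        rw [ezz, hwz', polar_comm, e₃, c1] at e
        exact (mul_eq_zero.1 e).resolve_left h2
      have ezw : dia τ z w' = β₂ • w' := by rw [e₂, a2, zero_smul, zero_add]
      have ewz : dia τ w' z = β₃ • w' := by rw [e₃, a3, zero_smul, zero_add]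
      have b3 : β₃ ^ 2 = 1 := by
        have e := h.dia_norm w' z
        rw [ewz, QuadraticMap.map_smul, hw, h1', smul_eq_mul] at e
        linear_combination (-1 : F) * e
      have hw0 : w' ≠ 0 := by
        rintro rfl
        rw [QuadraticMap.map_zero] at hw
        exact one_ne_zero (neg_eq_zero.1 hw.symm)
      have b2 : β₂ = -1 := by
        have e := h.lin1 z z w'
        rw [ezz, hzw', zero_smul, ewz, ezw, h.dia_smul_left, ewz, smul_smul, ← pow_two, b3, ← add_smul] at e
        linear_combination (smul_eq_zero.1 e).resolve_right hw0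
      have b3' : β₃ = -1 := by
        have e := h.dia_dia z w'
        rw [ezw, h.dia_smul_left, ewz, h1', smul_smul, one_smul, b2] at e
        have e' : (-1 * β₃ - 1) • w' = 0 := by rw [sub_smul, e, one_smul, sub_self]
        linear_combination (-1 : F) * (smul_eq_zero.1 e').resolve_right hw0
      have b4 : β₄ = 0 := by
        have e := hz w'
        rw [e₄, c2, hzw'] at e
        have e' : 2 * β₄ = 0 := by linear_combination (-1 : F) * e
        exact (mul_eq_zero.1 e').resolve_left h2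
      have a4 : α₄ = 1 := by
        have e := h.assoc z w' w'
        rw [ezw, polar_smul_left, hww, e₄, c1, b2, smul_eq_mul] at e
        have e' : 2 * (α₄ - 1) = 0 := by linear_combination (-1 : F) * e
        exact sub_eq_zero.1 ((mul_eq_zero.1 e').resolve_left h2)
      refine ⟨hcard, z, w', ⟨h1', hw, hzw', ezz, ?_, ?_, ?_⟩, hsz, hsw, hrep'⟩
      · rw [ezw, b2, neg_one_smul]
      · rw [ewz, b3', neg_one_smul]
      · rw [e₄, a4, b4, one_smul, zero_smul, add_zero]

end Cfsg.Agent.H911.RC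
end

-- part: H237/RC/TriPair
section
/-!
# S3510, triality: a composition plane from a fixed vector with nonzero discriminant (helper237)
-/

set_option autoImplicit false

namespace Cfsg.Agent.H237.RC.TP

open Module QuadraticMap Cfsg.Agent.LieClassical.OrthCore Cfsg.Agent.LieClassical.OrthTrans
  Cfsg.Agent.LieClassical.OrthSimple Cfsg.Agent.ClassicalGeometry.OrthAut1
  Cfsg.Agent.ClassicalGeometry.OrthSemi Cfsg.Agent.H198.Classes
  Cfsg.Agent.LieClassical.QuadForms Cfsg.Agent.H198.ClassesPlus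
  Cfsg.Agent.ClassicalGeometry.TrialityOct Cfsg.Agent.ClassicalGeometry.Triality
  Cfsg.Agent.ClassicalGeometry.TrialitySpaces Cfsg.Agent.H198.TriBase Cfsg.Agent.H198.TriAut
  Cfsg.Agent.H198.TriDia Cfsg.Agent.H198.TriTC Cfsg.Agent.H198.TwComp
open Cfsg.Agent.H566.RC (Au Kp)

universe u

variable {F : Type u} [Field F]

theorem au_tauB : Au (tauB F) := ⟨tri_tauB, isLin_tauB, tauB_pow_three⟩

theorem polar_pl {τ : G8 F} (h : Au τ) (a : V8 F) (x y x' y' : F) :
    polar (plusForm 4 F) (x • a + y • dia τ a a) (x' • a + y' • dia τ a a) =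
      2 * x * x' * plusForm 4 F a + (x * y' + y * x') * polar (plusForm 4 F) a (dia τ a a) +
        2 * y * y' * plusForm 4 F a ^ 2 := by
  have e : (x • a + y • dia τ a a) + (x' • a + y' • dia τ a a) = (x + x') • a + (y + y') • dia τ a a := by module
  rw [QuadraticMap.polar, e, H911.RC.Q_plane h, H911.RC.Q_plane h, H911.RC.Q_plane h]
  ring

/-- **BOX PAIR** -/
theorem pair [Finite F] {τ : G8 F} (h : Au τ) (hq : 4 ≤ Nat.card F) {a : V8 F}
    (ht : 4 * plusForm 4 F a ^ 3 ≠ polar (plusForm 4 F) a (dia τ a a) ^ 2) :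
    ∃ x y x' y' : F, Kp τ (x • a + y • dia τ a a) (x' • a + y' • dia τ a a) := by
  classical
  have := Fintype.ofFinite F
  by_cases ha : plusForm 4 F a = 0
  swap
  · obtain ⟨x, y, hk⟩ := H911.RC.exists_Kp_plane h ha (Ne.symm ht) (Or.inl hq)
    exact ⟨1, 0, x, y, by rwa [one_smul, zero_smul, add_zero]⟩
  have ht0 : polar (plusForm 4 F) a (dia τ a a) ≠ 0 := by
    intro h0
    apply ht
    rw [ha, h0]
    ring
  obtain ⟨l, hl⟩ : ∃ l : F, l ∉ ({0, 1, -1} : Finset F) := by
    by_contra hcon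
    push Not at hcon
    have h1 : (Finset.univ : Finset F) ⊆ {0, 1, -1} := fun x _ => hcon x
    have h2 := Finset.card_le_card h1
    have h3 : ({0, 1, -1} : Finset F).card ≤ 3 := Finset.card_le_three
    rw [Finset.card_univ, ← Nat.card_eq_fintype_card] at h2
    omega
  simp only [Finset.mem_insert, Finset.mem_singleton, not_or] at hl
  obtain ⟨hl0, hl1, hl2⟩ := hl
  obtain ⟨m, hm⟩ : ∃ m : F, l * m = 1 := ⟨l⁻¹, mul_inv_cancel₀ hl0⟩
  have hd : m - l ≠ 0 := by
    intro h0
    have h1 : (l - 1) * (l + 1) = 0 := by linear_combination hm - l * h0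
    rcases mul_eq_zero.1 h1 with h2 | h2
    · exact hl1 (sub_eq_zero.1 h2)
    · exact hl2 (eq_neg_of_add_eq_zero_left h2)
  obtain ⟨d, hd'⟩ : ∃ d : F, (m - l) * d = 1 := ⟨(m - l)⁻¹, mul_inv_cancel₀ hd⟩
  have key : ∀ x y : F, ∃ α β : F, x • a + y • dia τ a a =
      α • ((1 : F) • a + (1 : F) • dia τ a a) + β • (l • a + m • dia τ a a) := by
    intro x y
    refine ⟨(x * m - y * l) * d, (y - x) * d, ?_⟩
    have e1 : ((x * m - y * l) * d) + ((y - x) * d) * l = x := by linear_combination x * hd'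
    have e2 : ((x * m - y * l) * d) + ((y - x) * d) * m = y := by linear_combination y * hd'
    calc x • a + y • dia τ a a = (((x * m - y * l) * d) + ((y - x) * d) * l) • a +
        (((x * m - y * l) * d) + ((y - x) * d) * m) • dia τ a a := by rw [e1, e2]
      _ = _ := by module
  refine ⟨1, 1, l, m, ?_, ?_, ?_, ?_, ?_, ?_, ?_⟩
  · rw [H911.RC.Q_plane h, H911.RC.Q_plane h, ha]
    linear_combination polar (plusForm 4 F) a (dia τ a a) * hm
  · rw [H911.RC.Q_plane h, ha]
    intro h0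
    exact ht0 (by linear_combination h0)
  · rw [H911.RC.Q_plane h, polar_pl h, ha]
    intro h0
    have h1 : (polar (plusForm 4 F) a (dia τ a a) * (m - l)) ^ 2 = 0 := by
      linear_combination h0 - 4 * (polar (plusForm 4 F) a (dia τ a a)) ^ 2 * hm
    exact mul_ne_zero ht0 hd (pow_eq_zero_iff (two_ne_zero) |>.1 h1)
  · rw [H911.RC.prod_plane h, H911.RC.prod_plane h]
    module
  · rw [H911.RC.prod_plane h]
    exact key _ _
  · rw [H911.RC.prod_plane h]
    exact key _ _
  · rw [H911.RC.prod_plane h]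
    exact key _ _

end Cfsg.Agent.H237.RC.TP
end

-- part: H442/RC/K3
section
/-!
# S3510, triality of type (ii): kill lemmas for the Okubo product

`kill_three`: `v ⋄ v = 0`, `b(v, M i₀ v) ≠ 0`, the other members are `p'`-elements fixing `v`.
`kill_uni`: the cover has only the two members `x i₁`, `x i₀`.
-/

set_option autoImplicit false
set_option linter.unusedSectionVars false

namespace Cfsg.Agent.H442.RC.TriB

open Module QuadraticMap Cfsg.Agent.LieClassical.OrthCore Cfsg.Agent.LieClassical.OrthTrans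
  Cfsg.Agent.LieClassical.OrthSimple Cfsg.Agent.ClassicalGeometry.OrthAut1
  Cfsg.Agent.ClassicalGeometry.OrthSemi Cfsg.Agent.H198.Classes
  Cfsg.Agent.LieClassical.QuadForms Cfsg.Agent.H198.ClassesPlus
  Cfsg.Agent.ClassicalGeometry.TrialityOct Cfsg.Agent.ClassicalGeometry.Triality
  Cfsg.Agent.ClassicalGeometry.TrialitySpaces Cfsg.Agent.H198.TriBase Cfsg.Agent.H198.TriAut
  Cfsg.Agent.H198.TriDia Cfsg.Agent.H198.TriSpec Cfsg.Agent.H566.RC Cfsg.Agent.AutOrth.SemiSim
  Cfsg.Agent.H106.RC Cfsg.Agent.H93.RC Cfsg.Agent.H989.OkuboRoot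

universe u

variable {F : Type u} [Field F]

/-- root elements in `E Q` -/
theorem exists_rtE [Finite F] (h3 : (3 : F) ≠ 0) (hG : Good (plusForm 4 F)) {v : V8 F} (hv : dia (tauB F) v v = 0) :
    ∃ α : ↥(E (plusForm 4 F)), (∀ z, (α : V8 F ≃ₗ[F] V8 F) z = rtF v z) ∧
      ∀ x y, (α : V8 F ≃ₗ[F] V8 F) (dia (tauB F) x y) =
        dia (tauB F) ((α : V8 F ≃ₗ[F] V8 F) x) ((α : V8 F ≃ₗ[F] V8 F) y) := by
  obtain ⟨g, ⟨hg, hg'⟩, hg2⟩ := exists_rt h3 hG hv
  exact ⟨⟨g, hg⟩, hg2, hg'⟩

theorem map_rtG {Γ : G8 F} (hs : IsSS (plusForm 4 F) (RingEquiv.refl F) 1 Γ.1)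
    (hd : ∀ x y, Γ.1 (dia (tauB F) x y) = dia (tauB F) (Γ.1 x) (Γ.1 y)) (v z : V8 F) :
    Γ.1 (rtF v z) = rtF (Γ.1 v) (Γ.1 z) := by
  rw [rtF, rtF, hs.add, hs.add, hs.sub, ss_smul hs, hd, hd, ss_polar hs]

theorem ss_of {Γ : G8 F} (hl : Cfsg.Agent.H198.TriDia.IsLin Γ)
    (hd : ∀ x y, Γ.1 (dia (tauB F) x y) = dia (tauB F) (Γ.1 x) (Γ.1 y)) :
    IsSS (plusForm 4 F) (RingEquiv.refl F) 1 Γ.1 := by
  have h1 := isom_of_dia H237.RC.TP.au_tauB hl hd
  obtain ⟨c, hc⟩ := hl
  refine ⟨one_ne_zero, hc.add, hc.smul, fun x => ?_⟩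
  rw [h1, one_mul]
  rfl

/-- `Γ α Γ⁻¹` -/
theorem conj_rt {Γ : G8 F} (hs : IsSS (plusForm 4 F) (RingEquiv.refl F) 1 Γ.1)
    (hd : ∀ x y, Γ.1 (dia (tauB F) x y) = dia (tauB F) (Γ.1 x) (Γ.1 y)) {v : V8 F} {α β : ↥(E (plusForm 4 F))}
    (hα : ∀ z, (α : V8 F ≃ₗ[F] V8 F) z = rtF v z) (hβ : ∀ z, (β : V8 F ≃ₗ[F] V8 F) z = rtF (Γ.1 v) z) :
    Γ * tg (plusForm 4 F) α * Γ⁻¹ = tg (plusForm 4 F) β := by
  rw [mul_inv_eq_iff_eq_mul]
  apply extG
  intro z
  rw [appG, appG, tgE, tgE, hα, hβ, map_rtG hs hd]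

/-- the powers of a root element -/
theorem rt_pow (h3 : (3 : F) ≠ 0) {v : V8 F} (hv : dia (tauB F) v v = 0) {α : ↥(E (plusForm 4 F))} {t : F}
    (hα : ∀ z, (α : V8 F ≃ₗ[F] V8 F) z = rtF (t • v) z) (n : ℕ) (z : V8 F) :
    ((α ^ n : ↥(E (plusForm 4 F))) : V8 F ≃ₗ[F] V8 F) z = rtF ((n * t : F) • v) z := by
  induction n generalizing z with
  | zero =>
    rw [pow_zero, Nat.cast_zero, zero_mul, zero_smul, rt_zero]
    rfl
  | succ n ih =>
    rw [pow_succ, mulE, hα, ih, rt_add h3 hv, Nat.cast_succ, add_mul, one_mul]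

theorem rt_charP (h3 : (3 : F) ≠ 0) {p : ℕ} [CharP F p] {v : V8 F} (hv : dia (tauB F) v v = 0)
    {α : ↥(E (plusForm 4 F))} {t : F} (hα : ∀ z, (α : V8 F ≃ₗ[F] V8 F) z = rtF (t • v) z) : α ^ p = 1 := by
  apply extE
  intro z
  rw [rt_pow h3 hv hα, CharP.cast_eq_zero F p, zero_mul, zero_smul, rt_zero]
  rfl

theorem p_ne_three {p : ℕ} [CharP F p] (h3 : (3 : F) ≠ 0) : p ≠ 3 := by
  rintro rfl
  exact h3 (by exact_mod_cast CharP.cast_eq_zero F 3)

section act

variable [Finite F] (h3 : (3 : F) ≠ 0) {v w : V8 F} (k : Pr (tauB F) v w)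

include k

theorem rt_frame {α β : ↥(E (plusForm 4 F))} (hα : ∀ z, (α : V8 F ≃ₗ[F] V8 F) z = rtF v z)
    (hβ : ∀ z, (β : V8 F ≃ₗ[F] V8 F) z = rtF ((3 : F) • w) z) :
    Fix4 ((tg (plusForm 4 F) (((frame H237.RC.TP.au_tauB k).Ap 1 * (frame H237.RC.TP.au_tauB k).Bp 3) *
      ((frame H237.RC.TP.au_tauB k).Am 1 * (frame H237.RC.TP.au_tauB k).Bm 3)))⁻¹ *
      tg (plusForm 4 F) (α * β)) v w (dia (tauB F) v w) (dia (tauB F) w v) := by
  have h : Au (tauB F) := H237.RC.TP.au_tauB
  set f := frame H237.RC.TP.au_tauB k with hf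
  set γ := (f.Ap 1 * f.Bp 3) * (f.Am 1 * f.Bm 3) with hγ
  have b1 : ∀ z, (β : V8 F ≃ₗ[F] V8 F) z = z + (3 : F) • (dia (tauB F) z w - dia (tauB F) w z) +
      (9 * polar (plusForm 4 F) w z) • w := by
    intro z
    rw [hβ, rtF, h.dia_smul_left, h.dia_smul_right, polar_smul_left, smul_eq_mul, smul_smul]
    module
  have av : (α : V8 F ≃ₗ[F] V8 F) v = v := by rw [hα, rtF, k.vv, pself f.Qv]; simp
  have aw : (α : V8 F ≃ₗ[F] V8 F) w = w + dia (tauB F) w v - dia (tauB F) v w + v := by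
    rw [hα, rtF, f.vw, one_smul]; abel
  have ap : (α : V8 F ≃ₗ[F] V8 F) (dia (tauB F) v w) = dia (tauB F) v w - v := by
    rw [hα, rtF, f.vp, p_v h k, v_p h k]; simp [sub_eq_add_neg]
  have aq : (α : V8 F ≃ₗ[F] V8 F) (dia (tauB F) w v) = dia (tauB F) w v + v := by
    rw [hα, rtF, f.vq, q_v h k, v_q h k]; simp
  have key : ∀ c, (γ : V8 F ≃ₗ[F] V8 F) c = (α : V8 F ≃ₗ[F] V8 F) ((β : V8 F ≃ₗ[F] V8 F) c) →
      ((tg (plusForm 4 F) γ)⁻¹ * tg (plusForm 4 F) (α * β)).1 c = c := by
    intro c hc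
    rw [appG, tgE, mulE, ← hc, ← tgE]
    exact inv_appG _ _
  refine ⟨?_, key _ ?_, key _ ?_, key _ ?_, key _ ?_⟩
  · have e : (tg (plusForm 4 F) γ)⁻¹ * tg (plusForm 4 F) (α * β) = tg (plusForm 4 F) (γ⁻¹ * (α * β)) := by
      rw [map_mul (tg (plusForm 4 F)) γ⁻¹, map_inv (tg (plusForm 4 F)) γ]
    rw [e]
    generalize γ⁻¹ * (α * β) = δ
    exact ⟨one_ne_zero, fun x y => map_add (δ : V8 F ≃ₗ[F] V8 F) x y, fun a x => map_smul (δ : V8 F ≃ₗ[F] V8 F) a x,
      fun x => by rw [one_mul]; exact E_le_O δ.2 x⟩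
  · rw [b1, f.wv, map_add, map_add, map_smul, map_smul, map_sub, av, ap, aq, aw, hγ]
    frs f
    module
  · rw [b1, pself f.Qw, k.ww, sub_self, smul_zero, add_zero, mul_zero, zero_smul, add_zero, aw, hγ]
    frs f
    module
  · rw [b1, f.wp, p_w h k, w_p h k, sub_zero, mul_zero, zero_smul, add_zero, map_add, map_smul, ap, aw, hγ]
    frs f
    module
  · rw [b1, f.wq, q_w h k, w_q h k, zero_sub, mul_zero, zero_smul, add_zero, map_add, map_smul, map_neg, aq, aw, hγ]
    frs f
    module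

end act

/-- an element of `E Q` preserving the product commutes with `x i₁` -/
theorem comm_x1 {G Ω : Type*} [Group G] [MulAction G Ω] {N : Subgroup G} {σ : P8 F →* G}
    (hG : Good (plusForm 4 F)) (hE : Env G Ω N) (hσ : Rp (plusForm 4 F) N σ) {x₁ : G} (hL : La σ x₁ (xt hG (tauB F)))
    {α : ↥(E (plusForm 4 F))} (hα : ∀ x y, (α : V8 F ≃ₗ[F] V8 F) (dia (tauB F) x y) =
        dia (tauB F) ((α : V8 F ≃ₗ[F] V8 F) x) ((α : V8 F ≃ₗ[F] V8 F) y)) : Commute x₁ (up σ α) := by
  have h1 : xt hG (tauB F) * Psi (plusForm 4 F) (tg (plusForm 4 F) α) * (xt hG (tauB F))⁻¹ =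
      Psi (plusForm 4 F) (tg (plusForm 4 F) α) :=
    xt_psi hG H237.RC.TP.au_tauB (M₂ := tg (plusForm 4 F) α) hα
  have h2 : x₁ * up σ α * x₁⁻¹ = up σ α := eq_of_lf hE hσ (hL.conj_lf (Lf.tg _) h1) (Lf.tg _)
  exact mul_inv_eq_iff_eq_mul.1 h2

/-- **kill lemma 3** -/
theorem kill_three [Finite F] (h3 : (3 : F) ≠ 0) {G Ω : Type*} [Group G] [Finite G] [MulAction G Ω] [Nonempty Ω]
    {N : Subgroup G} {σ : P8 F →* G} (hG : Good (plusForm 4 F)) (hE : Env G Ω N) (hσ : Rp (plusForm 4 F) N σ)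
    {p : ℕ} [CharP F p] {ι : Type*} [Finite ι] {x : ι → G} {r : ι → ℕ} {i₁ i₀ : ι} (h01 : i₀ ≠ i₁)
    (hr : ∀ j, j ≠ i₁ → j ≠ i₀ → (r j).Prime) (hx : ∀ j, j ≠ i₁ → j ≠ i₀ → x j ^ r j = 1)
    (hx1 : ∀ j, j ≠ i₁ → j ≠ i₀ → x j ≠ 1) (hrp : ∀ j, j ≠ i₁ → j ≠ i₀ → r j ≠ p)
    (hc : ∀ i j, x i * x j = x j * x i) (hcov : Cov Ω x) (hL : La σ (x i₁) (xt hG (tauB F)))
    {M : ι → G8 F} (hM : ∀ j, j ≠ i₁ → Lf (up σ) (x j) (M j))
    (hl : ∀ j, j ≠ i₁ → Cfsg.Agent.H198.TriDia.IsLin (M j))
    (hd : ∀ j, j ≠ i₁ → ∀ u w, (M j).1 (dia (tauB F) u w) = dia (tauB F) ((M j).1 u) ((M j).1 w))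
    {v : V8 F} (hv0 : dia (tauB F) v v = 0) (hv : ∀ j, j ≠ i₁ → j ≠ i₀ → (M j).1 v = v)
    (hcm : ∀ j, j ≠ i₁ → j ≠ i₀ → M j * M i₀ = M i₀ * M j)
    (hpol : polar (plusForm 4 F) v ((M i₀).1 v) ≠ 0) : False := by
  classical
  have h : Au (tauB F) := H237.RC.TP.au_tauB
  set! c := polar (plusForm 4 F) v ((M i₀).1 v) with hcd; rewrite [← hcd] at hpol
  set! Γ := M i₀ with hΓ; rewrite [← hΓ] at hcd hcm
  have hss : ∀ j, j ≠ i₁ → IsSS (plusForm 4 F) (RingEquiv.refl F) 1 (M j).1 := fun j hj => ss_of (hl j hj) (hd j hj)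
  have hssΓ := hss i₀ h01
  have hdΓ := hd i₀ h01
  have hw'0 : dia (tauB F) (Γ.1 v) (Γ.1 v) = 0 := by
    rw [← hdΓ, hv0]
    have e := ss_smul hssΓ 0 v
    rw [zero_smul, zero_smul] at e
    exact e
  set! w := c⁻¹ • Γ.1 v with hw
  have hww : dia (tauB F) w w = 0 := smul_dia hw'0 c⁻¹
  have k : Pr (tauB F) v w := ⟨hv0, hww, by rw [hw, polar_smul_right, ← hcd, smul_eq_mul, inv_mul_cancel₀ hpol]⟩
  have hwj : ∀ j, j ≠ i₁ → j ≠ i₀ → (M j).1 w = w := by
    intro j h1 h0
    have e : (M j).1 (Γ.1 v) = Γ.1 v := by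
      have e1 := congrArg (fun X : G8 F => X.1 v) (hcm j h1 h0)
      change (M j).1 (Γ.1 v) = Γ.1 ((M j).1 v) at e1
      rw [e1, hv j h1 h0]
    rw [hw, ss_smul (hss j h1), e]
  have hF : ∀ j, j ≠ i₁ → j ≠ i₀ → Fix4 (M j) v w (dia (tauB F) v w) (dia (tauB F) w v) := fun j h1 h0 =>
    M_fix4 h (hl j h1) (hd j h1) (hv j h1 h0) (hwj j h1 h0)
  have h3w : dia (tauB F) ((3 : F) • w) ((3 : F) • w) = 0 := smul_dia hww 3
  have htv : dia (tauB F) ((3 * c⁻¹) • v) ((3 * c⁻¹) • v) = 0 := smul_dia hv0 _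
  obtain ⟨α, hα, hαd⟩ := exists_rtE h3 hG hv0
  obtain ⟨β, hβ, hβd⟩ := exists_rtE h3 hG htv
  obtain ⟨β', hβ', hβ'd⟩ := exists_rtE h3 hG h3w
  set! A := up σ α with hA
  set! B := up σ β with hB
  have e3w : Γ.1 ((3 * c⁻¹) • v) = (3 : F) • w := by rw [ss_smul hssΓ, hw, smul_smul]
  have hconj : x i₀ * B * (x i₀)⁻¹ = up σ β' := by
    refine eq_of_lf hE hσ (((hM i₀ h01).mul (Lf.tg β)).mul (hM i₀ h01).inv) ?_
    rw [conj_rt hssΓ hdΓ hβ (β := β') (by rw [e3w]; exact hβ')]
    exact Lf.tg β'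
  have cj : ∀ {v' : V8 F} {δ : ↥(E (plusForm 4 F))}, (∀ z, (δ : V8 F ≃ₗ[F] V8 F) z = rtF v' z) →
      (∀ j, j ≠ i₁ → j ≠ i₀ → (M j).1 v' = v') → ∀ j, j ≠ i₁ → j ≠ i₀ → Commute (up σ δ) (x j) := by
    intro v' δ hδ hv' j h1 h0
    refine (comm_of_lf hE hσ (hM j h1) (Lf.tg δ) ?_).symm
    rw [← mul_inv_eq_iff_eq_mul]
    exact conj_rt (hss j h1) (hd j h1) hδ (by rw [hv' j h1 h0]; exact hδ)
  have hAj : ∀ j, j ≠ i₀ → Commute A (x j) := by
    intro j h0
    by_cases h1 : j = i₁
    · subst h1; exact (comm_x1 hG hE hσ hL hαd).symm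
    · exact cj hα hv j h1 h0
  have hBj : ∀ j, j ≠ i₀ → Commute B (x j) := by
    intro j h0
    by_cases h1 : j = i₁
    · subst h1; exact (comm_x1 hG hE hσ hL hβd).symm
    · exact cj hβ (fun j h1 h0 => by rw [ss_smul (hss j h1), hv j h1 h0]) j h1 h0
  set! y := A * (x i₀ * B * (x i₀)⁻¹) with hy
  have hyE : y = up σ (α * β') := by rw [hy, hconj, hA, map_mul]
  have hAB : (A * B) ^ p = 1 := by
    have e : (α * β) ^ p = 1 := by
      apply rt_charP h3 hv0 (t := 1 + 3 * c⁻¹)
      intro z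
      have e := rt_add h3 hv0 1 (3 * c⁻¹) z
      rw [one_smul] at e
      rw [mulE, hα, hβ, e]
    rw [hA, hB, ← map_mul, ← map_pow, e, map_one]
  have hy3 : y ^ 3 = 1 := by
    have e : (α * β') ^ 3 = 1 := by
      apply extE
      intro z
      rw [pow_three]
      simp only [mulE]
      rw [hβ', hα, hβ', hα, hβ', hα]
      refine rt_three h3 hv0 h3w ?_ z
      rw [polar_smul_right, k.vw, smul_eq_mul, mul_one]
    rw [hyE, ← map_pow, e, map_one]
  have hcov' : Cov Ω (Function.update x i₀ y) :=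
    mv3 hcov i₀ (fun j hj => hAj j hj) (fun j hj => hBj j hj) (fun j => hc i₀ j)
      ((Nat.coprime_primes (CharP.char_is_prime F p) Nat.prime_three).2 (p_ne_three h3)) hAB hy3
  have hyj : ∀ j, j ≠ i₀ → Commute y (x j) := by
    intro j hj
    have e : Commute (x i₀) (x j) := hc i₀ j
    exact (hAj j hj).mul_left ((e.mul_left (hBj j hj)).mul_left e.inv_left)
  refine kill_two (x := Function.update x i₀ y) (M := Function.update M i₀ (tg (plusForm 4 F) (α * β'))) (r := r)
    hG hE hσ (p := p) (p_ne_three h3) h01 hr ?_ ?_ hrp ?_ hcov' h ?_ k ?_ ?_ ?_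
  · intro j h1 h0; rw [Function.update_of_ne h0]; exact hx j h1 h0
  · intro j h1 h0; rw [Function.update_of_ne h0]; exact hx1 j h1 h0
  · intro i j
    by_cases hi : i = i₀
    · subst hi
      by_cases hj : j = i
      · subst hj; rfl
      · rw [Function.update_self, Function.update_of_ne hj]; exact hyj j hj
    · by_cases hj : j = i₀
      · subst hj
        rw [Function.update_self, Function.update_of_ne hi]; exact (hyj i hi).symm
      · rw [Function.update_of_ne hi, Function.update_of_ne hj]; exact hc i j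
  · rw [Function.update_of_ne h01.symm]; exact hL
  · intro j h1
    by_cases hj : j = i₀
    · subst hj
      rw [Function.update_self, Function.update_self, hyE]
      exact Lf.tg _
    · rw [Function.update_of_ne hj, Function.update_of_ne hj]; exact hM j h1
  · intro j h1 h0
    rw [Function.update_of_ne h0]; exact hF j h1 h0
  · rw [Function.update_self]
    exact rt_frame k hα hβ'

/-- **kill lemma 4**: two members -/
theorem kill_uni [Finite F] (h3 : (3 : F) ≠ 0) {G Ω : Type*} [Group G] [Finite G] [MulAction G Ω] [Nonempty Ω]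
    {N : Subgroup G} {σ : P8 F →* G} (hG : Good (plusForm 4 F)) (hE : Env G Ω N) (hσ : Rp (plusForm 4 F) N σ)
    {ι : Type*} [Finite ι] {x : ι → G} {i₁ i₀ : ι} (h01 : i₀ ≠ i₁) (hι : ∀ j, j = i₁ ∨ j = i₀)
    (hc : ∀ i j, x i * x j = x j * x i) (hcov : Cov Ω x) (hL : La σ (x i₁) (xt hG (tauB F)))
    {Γ : G8 F} (hM : Lf (up σ) (x i₀) Γ) (hl : Cfsg.Agent.H198.TriDia.IsLin Γ)
    (hd : ∀ u w, Γ.1 (dia (tauB F) u w) = dia (tauB F) (Γ.1 u) (Γ.1 w)) (h1 : Γ ≠ 1) : False := by
  classical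
  obtain ⟨p, hp⟩ := CharP.exists F
  have hss := ss_of hl hd
  -- a moved vector
  obtain ⟨v₁, hv₁, hm⟩ : ∃ v₁ : V8 F, dia (tauB F) v₁ v₁ = 0 ∧ Γ.1 v₁ ≠ v₁ := by
    by_contra hno
    push Not at hno
    apply h1
    apply extG
    intro z
    exact H669.TriBal.eq_of_delta h3 hss.add (ss_smul hss) hno z
  have hw₁ : dia (tauB F) (Γ.1 v₁) (Γ.1 v₁) = 0 := by
    rw [← hd, hv₁]
    have e := ss_smul hss 0 v₁
    rw [zero_smul, zero_smul] at e
    exact e
  obtain ⟨α, hα, hαd⟩ := exists_rtE h3 hG hv₁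
  obtain ⟨β, hβ, hβd⟩ := exists_rtE h3 hG hw₁
  have hαβ : α * β⁻¹ ≠ 1 := by
    intro e
    rw [mul_inv_eq_one] at e
    exact hm (rt_injective h3 hw₁ hv₁ (fun z => by rw [← hα, ← hβ, e]))
  set! A := up σ α with hA
  have hconj : x i₀ * A * (x i₀)⁻¹ = up σ β := by
    refine eq_of_lf hE hσ ((hM.mul (Lf.tg α)).mul hM.inv) ?_
    rw [conj_rt hss hd hα hβ]
    exact Lf.tg β
  have hy : A * x i₀ * A⁻¹ * (x i₀)⁻¹ = up σ (α * β⁻¹) := by
    rw [map_mul, map_inv, ← hconj, ← hA]
    group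
  have hA1 : Commute A (x i₁) := (comm_x1 hG hE hσ hL hαd).symm
  have hcov' : Cov Ω (Function.update x i₀ (up σ (α * β⁻¹))) := by
    rw [← hy]
    apply hcov.mv_comm
    intro j hj
    rcases hι j with rfl | rfl
    · exact hA1
    · exact absurd rfl hj
  have hyc : Commute (up σ (α * β⁻¹)) (x i₁) := by
    rw [← hy]
    have e : Commute (x i₀) (x i₁) := hc i₀ i₁
    exact ((hA1.mul_left e).mul_left hA1.inv_left).mul_left e.inv_left
  -- a vector
  obtain ⟨v, hv, hpol⟩ : ∃ v : V8 F, dia (tauB F) v v = 0 ∧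
      polar (plusForm 4 F) v (((α * β⁻¹ : ↥(E (plusForm 4 F))) : V8 F ≃ₗ[F] V8 F) v) ≠ 0 := by
    by_contra hno
    push Not at hno
    apply hαβ
    apply Subtype.ext
    refine H746.BRigid.B_rigid h3 ?_ hno
    exact mul_mem (Subgroup.subset_closure ⟨v₁, hv₁, hα⟩) (inv_mem (Subgroup.subset_closure ⟨_, hw₁, hβ⟩))
  have hd' : ∀ u w, (tg (plusForm 4 F) (α * β⁻¹)).1 (dia (tauB F) u w) =
      dia (tauB F) ((tg (plusForm 4 F) (α * β⁻¹)).1 u) ((tg (plusForm 4 F) (α * β⁻¹)).1 w) := by
    have hb : ∀ u w, ((β⁻¹ : ↥(E (plusForm 4 F))) : V8 F ≃ₗ[F] V8 F) (dia (tauB F) u w) =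
        dia (tauB F) (((β⁻¹ : ↥(E (plusForm 4 F))) : V8 F ≃ₗ[F] V8 F) u)
          (((β⁻¹ : ↥(E (plusForm 4 F))) : V8 F ≃ₗ[F] V8 F) w) := by
      intro u w
      have e : ∀ z, (β : V8 F ≃ₗ[F] V8 F) (((β⁻¹ : ↥(E (plusForm 4 F))) : V8 F ≃ₗ[F] V8 F) z) = z := fun z => by
        rw [← mulE, mul_inv_cancel]; rfl
      apply (β : V8 F ≃ₗ[F] V8 F).injective
      rw [hβd, e, e, e]
    intro u w
    simp only [tgE, tgE, tgE, mulE, mulE, mulE, hb, hαd]
  refine kill_three h3 hG hE hσ (p := p) (x := Function.update x i₀ (up σ (α * β⁻¹)))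
    (M := fun _ => tg (plusForm 4 F) (α * β⁻¹)) (r := fun _ => 2) h01 ?_ ?_ ?_ ?_ ?_ hcov' ?_ ?_ ?_ ?_ hv ?_ ?_ hpol
  · intro j h1 h0; exact absurd ((hι j).resolve_left h1) h0
  · intro j h1 h0; exact absurd ((hι j).resolve_left h1) h0
  · intro j h1 h0; exact absurd ((hι j).resolve_left h1) h0
  · intro j h1 h0; exact absurd ((hι j).resolve_left h1) h0
  · intro i j
    rcases hι i with rfl | rfl
    · rcases hι j with rfl | rfl
      · rfl
      · rw [Function.update_of_ne h01.symm, Function.update_self]; exact hyc.symm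
    · rcases hι j with rfl | rfl
      · rw [Function.update_of_ne h01.symm, Function.update_self]; exact hyc
      · rfl
  · rw [Function.update_of_ne h01.symm]; exact hL
  · intro j h1
    obtain rfl := (hι j).resolve_left h1
    rw [Function.update_self]
    exact Lf.tg _
  · intro j h1
    exact ⟨1, one_ne_zero, fun x y => map_add ((α * β⁻¹ : ↥(E (plusForm 4 F))) : V8 F ≃ₗ[F] V8 F) x y,
      fun a x => map_smul ((α * β⁻¹ : ↥(E (plusForm 4 F))) : V8 F ≃ₗ[F] V8 F) a x,
      fun x => by rw [one_mul]; exact E_le_O (α * β⁻¹).2 x⟩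
  · intro j h1; exact hd'
  · intro j h1 h0; exact absurd ((hι j).resolve_left h1) h0
  · intro j h1 h0; exact absurd ((hι j).resolve_left h1) h0

end Cfsg.Agent.H442.RC.TriB
end

-- part: H442/RC/ExDef
section
/-!
# S3510, triality of type (ii): exact automorphisms of the Okubo product
-/

set_option autoImplicit false

namespace Cfsg.Agent.H442.RC.TriB

open Module QuadraticMap Cfsg.Agent.LieClassical.OrthCore Cfsg.Agent.LieClassical.OrthTrans
  Cfsg.Agent.LieClassical.OrthSimple Cfsg.Agent.ClassicalGeometry.OrthAut1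
  Cfsg.Agent.ClassicalGeometry.OrthSemi Cfsg.Agent.H198.Classes
  Cfsg.Agent.LieClassical.QuadForms Cfsg.Agent.H198.ClassesPlus
  Cfsg.Agent.ClassicalGeometry.TrialityOct Cfsg.Agent.ClassicalGeometry.Triality
  Cfsg.Agent.ClassicalGeometry.TrialitySpaces Cfsg.Agent.H198.TriBase Cfsg.Agent.H198.TriAut
  Cfsg.Agent.H206.Balance Cfsg.Agent.H198.BalVar Cfsg.Agent.H198.TriDia Cfsg.Agent.H198.TriSpec
  Cfsg.Agent.H198.TriPhi

universe u

/-- an exact automorphism of the Okubo product -/
def Ex {F : Type u} [Field F] (g : V8 F ≃ₗ[F] V8 F) : Prop :=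
  ∀ x y, g (dia (tauB F) x y) = dia (tauB F) (g x) (g y)

end Cfsg.Agent.H442.RC.TriB
end

private theorem dce_4ae2e178a9c8 : _root_.True := by
  try have : _root_.True := by simp only [_root_.Cfsg.Agent.H442.RC.TriB.Fr.Bm.eq_1]
  try have : _root_.True := by simp only [_root_.Cfsg.Agent.H442.RC.TriB.Fr.Bm.congr_simp]
  try have : _root_.True := by simp only [_root_.Cfsg.Agent.H442.RC.TriB.Fr.Ap.eq_1]
  try have : _root_.True := by simp only [_root_.Cfsg.Agent.H442.RC.TriB.Fr.kk.eq_1]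
  try have : _root_.True := by simp only [_root_.Cfsg.Agent.H442.RC.TriB.Fr.Bp.eq_1]
  try have : _root_.True := by simp only [_root_.Cfsg.Agent.H442.RC.TriB.Fr.Am.eq_1]
  try have : _root_.True := by simp only [_root_.Cfsg.Agent.H442.RC.TriB.Fr.Ap.congr_simp]
  try have : _root_.True := by simp only [_root_.Cfsg.Agent.H442.RC.TriB.Fr.Am.congr_simp]
  try have : _root_.True := by simp only [_root_.Cfsg.Agent.H442.RC.TriB.Fr.Bp.congr_simp]
  exact _root_.True.intro
end

-- part: H233/RC/Red_mg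
section
prune_inst 0x100001003422000000180010002000202000000200000c000482020002010000008208400310001400000040000000200000000002000000000000000000010000000000a0480000000010000000000000000000000000000000000000000000000000000
set_option linter.all false
open scoped Cfsg.Agent.FastGrp

-- part: H202/RC/AutE
section
/-!
# The automorphism of `S ≃* N` induced by `x : G`
-/

set_option autoImplicit false
open Cfsg

namespace Cfsg.Agent.H202.RC

open MulAction Cfsg.Agent.H106.RC

variable {G S : Type*} [Group G] [Group S] {N : Subgroup G}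

/-- action of `G` on `S` by conjugation on the normal subgroup `N`, transported by `e : N ≃* S` -/
noncomputable def autE (hN : N.Normal) (e : N ≃* S) : G →* MulAut S :=
  (MulAut.congr e).toMonoidHom.comp MulAut.conjNormal

theorem autE_apply (hN : N.Normal) (e : N ≃* S) (x : G) (s : N) :
    autE hN e x (e s) = e ⟨x * s * x⁻¹, hN.conj_mem _ s.2 x⟩ := by
  change e (MulAut.conjNormal x (e.symm (e s))) = _
  rw [e.symm_apply_apply]
  congr 1

/-- conjugation formula in `G` -/
theorem autE_symm (hN : N.Normal) (e : N ≃* S) (x : G) (s : S) :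
    x * (e.symm s : G) * x⁻¹ = e.symm (autE hN e x s) := by
  obtain ⟨t, rfl⟩ := e.surjective s
  rw [autE_apply, e.symm_apply_apply, e.symm_apply_apply]

end Cfsg.Agent.H202.RC
end

-- part: H233/RC/Stmts
section
/-!
# S3510, PSL_n, n ≥ 3: statements of the field row (helper930) and of the graph row (helper384)
-/

set_option autoImplicit false
open Cfsg

namespace Cfsg.Agent.H202.RC

open MulAction Cfsg.Agent.H106.RC

/-- field type (helper930, box A5): some `x i` induces `Psi A * phi σ`, `σ ≠ 1`, and no `x i` is of graph type -/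
def FieldStmt : Prop :=
  ∀ (F : Type) [Field F] [Fintype F] (n : ℕ) (_ : 3 ≤ n) (G : Type) [Group G] [Finite G] (Ω : Type) [Finite Ω]
    [Nonempty Ω] [MulAction G Ω] (N : Subgroup G) (hE : Env G Ω N)
    (e : N ≃* Matrix.ProjectiveSpecialLinearGroup (Fin n) F) (_ : ¬ Exc (Matrix.ProjectiveSpecialLinearGroup (Fin n) F))
    (_ : IH (Nat.card (Matrix.ProjectiveSpecialLinearGroup (Fin n) F)))
    (ι : Type) [Finite ι] (x : ι → G) (r : ι → ℕ), PF x r → Cov Ω x → CovMin Ω x →
    (∀ i, ∃ (A : GL (Fin n) F) (σ : F ≃+* F), autE hE.norm e (x i) = H199.PslAut.Psi n F A * H199.PslAut.phi n F σ) →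
    (∃ i, ∃ (A : GL (Fin n) F) (σ : F ≃+* F), autE hE.norm e (x i) = H199.PslAut.Psi n F A * H199.PslAut.phi n F σ ∧ σ ≠ 1) →
    False

end Cfsg.Agent.H202.RC
end

-- part: H233/RC/Red
section
/-!
# S3510, box RED: `exists_frame`, `lifts_of`, `exists_linCov`, `row_psl`
-/

set_option autoImplicit false
set_option linter.unusedSectionVars false
open Cfsg

namespace Cfsg.Agent.H202.RC

open MulAction Cfsg.Agent.H106.RC Module Cfsg.Agent.H233.RC

section red

variable {F G Ω ι : Type} [Field F] [Fintype F] {n : ℕ} [Group G] [Finite G] [Finite Ω] [Nonempty Ω] [MulAction G Ω]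
  [Finite ι] {N : Subgroup G}

theorem semi_lift (hE : Env G Ω N) (e : N ≃* Matrix.ProjectiveSpecialLinearGroup (Fin n) F)
    {x : G} {A : GL (Fin n) F} {σ : F ≃+* F}
    (hx : autE hE.norm e x = H199.PslAut.Psi n F A * H199.PslAut.phi n F σ) :
    Lifts (kap e) x (semiMap A σ) := by
  intro s s' hss
  obtain ⟨S, rfl⟩ := (slE (Pi.basisFun F (Fin n))).surjective s
  obtain ⟨S', rfl⟩ := (slE (Pi.basisFun F (Fin n))).surjective s'
  rw [kap_slE, kap_slE, autE_symm hE.norm]
  congr 2
  apply liftAut_of_induced ((H199.PslAut.induced_iff A σ _).2 hx)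
  intro v
  rw [← slE_std, ← slE_std]
  exact hss v

/-- (R3) linear covers: the lifts can be chosen commuting -/
theorem exists_linCov (hn : 3 ≤ n) (hE : Env G Ω N) (e : N ≃* Matrix.ProjectiveSpecialLinearGroup (Fin n) F)
    {x : ι → G} {r : ι → ℕ} (h1 : PF x r) (h2 : Cov Ω x) (h3 : CovMin Ω x)
    (hx : ∀ i, ∃ A : GL (Fin n) F, autE hE.norm e (x i) = H199.PslAut.Psi n F A) :
    ∃ (κ : SLV F (Fin n → F) →* G) (a : ι → (Fin n → F) ≃ₗ[F] (Fin n → F)), LinCov Ω N κ x r a := by
  have hd : finrank F (Fin n → F) = n := by rw [finrank_fintype_fun_eq_card, Fintype.card_fin]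
  choose A hA using hx
  have hcov : SemiCov Ω N (kap e) x r (fun i => semiMap (A i) 1) (fun _ => 1) := by
    refine ⟨frame_of_iso hE e, h1, h2, h3, fun i => semiMap_smul (A i) 1, fun i => ?_⟩
    apply semi_lift hE e
    rw [hA i, map_one, mul_one]
  exact ⟨kap e, _, hcov.linCov (by omega) fun i => rfl⟩

end red

/-- the linear theorem (`hL` of `row_psl`) in the form with `autE`; the cover need not be minimal -/
theorem lin_noCov
    (hL : ∀ (F V G Ω ι : Type) [Field F] [Finite F] [AddCommGroup V] [Module F V] [Module.Finite F V] [Group G]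
      [Finite G] [Finite Ω] [Nonempty Ω] [MulAction G Ω] [Finite ι] (N : Subgroup G) (κ : SLV F V →* G) (x : ι → G)
      (r : ι → ℕ) (a : ι → V ≃ₗ[F] V) (_ : LinCov Ω N κ x r a) (_ : 3 ≤ finrank F V)
      (_ : ¬ (Nat.card F = 2 ∧ finrank F V = 4)) (_ : IH (Nat.card N)), False)
    {F G Ω ι : Type} [Field F] [Fintype F] {n : ℕ} [Group G] [Finite G] [Finite Ω] [Nonempty Ω] [MulAction G Ω]
    [Finite ι] {N : Subgroup G} (hn : 3 ≤ n) (hE : Env G Ω N)
    (e : N ≃* Matrix.ProjectiveSpecialLinearGroup (Fin n) F) (hne : ¬ (n = 4 ∧ Nat.card F = 2))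
    (hIH : IH (Nat.card (Matrix.ProjectiveSpecialLinearGroup (Fin n) F)))
    {x : ι → G} {r : ι → ℕ} (h1 : PF x r) (h2 : Cov Ω x)
    (hx : ∀ i, ∃ A : GL (Fin n) F, autE hE.norm e (x i) = H199.PslAut.Psi n F A) : False := by
  obtain ⟨s, hs1, hs2⟩ := h2.exists_min
  have h1' : PF (fun i : s => x i) (fun i : s => r i) :=
    ⟨fun i => h1.prime i, fun i j hij => Subtype.ext (h1.inj hij), fun i => h1.pow i, fun i => h1.ne i,
      fun i j => h1.comm i j⟩
  obtain ⟨κ, a, hcov⟩ := exists_linCov hn hE e h1' hs1 hs2 fun i => hx i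
  refine hL F (Fin n → F) G Ω s N κ _ _ a hcov ?_ ?_ ?_
  · rw [finrank_fintype_fun_eq_card, Fintype.card_fin]; exact hn
  · rw [finrank_fintype_fun_eq_card, Fintype.card_fin]
    rintro ⟨h, h'⟩
    exact hne ⟨h', h⟩
  · rw [Nat.card_congr e.toEquiv]; exact hIH

end Cfsg.Agent.H202.RC
end

-- part: H237/RC/SN
section
/-!
# S3510, triality of type (ii), box SN: exact automorphisms of the Okubo product are inner in `3 × 3` matrices (helper237)
-/

set_option autoImplicit false

namespace Cfsg.Agent.H237.RC.SN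

open Module QuadraticMap Cfsg.Agent.LieClassical.OrthCore Cfsg.Agent.LieClassical.OrthTrans
  Cfsg.Agent.LieClassical.OrthSimple Cfsg.Agent.ClassicalGeometry.OrthAut1
  Cfsg.Agent.ClassicalGeometry.OrthSemi Cfsg.Agent.H198.Classes
  Cfsg.Agent.LieClassical.QuadForms Cfsg.Agent.H198.ClassesPlus
  Cfsg.Agent.ClassicalGeometry.TrialityOct Cfsg.Agent.ClassicalGeometry.Triality
  Cfsg.Agent.ClassicalGeometry.TrialitySpaces Cfsg.Agent.H198.TriBase Cfsg.Agent.H198.TriAut
  Cfsg.Agent.H206.Balance Cfsg.Agent.H198.BalVar Cfsg.Agent.H198.TriDia Cfsg.Agent.H198.TriSpec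
  Cfsg.Agent.H198.TriPhi Cfsg.Agent.H442.RC.TriB Matrix

universe u v

section iso

variable {F : Type u} [Field F]

/-- an exact automorphism is an isometry -/
theorem Ex.form {g : V8 F ≃ₗ[F] V8 F} (hg : Ex g) (u : V8 F) : plusForm 4 F (g u) = plusForm 4 F u := by
  have hw : (fun _ => 1 : V8 F) ≠ 0 := fun h => one_ne_zero (congrFun h (.inl 0))
  set z : V8 F := fun _ => 1 with hz
  have h1 : g (dia (tauB F) (dia (tauB F) u z) u) = plusForm 4 F u • g z := by
    rw [dia_dia, map_smul]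
  rw [hg, hg, dia_dia] at h1
  have h2 : (plusForm 4 F (g u) - plusForm 4 F u) • g z = 0 := by
    rw [sub_smul, h1, sub_self]
  rcases smul_eq_zero.1 h2 with h3 | h3
  · exact sub_eq_zero.1 h3
  · exact absurd ((map_eq_zero_iff g g.injective).1 h3) hw

theorem Ex.polar {g : V8 F ≃ₗ[F] V8 F} (hg : Ex g) (u w : V8 F) :
    QuadraticMap.polar (plusForm 4 F) (g u) (g w) = QuadraticMap.polar (plusForm 4 F) u w := by
  unfold QuadraticMap.polar
  rw [← map_add, Ex.form hg, Ex.form hg, Ex.form hg]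

end iso

section ext

variable {F : Type u} [Field F] {E : Type v} [Field E]

/-- base change of a linear map -/
noncomputable def bc (i : F →+* E) (g : V8 F ≃ₗ[F] V8 F) : V8 E →ₗ[E] V8 E :=
  Matrix.toLin' ((LinearMap.toMatrix' (g : V8 F →ₗ[F] V8 F)).map i)

theorem bc_apply (i : F →+* E) (g : V8 F ≃ₗ[F] V8 F) (z : V8 F) : bc i g (i ∘ z) = i ∘ (g z) := by
  funext k
  have h := RingHom.map_mulVec i (LinearMap.toMatrix' (g : V8 F →ₗ[F] V8 F)) z k
  rw [bc, Matrix.toLin'_apply, ← h]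
  have h2 : LinearMap.toMatrix' (g : V8 F →ₗ[F] V8 F) *ᵥ z = g z := by
    rw [← Matrix.toLin'_apply, Matrix.toLin'_toMatrix']
    rfl
  rw [h2]
  rfl

theorem Phi_comp (i : F →+* E) (w : E) (z : V8 F) : Phi (RingHom.id E) w (i ∘ z) = Phi i w z := rfl

/-- all matrices are `Phi x + t` -/
noncomputable def psi (w : E) : (V8 E × E) →ₗ[E] Matrix (Fin 3) (Fin 3) E where
  toFun a := Phi (RingHom.id E) w a.1 + a.2 • (1 : Matrix (Fin 3) (Fin 3) E)
  map_add' a b := by
    rw [Prod.fst_add, Prod.snd_add, Phi_add, add_smul]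
    abel
  map_smul' c a := by
    rw [Prod.smul_fst, Prod.smul_snd, Phi_smul, RingHom.id_apply, smul_add, smul_smul, smul_eq_mul]

theorem psi_apply (w : E) (x : V8 E) (t : E) :
    psi w (x, t) = Phi (RingHom.id E) w x + t • (1 : Matrix (Fin 3) (Fin 3) E) := rfl

theorem psi_bij {w : E} (hw : w ^ 2 + w + 1 = 0) (h3 : (3 : E) ≠ 0) : Function.Bijective (psi w) := by
  constructor
  · rw [← LinearMap.ker_eq_bot, LinearMap.ker_eq_bot']
    rintro ⟨x, t⟩ h
    rw [psi_apply] at h
    have h1 : trace (Phi (RingHom.id E) w x + t • (1 : Matrix (Fin 3) (Fin 3) E)) = 0 := by rw [h, trace_zero]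
    rw [trace_add, trace_Phi _ hw, trace_smul, trace_one, zero_add, smul_eq_mul, Fintype.card_fin] at h1
    have h2 : t = 0 := (mul_eq_zero.1 h1).resolve_right (by exact_mod_cast h3)
    rw [h2, zero_smul, add_zero] at h
    have h4 : x = 0 := by
      apply Phi_injective (RingHom.id E) hw h3
      rw [h, Phi_zero]
    rw [h2, h4]
    rfl
  · intro M
    obtain ⟨x, hx⟩ := H746.BRigid.exists_Phi_id hw h3 (M := M - (trace M / 3) • (1 : Matrix (Fin 3) (Fin 3) E)) (by
      simp only [Matrix.sub_apply, Matrix.smul_apply, Matrix.one_apply_eq, smul_eq_mul, mul_one, trace_fin_three]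
      field_simp
      ring)
    exact ⟨(x, trace M / 3), by rw [psi_apply, hx, sub_add_cancel]⟩

/-- the linear extension of an exact automorphism to the matrices -/
noncomputable def ex (i : F →+* E) {w : E} (hw : w ^ 2 + w + 1 = 0) (h3 : (3 : E) ≠ 0) (g : V8 F ≃ₗ[F] V8 F) :
    Matrix (Fin 3) (Fin 3) E →ₗ[E] Matrix (Fin 3) (Fin 3) E :=
  (psi w).comp (((bc i g).prodMap LinearMap.id).comp
    ((LinearEquiv.ofBijective (psi w) (psi_bij hw h3)).symm : Matrix (Fin 3) (Fin 3) E →ₗ[E] (V8 E × E)))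

theorem ex_psi (i : F →+* E) {w : E} (hw : w ^ 2 + w + 1 = 0) (h3 : (3 : E) ≠ 0) (g : V8 F ≃ₗ[F] V8 F)
    (x : V8 E) (t : E) : ex i hw h3 g (psi w (x, t)) = psi w (bc i g x, t) := by
  have h : (LinearEquiv.ofBijective (psi w) (psi_bij hw h3)).symm (psi w (x, t)) = (x, t) :=
    (LinearEquiv.ofBijective (psi w) (psi_bij hw h3)).symm_apply_apply (x, t)
  change psi w (((bc i g).prodMap LinearMap.id) ((LinearEquiv.ofBijective (psi w) (psi_bij hw h3)).symm (psi w (x, t)))) = _
  rw [h]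
  rfl

theorem ex_one (i : F →+* E) {w : E} (hw : w ^ 2 + w + 1 = 0) (h3 : (3 : E) ≠ 0) (g : V8 F ≃ₗ[F] V8 F) :
    ex i hw h3 g 1 = 1 := by
  have h := ex_psi i hw h3 g 0 1
  rw [psi_apply, psi_apply, map_zero, Phi_zero, zero_add, one_smul] at h
  exact h

theorem ex_Phi (i : F →+* E) {w : E} (hw : w ^ 2 + w + 1 = 0) (h3 : (3 : E) ≠ 0) (g : V8 F ≃ₗ[F] V8 F)
    (z : V8 F) : ex i hw h3 g (Phi i w z) = Phi i w (g z) := by
  have h := ex_psi i hw h3 g (i ∘ z) 0
  rw [psi_apply, psi_apply, bc_apply, Phi_comp, Phi_comp, zero_smul, add_zero, add_zero] at h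
  exact h

/-- the product of two values of `Phi` -/
theorem Phi_mul (i : F →+* E) {w : E} (hw : w ^ 2 + w + 1 = 0) (h3 : (3 : E) ≠ 0) (x y : V8 F) :
    (w ^ 2 - w) • (Phi i w x * Phi i w y) = w • Phi i w (dia (tauB F) x y) + w ^ 2 • Phi i w (dia (tauB F) y x) +
      ((w - w ^ 2) / 3 * i (QuadraticMap.polar (plusForm 4 F) x y)) • (1 : Matrix (Fin 3) (Fin 3) E) := by
  rw [Phi_dia i hw h3, Phi_dia i hw h3, trace_mul_comm (Phi i w y), trace_Phi_mul i hw h3]
  set X := Phi i w x
  set Y := Phi i w y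
  set b := i (QuadraticMap.polar (plusForm 4 F) x y)
  have e1 : w • (w • (X * Y) - w ^ 2 • (Y * X) - ((w - w ^ 2) / 3 * -b) • (1 : Matrix (Fin 3) (Fin 3) E)) +
      w ^ 2 • (w • (Y * X) - w ^ 2 • (X * Y) - ((w - w ^ 2) / 3 * -b) • (1 : Matrix (Fin 3) (Fin 3) E)) +
      ((w - w ^ 2) / 3 * b) • (1 : Matrix (Fin 3) (Fin 3) E) = (w ^ 2 - w ^ 4) • (X * Y) +
      ((w ^ 2 + w + 1) * ((w - w ^ 2) / 3 * b)) • (1 : Matrix (Fin 3) (Fin 3) E) := by
    module
  have e2 : w ^ 2 - w ^ 4 = w ^ 2 - w := by linear_combination (w - w ^ 2) * hw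
  rw [e1, hw, zero_mul, zero_smul, add_zero, e2]

theorem ex_mul_Phi (i : F →+* E) {w : E} (hw : w ^ 2 + w + 1 = 0) (h3 : (3 : E) ≠ 0) {g : V8 F ≃ₗ[F] V8 F}
    (hg : Ex g) (x y : V8 F) : ex i hw h3 g (Phi i w x * Phi i w y) =
      ex i hw h3 g (Phi i w x) * ex i hw h3 g (Phi i w y) := by
  have hθ : w ^ 2 - w ≠ 0 := fun h => theta_ne hw h3 (by linear_combination -h)
  have h1 := congrArg (ex i hw h3 g) (Phi_mul i hw h3 x y)
  rw [map_smul, map_add, map_add, map_smul, map_smul, map_smul, ex_one, ex_Phi, ex_Phi, hg, hg,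
    ← Ex.polar hg x y, ← Phi_mul i hw h3] at h1
  rw [ex_Phi, ex_Phi]
  exact smul_right_injective _ hθ h1

/-- the matrices `Phi (b k)` and `1` span -/
theorem psi_sum (i : F →+* E) (w : E) (x : V8 E) (t : E) :
    psi w (x, t) = ∑ k, x k • Phi i w (Pi.single k 1) + t • (1 : Matrix (Fin 3) (Fin 3) E) := by
  rw [psi_apply]
  congr 1
  have h1 : x = ∑ k, x k • (i ∘ (Pi.single k 1 : V8 F)) := by
    funext l
    rw [Finset.sum_apply, Finset.sum_eq_single l]
    · rw [Pi.smul_apply, Function.comp_apply, Pi.single_eq_same, map_one, smul_eq_mul, mul_one]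
    · intro k _ hk
      rw [Pi.smul_apply, Function.comp_apply, Pi.single_eq_of_ne (Ne.symm hk), map_zero, smul_zero]
    · intro h; exact absurd (Finset.mem_univ _) h
  have h2 : ∀ (s : Finset (Fin 4 ⊕ Fin 4)) (f : Fin 4 ⊕ Fin 4 → V8 E),
      Phi (RingHom.id E) w (∑ k ∈ s, f k) = ∑ k ∈ s, Phi (RingHom.id E) w (f k) := by
    intro s f
    classical
    induction s using Finset.induction_on with
    | empty => rw [Finset.sum_empty, Finset.sum_empty, Phi_zero]
    | insert a s ha ih => rw [Finset.sum_insert ha, Finset.sum_insert ha, Phi_add, ih]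
  conv_lhs => rw [h1]
  rw [h2]
  exact Finset.sum_congr rfl fun k _ => by rw [Phi_smul, RingHom.id_apply, Phi_comp]

theorem ex_mul (i : F →+* E) {w : E} (hw : w ^ 2 + w + 1 = 0) (h3 : (3 : E) ≠ 0) {g : V8 F ≃ₗ[F] V8 F}
    (hg : Ex g) (A B : Matrix (Fin 3) (Fin 3) E) : ex i hw h3 g (A * B) = ex i hw h3 g A * ex i hw h3 g B := by
  obtain ⟨⟨x, s⟩, rfl⟩ := (psi_bij hw h3).2 A
  obtain ⟨⟨y, t⟩, rfl⟩ := (psi_bij hw h3).2 B
  rw [psi_sum i, psi_sum i]
  simp only [add_mul, mul_add, Finset.sum_mul, Finset.mul_sum, map_add, map_sum, smul_mul_assoc, mul_smul_comm,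
    map_smul, one_mul, mul_one, ex_one, ex_mul_Phi i hw h3 hg]

/-- Skolem-Noether for the exact automorphisms of the Okubo product. -/
theorem exists_conj (i : F →+* E) {w : E} (hw : w ^ 2 + w + 1 = 0)
    (h3 : (3 : E) ≠ 0) {g : V8 F ≃ₗ[F] V8 F} (hg : Ex g) :
    ∃ P P' : Matrix (Fin 3) (Fin 3) E, P * P' = 1 ∧ P' * P = 1 ∧ ∀ z, Phi i w (g z) = P * Phi i w z * P' := by
  let φ : Matrix (Fin 3) (Fin 3) E →ₐ[E] Matrix (Fin 3) (Fin 3) E :=
    AlgHom.ofLinearMap (ex i hw h3 g) (ex_one i hw h3 g) (ex_mul i hw h3 hg)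
  have hinj : Function.Injective φ := φ.toRingHom.injective
  have hsur : Function.Surjective φ := (LinearMap.injective_iff_surjective (f := φ.toLinearMap)).1 hinj
  let Ψ : Matrix (Fin 3) (Fin 3) E ≃ₐ[E] Matrix (Fin 3) (Fin 3) E := AlgEquiv.ofBijective φ ⟨hinj, hsur⟩
  let f : Module.End E (Fin 3 → E) ≃ₐ[E] Module.End E (Fin 3 → E) :=
    (Matrix.toLinAlgEquiv' (R := E) (n := Fin 3)).symm.trans (Ψ.trans (Matrix.toLinAlgEquiv' (R := E) (n := Fin 3)))
  obtain ⟨T, hT⟩ := AlgEquiv.eq_linearEquivConjAlgEquiv f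
  let M : Matrix (Fin 3) (Fin 3) E := LinearMap.toMatrix' (T : (Fin 3 → E) →ₗ[E] (Fin 3 → E))
  let N : Matrix (Fin 3) (Fin 3) E := LinearMap.toMatrix' (T.symm : (Fin 3 → E) →ₗ[E] (Fin 3 → E))
  have hNM : N * M = 1 := by
    rw [← LinearMap.toMatrix'_comp, LinearEquiv.symm_comp, LinearMap.toMatrix'_id]
  have hMN : M * N = 1 := by
    rw [← LinearMap.toMatrix'_comp, LinearEquiv.comp_symm, LinearMap.toMatrix'_id]
  refine ⟨M, N, hMN, hNM, fun z => ?_⟩
  have h1 : ∀ A, Ψ A = M * A * N := by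
    intro A
    have h2 := DFunLike.congr_fun hT (Matrix.toLinAlgEquiv' A)
    have h3 : f (Matrix.toLinAlgEquiv' A) = Matrix.toLinAlgEquiv' (Ψ A) := by
      change Matrix.toLinAlgEquiv' (Ψ ((Matrix.toLinAlgEquiv').symm (Matrix.toLinAlgEquiv' A))) = _
      rw [AlgEquiv.symm_apply_apply]
    rw [h3] at h2
    have h4 : Ψ A = LinearMap.toMatrix' (Matrix.toLinAlgEquiv' (Ψ A)) := by
      exact (LinearMap.toMatrix'_toLin' (Ψ A)).symm
    rw [h4, h2]
    have h5 : T.conjAlgEquiv E (Matrix.toLinAlgEquiv' A) =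
        (T : (Fin 3 → E) →ₗ[E] (Fin 3 → E)) ∘ₗ (Matrix.toLin' A) ∘ₗ (T.symm : (Fin 3 → E) →ₗ[E] (Fin 3 → E)) := rfl
    rw [h5, LinearMap.toMatrix'_comp, LinearMap.toMatrix'_comp, LinearMap.toMatrix'_toLin', Matrix.mul_assoc]
  rw [← h1]
  exact (ex_Phi i hw h3 g z).symm

end ext

end Cfsg.Agent.H237.RC.SN
end

-- part: H188/RC/OkSS
section
/-!
# S3510, triality of type (ii), box SS: semisimple exact automorphisms of the Okubo product (helper188)

`g = conj P` on the matrices `Phi z`; `P` is diagonalisable.  Either the eigenvalues are pairwise different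
(`D1`), or `g` fixes a hyperbolic pair of vectors of `Δ = {v | v ⋄ v = 0}` (`D2`).
-/

set_option autoImplicit false

namespace Cfsg.Agent.H188.RC.OkSS

open Module QuadraticMap Cfsg.Agent.LieClassical.OrthCore Cfsg.Agent.LieClassical.OrthTrans
  Cfsg.Agent.LieClassical.OrthSimple Cfsg.Agent.ClassicalGeometry.OrthAut1
  Cfsg.Agent.ClassicalGeometry.OrthSemi Cfsg.Agent.H198.Classes
  Cfsg.Agent.LieClassical.QuadForms Cfsg.Agent.H198.ClassesPlus
  Cfsg.Agent.ClassicalGeometry.TrialityOct Cfsg.Agent.ClassicalGeometry.Triality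
  Cfsg.Agent.ClassicalGeometry.TrialitySpaces Cfsg.Agent.H198.TriBase Cfsg.Agent.H198.TriAut
  Cfsg.Agent.H206.Balance Cfsg.Agent.H198.BalVar Cfsg.Agent.H198.TriDia Cfsg.Agent.H198.TriSpec
  Cfsg.Agent.H198.TriPhi Cfsg.Agent.H442.RC.TriB Matrix

universe u v

/-! ### Diagonalisation -/

/-- a matrix with scalar `m`-th power is diagonalisable -/
theorem exists_diag {E : Type v} [Field E] [IsAlgClosed E] {P : Matrix (Fin 3) (Fin 3) E} {m : ℕ}
    (hm : (m : E) ≠ 0) {c : E} (hc : c ≠ 0) (h : P ^ m = c • (1 : Matrix (Fin 3) (Fin 3) E)) :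
    ∃ (T T' : Matrix (Fin 3) (Fin 3) E) (α : Fin 3 → E), T * T' = 1 ∧ T' * T = 1 ∧ P * T = T * diagonal α := by
  classical
  let f : Module.End E (Fin 3 → E) := Matrix.toLin' P
  have hpow : ∀ k : ℕ, f ^ k = Matrix.toLin' (P ^ k) := by
    intro k
    exact (Matrix.toLin'_pow P k).symm
  have hss : f.IsSemisimple := by
    have hsep : (Polynomial.X ^ m - Polynomial.C c : Polynomial E).Separable :=
      Polynomial.separable_X_pow_sub_C c hm hc
    refine Module.End.isSemisimple_of_squarefree_aeval_eq_zero hsep.squarefree ?_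
    rw [map_sub, map_pow, Polynomial.aeval_X, Polynomial.aeval_C, hpow, h, map_smul, Matrix.toLin'_one, sub_eq_zero]
    rfl
  have htop := Module.End.iSup_maxGenEigenspace_eq_top f
  let S : Set (Fin 3 → E) := {v | ∃ c : E, P *ᵥ v = c • v}
  have hspan : ⊤ ≤ Submodule.span E S := by
    rw [← htop]
    refine iSup_le fun χ => ?_
    intro v hv
    refine Submodule.subset_span ⟨χ, ?_⟩
    rw [hss.isFinitelySemisimple.maxGenEigenspace_eq_eigenspace] at hv
    exact Module.End.mem_eigenspace_iff.1 hv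
  obtain ⟨ι, b0, hb0⟩ : ∃ (ι : Type _) (b : Basis ι E (Fin 3 → E)), ∀ i, b i ∈ S :=
    ⟨_, Basis.ofSpan hspan, fun i => Basis.ofSpan_subset hspan ⟨i, rfl⟩⟩
  have hcard : Nat.card ι = 3 := by
    rw [← Module.finrank_eq_nat_card_basis b0]
    simp
  have : Finite ι := Nat.finite_of_card_ne_zero (by rw [hcard]; norm_num)
  have eqv := (Finite.equivFinOfCardEq hcard)
  have hb : ∀ i, (b0.reindex eqv) i ∈ S := by
    intro i
    rw [Basis.reindex_apply]
    exact hb0 _
  choose α hα using hb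
  let b := b0.reindex eqv
  refine ⟨(Pi.basisFun E (Fin 3)).toMatrix b, b.toMatrix (Pi.basisFun E (Fin 3)), α,
    Basis.toMatrix_mul_toMatrix_flip _ _, Basis.toMatrix_mul_toMatrix_flip _ _, ?_⟩
  ext x y
  rw [Matrix.mul_diagonal, Matrix.mul_apply]
  have h1 := congrFun (hα y) x
  rw [Matrix.mulVec, dotProduct] at h1
  simp only [Basis.toMatrix_apply, Pi.basisFun_repr]
  rw [h1, Pi.smul_apply, smul_eq_mul, mul_comm]

variable {F : Type u} [Field F] {E : Type v} [Field E]

/-! ### Conjugated matrices -/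

/-- the matrices in another basis -/
def Psi (i : F →+* E) (w : E) (T T' : Matrix (Fin 3) (Fin 3) E) (z : V8 F) : Matrix (Fin 3) (Fin 3) E :=
  T' * Phi i w z * T

section conj

variable {i : F →+* E} {w : E} {T T' : Matrix (Fin 3) (Fin 3) E}

theorem Psi_add (x y : V8 F) : Psi i w T T' (x + y) = Psi i w T T' x + Psi i w T T' y := by
  rw [Psi, Phi_add, mul_add, add_mul]; rfl

theorem Psi_sub (x y : V8 F) : Psi i w T T' (x - y) = Psi i w T T' x - Psi i w T T' y := by
  rw [Psi, Phi_sub, mul_sub, sub_mul]; rfl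

theorem Psi_smul (c : F) (x : V8 F) : Psi i w T T' (c • x) = i c • Psi i w T T' x := by
  rw [Psi, Phi_smul, mul_smul_comm, smul_mul_assoc]; rfl

theorem Psi_zero : Psi i w T T' (0 : V8 F) = 0 := by
  rw [Psi, Phi_zero, mul_zero, zero_mul]

theorem Psi_mul (hT : T * T' = 1) (x y : V8 F) : Psi i w T T' x * Psi i w T T' y = T' * (Phi i w x * Phi i w y) * T := by
  rw [Psi, Psi]
  calc T' * Phi i w x * T * (T' * Phi i w y * T) = T' * Phi i w x * (T * T') * Phi i w y * T := by noncomm_ring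
    _ = _ := by rw [hT]; noncomm_ring

theorem trace_conj (hT : T * T' = 1) (X : Matrix (Fin 3) (Fin 3) E) : trace (T' * X * T) = trace X := by
  rw [trace_mul_comm, ← mul_assoc, hT, one_mul]

theorem trace_Psi_mul (hw : w ^ 2 + w + 1 = 0) (h3 : (3 : E) ≠ 0) (hT : T * T' = 1) (x y : V8 F) :
    trace (Psi i w T T' x * Psi i w T T' y) = -i (polar (plusForm 4 F) x y) := by
  rw [Psi_mul hT, trace_conj hT, trace_Phi_mul i hw h3]

theorem Psi_eq_zero (hw : w ^ 2 + w + 1 = 0) (h3 : (3 : E) ≠ 0) (hT : T * T' = 1) {x : V8 F}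
    (h : Psi i w T T' x = 0) : x = 0 := by
  apply Phi_injective i hw h3
  rw [Phi_zero]
  have h1 : T * Psi i w T T' x * T' = Phi i w x := by
    rw [Psi]
    calc T * (T' * Phi i w x * T) * T' = (T * T') * Phi i w x * (T * T') := by noncomm_ring
      _ = _ := by rw [hT, one_mul, mul_one]
  rw [← h1, h, mul_zero, zero_mul]

/-- the bracket -/
theorem Psi_comm (hw : w ^ 2 + w + 1 = 0) (h3 : (3 : E) ≠ 0) (hT : T * T' = 1) (x y : V8 F) :
    Psi i w T T' (dia (tauB F) x y - dia (tauB F) y x) =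
      -(Psi i w T T' x * Psi i w T T' y - Psi i w T T' y * Psi i w T T' x) := by
  have e : Phi i w (dia (tauB F) x y - dia (tauB F) y x) = -(Phi i w x * Phi i w y - Phi i w y * Phi i w x) := by
    rw [Phi_sub, Phi_dia i hw h3, Phi_dia i hw h3, trace_mul_comm (Phi i w y)]
    have e6 : w + w ^ 2 = -1 := by linear_combination hw
    have e1 : w • (Phi i w x * Phi i w y) - w ^ 2 • (Phi i w y * Phi i w x) -
        ((w - w ^ 2) / 3 * trace (Phi i w x * Phi i w y)) • (1 : Matrix (Fin 3) (Fin 3) E) -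
        (w • (Phi i w y * Phi i w x) - w ^ 2 • (Phi i w x * Phi i w y) -
        ((w - w ^ 2) / 3 * trace (Phi i w x * Phi i w y)) • (1 : Matrix (Fin 3) (Fin 3) E)) =
        (w + w ^ 2) • (Phi i w x * Phi i w y - Phi i w y * Phi i w x) := by module
    rw [e1, e6, neg_one_smul]
  rw [Psi_mul hT, Psi_mul hT, Psi, e]
  noncomm_ring

/-- the cubic equation of `Phi a` -/
theorem cubic (hw : w ^ 2 + w + 1 = 0) (h3 : (3 : E) ≠ 0) (a : V8 F) :
    Phi i w a * Phi i w a * Phi i w a = -i (plusForm 4 F a) • Phi i w a +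
      ((w - w ^ 2) / 9 * i (polar (plusForm 4 F) a (dia (tauB F) a a))) • (1 : Matrix (Fin 3) (Fin 3) E) := by
  have hθ := theta_ne hw h3
  have hθ2 := theta_sq hw
  have h9 : (9 : E) ≠ 0 := by
    have : (9 : E) = 3 * 3 := by norm_num
    rw [this]; exact mul_ne_zero h3 h3
  have h1 := Phi_dia i hw h3 (dia (tauB F) a a) a
  rw [dia_dia, Phi_smul, trace_Phi_mul i hw h3, Phi_dia i hw h3 a a, trace_Phi_mul i hw h3] at h1
  have hc : polar (plusForm 4 F) (dia (tauB F) a a) a = polar (plusForm 4 F) a (dia (tauB F) a a) := polar_comm _ _ _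
  have hs : polar (plusForm 4 F) a a = 2 * plusForm 4 F a := by rw [polar8, norm8]; ring
  rw [hc, hs, map_mul, map_ofNat] at h1
  generalize i (polar (plusForm 4 F) a (dia (tauB F) a a)) = t at *
  generalize i (plusForm 4 F a) = q at *
  generalize Phi i w a = A at *
  generalize hθd : w - w ^ 2 = θ at *
  have e1 : w • (A * A) - w ^ 2 • (A * A) - (θ / 3 * -(2 * q)) • (1 : Matrix (Fin 3) (Fin 3) E) =
      θ • (A * A) + (θ / 3 * (2 * q)) • (1 : Matrix (Fin 3) (Fin 3) E) := by
    rw [← hθd]; module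
  rw [e1] at h1
  have e2 : (θ • (A * A) + (θ / 3 * (2 * q)) • (1 : Matrix (Fin 3) (Fin 3) E)) * A =
      θ • (A * A * A) + (θ / 3 * (2 * q)) • A := by
    rw [add_mul, smul_mul_assoc, smul_mul_assoc, one_mul]
  have e3 : A * (θ • (A * A) + (θ / 3 * (2 * q)) • (1 : Matrix (Fin 3) (Fin 3) E)) =
      θ • (A * A * A) + (θ / 3 * (2 * q)) • A := by
    rw [mul_add, mul_smul_comm, mul_smul_comm, mul_one, mul_assoc A A A]
  rw [e2, e3] at h1
  have e4 : w • (θ • (A * A * A) + (θ / 3 * (2 * q)) • A) - w ^ 2 • (θ • (A * A * A) + (θ / 3 * (2 * q)) • A) -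
      (θ / 3 * -t) • (1 : Matrix (Fin 3) (Fin 3) E) =
      (θ ^ 2) • (A * A * A) + (θ ^ 2 / 3 * (2 * q)) • A + (θ / 3 * t) • (1 : Matrix (Fin 3) (Fin 3) E) := by
    rw [← hθd]; module
  rw [e4, hθ2] at h1
  have e5 : (3 : E) • (A * A * A) = (3 : E) • (-q • A + (θ / 9 * t) • (1 : Matrix (Fin 3) (Fin 3) E)) := by
    have e6 : (3 : E) • (A * A * A) = (-3 / 3 * (2 * q)) • A + (θ / 3 * t) • (1 : Matrix (Fin 3) (Fin 3) E) - q • A := by
      rw [h1]; module
    rw [e6, smul_add, smul_smul, smul_smul]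
    have e7 : (3 : E) * (θ / 9 * t) = θ / 3 * t := by field_simp; ring
    have e8 : (-3 : E) / 3 = -1 := by field_simp
    rw [e7, e8]
    module
  exact smul_right_injective _ h3 e5

theorem cubic_Psi (hw : w ^ 2 + w + 1 = 0) (h3 : (3 : E) ≠ 0) (hT : T * T' = 1) (hT' : T' * T = 1) (a : V8 F) :
    Psi i w T T' a * Psi i w T T' a * Psi i w T T' a = -i (plusForm 4 F a) • Psi i w T T' a +
      ((w - w ^ 2) / 9 * i (polar (plusForm 4 F) a (dia (tauB F) a a))) • (1 : Matrix (Fin 3) (Fin 3) E) := by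
  have e1 : Psi i w T T' a * Psi i w T T' a * Psi i w T T' a = T' * (Phi i w a * Phi i w a * Phi i w a) * T := by
    rw [Psi_mul hT, Psi]
    calc T' * (Phi i w a * Phi i w a) * T * (T' * Phi i w a * T) =
        T' * (Phi i w a * Phi i w a) * (T * T') * Phi i w a * T := by noncomm_ring
      _ = _ := by rw [hT]; noncomm_ring
  rw [e1, cubic hw h3, mul_add, add_mul, mul_smul_comm, smul_mul_assoc, mul_smul_comm, smul_mul_assoc, mul_one, hT']
  rfl

end conj

/-! ### Diagonal data -/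

/-- `g` acts on the matrices in the basis `T` through conjugation with `diagonal α` -/
structure Dg (i : F →+* E) (w : E) (g : V8 F ≃ₗ[F] V8 F) (T T' : Matrix (Fin 3) (Fin 3) E) (α : Fin 3 → E) : Prop where
  tt : T * T' = 1
  tt' : T' * T = 1
  ne : ∀ a, α a ≠ 0
  eq : ∀ z, diagonal α * Psi i w T T' z = Psi i w T T' (g z) * diagonal α

section dg

variable {i : F →+* E} {w : E} {g : V8 F ≃ₗ[F] V8 F} {T T' : Matrix (Fin 3) (Fin 3) E} {α : Fin 3 → E}

theorem Dg.entry (h : Dg i w g T T' α) (z : V8 F) (a b : Fin 3) :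
    α a * Psi i w T T' z a b = Psi i w T T' (g z) a b * α b := by
  have h1 := congrFun (congrFun (h.eq z) a) b
  rwa [Matrix.diagonal_mul, Matrix.mul_diagonal] at h1

/-- fixed vectors commute with the diagonal matrix -/
theorem Dg.fix (h : Dg i w g T T' α) {z : V8 F} (hz : g z = z) {a b : Fin 3} (hab : α a ≠ α b) :
    Psi i w T T' z a b = 0 := by
  have h1 := h.entry z a b
  rw [hz] at h1
  have h2 : (α a - α b) * Psi i w T T' z a b = 0 := by linear_combination h1
  exact (mul_eq_zero.1 h2).resolve_left (sub_ne_zero.2 hab)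

/-- the traceless matrices are spanned by the `Phi` of the basis vectors -/
theorem exists_comb (i : F →+* E) {w : E} (hw : w ^ 2 + w + 1 = 0) (h3 : (3 : E) ≠ 0)
    (hT' : T' * T = 1) {X : Matrix (Fin 3) (Fin 3) E} (hX : X 0 0 + X 1 1 + X 2 2 = 0) :
    ∃ v : Fin 4 ⊕ Fin 4 → E, X = ∑ k, v k • Psi i w T T' (Pi.single k 1) := by
  have hX' : (T * X * T') 0 0 + (T * X * T') 1 1 + (T * X * T') 2 2 = 0 := by
    rw [← trace_fin_three, trace_mul_comm, ← mul_assoc, hT', one_mul, trace_fin_three, hX]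
  obtain ⟨v, hv⟩ := H746.BRigid.exists_Phi_id hw h3 hX'
  refine ⟨v, ?_⟩
  have h1 : X = T' * (T * X * T') * T := by
    calc X = 1 * X * 1 := by rw [one_mul, mul_one]
      _ = (T' * T) * X * (T' * T) := by rw [hT']
      _ = _ := by noncomm_ring
  have h2 : ∀ k : Fin 4 ⊕ Fin 4, Phi i w (Pi.single k 1 : V8 F) = Phi (RingHom.id E) w (Pi.single k 1 : V8 E) := by
    intro k
    have h4 : ∀ l : Fin 4 ⊕ Fin 4, i ((Pi.single k 1 : V8 F) l) = (RingHom.id E) ((Pi.single k 1 : V8 E) l) := by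
      intro l
      rw [Pi.single_apply, Pi.single_apply]
      split_ifs <;> simp
    rw [Phi, Phi, Ph, Ph]
    simp only [h4]
  have h3' : Phi (RingHom.id E) w v = ∑ k, v k • Phi (RingHom.id E) w (Pi.single k 1 : V8 E) := by
    have h5 : ∀ s : Finset (Fin 4 ⊕ Fin 4), Phi (RingHom.id E) w (∑ k ∈ s, v k • (Pi.single k 1 : V8 E)) =
        ∑ k ∈ s, v k • Phi (RingHom.id E) w (Pi.single k 1 : V8 E) := by
      intro s
      induction s using Finset.induction_on with
      | empty => rw [Finset.sum_empty, Finset.sum_empty, Phi_zero]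
      | insert a s ha ih => rw [Finset.sum_insert ha, Finset.sum_insert ha, Phi_add, Phi_smul, ih]; rfl
    rw [← h5]
    congr 1
    funext l
    rw [Finset.sum_apply]
    simp [Pi.single_apply]
  rw [h1, ← hv, h3', Finset.mul_sum, Finset.sum_mul]
  refine Finset.sum_congr rfl fun k _ => ?_
  rw [← h2, mul_smul_comm, smul_mul_assoc]
  rfl

/-- the matrices of the fixed vectors span the traceless matrices commuting with `diagonal α` -/
theorem Dg.mem_span (h : Dg i w g T T' α) (hw : w ^ 2 + w + 1 = 0) (h3 : (3 : E) ≠ 0) {m : ℕ} (hm : (m : F) ≠ 0)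
    (hgm : g ^ m = 1) {X : Matrix (Fin 3) (Fin 3) E} (hX : X 0 0 + X 1 1 + X 2 2 = 0)
    (hXa : diagonal α * X = X * diagonal α) :
    X ∈ Submodule.span E (Psi i w T T' '' {z | g z = z}) := by
  obtain ⟨v, hv⟩ := exists_comb i hw h3 h.tt' hX
  have hj : ∀ j : ℕ, X = ∑ k, v k • Psi i w T T' ((g ^ j) (Pi.single k 1)) := by
    intro j
    induction j with
    | zero => exact hv
    | succ j ih =>
      have h1 : ∀ z, (g ^ (j + 1)) z = g ((g ^ j) z) := by
        intro z
        rw [pow_succ']; rfl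
      have h2 : X * diagonal α = (∑ k, v k • Psi i w T T' ((g ^ (j + 1)) (Pi.single k 1))) * diagonal α := by
        rw [← hXa, Finset.sum_mul]
        nth_rw 1 [ih]
        rw [Finset.mul_sum]
        refine Finset.sum_congr rfl fun k _ => ?_
        rw [mul_smul_comm, smul_mul_assoc, h.eq, h1]
      ext a b
      have h4 := congrFun (congrFun h2 a) b
      rw [Matrix.mul_diagonal, Matrix.mul_diagonal] at h4
      exact mul_right_cancel₀ (h.ne b) h4
  have hmE : (m : E) ≠ 0 := by
    intro h0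
    apply hm
    apply i.injective
    rw [map_natCast, h0, map_zero]
  -- the sums
  let π : V8 F → V8 F := fun z => ∑ j ∈ Finset.range m, (g ^ j) z
  have hπ : ∀ z, g (π z) = π z := by
    intro z
    change g (∑ j ∈ Finset.range m, (g ^ j) z) = _
    rw [map_sum]
    have e1 : ∀ k, g ((g ^ k) z) = (g ^ (k + 1)) z := by
      intro k
      rw [pow_succ']; rfl
    rw [Finset.sum_congr rfl fun k _ => e1 k]
    have e3 := Finset.sum_range_succ (fun k => (g ^ k) z) m
    have e4 := Finset.sum_range_succ' (fun k => (g ^ k) z) m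
    rw [e3] at e4
    have e5 : (g ^ m) z = (g ^ 0) z := by rw [hgm, pow_zero]
    rw [e5] at e4
    exact (add_right_cancel e4).symm
  have hsum : ∀ z, Psi i w T T' (π z) = ∑ j ∈ Finset.range m, Psi i w T T' ((g ^ j) z) := by
    intro z
    have e6 : ∀ n : ℕ, Psi i w T T' (∑ j ∈ Finset.range n, (g ^ j) z) = ∑ j ∈ Finset.range n, Psi i w T T' ((g ^ j) z) := by
      intro n
      induction n with
      | zero => rw [Finset.range_zero, Finset.sum_empty, Finset.sum_empty, Psi_zero]
      | succ n ih => rw [Finset.sum_range_succ, Finset.sum_range_succ, Psi_add, ih]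
    exact e6 m
  have h5 : (m : E) • X = ∑ k, v k • Psi i w T T' (π (Pi.single k 1)) := by
    have h6 : ∑ _j ∈ Finset.range m, X = (m : E) • X := by
      rw [Finset.sum_const, Finset.card_range, ← Nat.cast_smul_eq_nsmul E]
    rw [← h6, Finset.sum_congr rfl fun j _ => hj j, Finset.sum_comm]
    refine Finset.sum_congr rfl fun k _ => ?_
    rw [hsum, Finset.smul_sum]
  have h7 : X = (m : E)⁻¹ • ∑ k, v k • Psi i w T T' (π (Pi.single k 1)) := by
    rw [← h5, smul_smul, inv_mul_cancel₀ hmE, one_smul]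
  rw [h7]
  exact Submodule.smul_mem _ _ (Submodule.sum_mem _ fun k _ => Submodule.smul_mem _ _
    (Submodule.subset_span ⟨_, hπ _, rfl⟩))

/-- the data of a matrix `P` -/
theorem exists_Dg [IsAlgClosed E] (hw : w ^ 2 + w + 1 = 0) (h3 : (3 : E) ≠ 0) {m : ℕ} (hm : (m : F) ≠ 0)
    (hgm : g ^ m = 1) {P P' : Matrix (Fin 3) (Fin 3) E} (hPP : P * P' = 1) (hPP' : P' * P = 1)
    (hP : ∀ z, Phi i w (g z) = P * Phi i w z * P') :
    ∃ T T' α, Dg i w g T T' α ∧ P * T = T * diagonal α := by
  have h1 : ∀ z, P * Phi i w z = Phi i w (g z) * P := by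
    intro z
    rw [hP, mul_assoc _ P' P, hPP', mul_one]
  have h2 : ∀ k : ℕ, ∀ z, P ^ k * Phi i w z = Phi i w ((g ^ k) z) * P ^ k := by
    intro k
    induction k with
    | zero => intro z; rw [pow_zero, pow_zero, one_mul, mul_one]; rfl
    | succ k ih =>
      intro z
      have e1 : (g ^ (k + 1)) z = g ((g ^ k) z) := by rw [pow_succ']; rfl
      rw [pow_succ', mul_assoc, ih, ← mul_assoc, h1, e1, mul_assoc]
  have h4 : ∀ z : V8 F, P ^ m * Phi i w z = Phi i w z * P ^ m := by
    intro z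
    rw [h2, hgm]; rfl
  obtain ⟨c, hc⟩ := H989.OkuboRoot.scalar_of_comm i hw h3 h4
  have hmE : (m : E) ≠ 0 := by
    intro h0
    apply hm
    apply i.injective
    rw [map_natCast, h0, map_zero]
  have hc0 : c ≠ 0 := by
    rintro rfl
    rw [zero_smul] at hc
    have h5 : P ^ m * P' ^ m = 1 := by
      have h6 : Commute P P' := by
        change P * P' = P' * P
        rw [hPP, hPP']
      rw [← h6.mul_pow, hPP, one_pow]
    rw [hc, zero_mul] at h5
    exact zero_ne_one h5
  obtain ⟨T, T', α, hT, hT', hα⟩ := exists_diag hmE hc0 hc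
  refine ⟨T, T', α, ⟨hT, hT', ?_, ?_⟩, hα⟩
  · intro a ha
    have h7 : diagonal α * (T' * P' * T) = 1 := by
      calc diagonal α * (T' * P' * T) = (T' * T) * diagonal α * (T' * P' * T) := by rw [hT', one_mul]
        _ = T' * (T * diagonal α) * (T' * P' * T) := by noncomm_ring
        _ = T' * (P * T) * (T' * P' * T) := by rw [hα]
        _ = T' * P * (T * T') * P' * T := by noncomm_ring
        _ = T' * (P * P') * T := by rw [hT]; noncomm_ring
        _ = 1 := by rw [hPP, mul_one, hT']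
    have h8 := congrFun (congrFun h7 a) a
    rw [Matrix.diagonal_mul, ha, zero_mul, Matrix.one_apply_eq] at h8
    exact zero_ne_one h8
  · intro z
    have h9 : diagonal α = T' * P * T := by
      rw [mul_assoc, hα, ← mul_assoc, hT', one_mul]
    rw [h9, Psi, Psi]
    calc T' * P * T * (T' * Phi i w z * T) = T' * P * (T * T') * Phi i w z * T := by noncomm_ring
      _ = T' * (P * Phi i w z) * T := by rw [hT]; noncomm_ring
      _ = T' * (Phi i w (g z) * P) * T := by rw [h1]
      _ = T' * Phi i w (g z) * (T * T') * P * T := by rw [hT]; noncomm_ring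
      _ = _ := by noncomm_ring

/-- reordering -/
theorem Dg.perm (h : Dg i w g T T' α) (σ : Equiv.Perm (Fin 3)) :
    Dg i w g (T.submatrix id σ) (T'.submatrix σ id) (α ∘ σ) := by
  have h1 : ∀ z, Psi i w (T.submatrix id σ) (T'.submatrix σ id) z = (Psi i w T T' z).submatrix σ σ := by
    intro z
    rw [Psi, Psi]
    ext a b
    simp only [Matrix.mul_apply, Matrix.submatrix_apply, _root_.Matrix.mul_apply, _root_.Matrix.submatrix_apply, _root_.id_eq]
  refine ⟨?_, ?_, fun a => h.ne (σ a), ?_⟩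
  · have := Matrix.submatrix_mul_equiv T T' id σ id
    rw [this, h.tt]
    exact Matrix.submatrix_id_id _
  · ext a b
    have h2 := congrFun (congrFun h.tt' (σ a)) (σ b)
    rw [Matrix.mul_apply] at h2 ⊢
    simp only [Matrix.submatrix_apply, id]
    rw [h2, Matrix.one_apply, Matrix.one_apply]
    simp [σ.injective.eq_iff]
  · intro z
    rw [h1, h1]
    ext a b
    rw [Matrix.diagonal_mul, Matrix.mul_diagonal, Matrix.submatrix_apply, Matrix.submatrix_apply]
    exact h.entry z (σ a) (σ b)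

/-! ### Pairwise different eigenvalues -/

theorem Dg.D1_zero (h : Dg i w g T T' α) (hw : w ^ 2 + w + 1 = 0) (h3 : (3 : E) ≠ 0) (hα : Function.Injective α)
    {v : V8 F} (hv : g v = v) (hvv : dia (tauB F) v v = 0) : v = 0 := by
  apply Psi_eq_zero hw h3 h.tt
  have h1 : Psi i w T T' v * Psi i w T T' v = 0 := by
    rw [Psi_mul h.tt, Phi_sq i hw h3 hvv, mul_zero, zero_mul]
  have h2 : ∀ a b, a ≠ b → Psi i w T T' v a b = 0 := fun a b hab => h.fix hv fun h5 => hab (hα h5)
  ext a b
  by_cases hab : a = b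
  · subst hab
    have h4 := congrFun (congrFun h1 a) a
    rw [Matrix.mul_apply, Finset.sum_eq_single a (fun b _ hb => by rw [h2 a b hb.symm, zero_mul])
      (fun hb => absurd (Finset.mem_univ _) hb)] at h4
    exact mul_self_eq_zero.1 h4
  · exact h2 a b hab

/-- three nonzero semilinear functionals have a common vector where they do not vanish -/
theorem avoid3 {V : Type*} [AddCommGroup V] [Module F V] (W : Submodule F V) (f1 f2 f3 : V → E)
    (a1 : ∀ x y (c : F), f1 (x + c • y) = f1 x + i c * f1 y) (a2 : ∀ x y (c : F), f2 (x + c • y) = f2 x + i c * f2 y)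
    (a3 : ∀ x y (c : F), f3 (x + c • y) = f3 x + i c * f3 y) (b1 : ∃ x ∈ W, f1 x ≠ 0) (b2 : ∃ x ∈ W, f2 x ≠ 0)
    (b3 : ∃ x ∈ W, f3 x ≠ 0) [Finite F] (hF : 2 < Nat.card F) : ∃ x ∈ W, f1 x ≠ 0 ∧ f2 x ≠ 0 ∧ f3 x ≠ 0 := by
  classical
  have : Fintype F := Fintype.ofFinite F
  obtain ⟨x1, hx1, c1⟩ := b1
  obtain ⟨x2, hx2, c2⟩ := b2
  obtain ⟨y, hy, c3⟩ := b3
  obtain ⟨x, hx, d1, d2⟩ : ∃ x ∈ W, f1 x ≠ 0 ∧ f2 x ≠ 0 := by
    by_cases h1 : f2 x1 = 0
    · by_cases h2 : f1 x2 = 0
      · refine ⟨x1 + (1 : F) • x2, W.add_mem hx1 (W.smul_mem _ hx2), ?_, ?_⟩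
        · rw [a1, h2, mul_zero, add_zero]; exact c1
        · rw [a2, h1, map_one, one_mul, zero_add]; exact c2
      · exact ⟨x2, hx2, h2, c2⟩
    · exact ⟨x1, hx1, c1, h1⟩
  by_cases d3 : f3 x = 0
  · by_contra hcon
    push Not at hcon
    have key : ∀ c : F, f1 (y + c • x) = 0 ∨ f2 (y + c • x) = 0 := by
      intro c
      by_contra h1
      push Not at h1
      have h2 := hcon (y + c • x) (W.add_mem hy (W.smul_mem _ hx)) h1.1 h1.2
      rw [a3, d3, mul_zero, add_zero] at h2
      exact c3 h2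
    have u1 : ∀ c d : F, f1 (y + c • x) = 0 → f1 (y + d • x) = 0 → c = d := by
      intro c d h1 h2
      rw [a1] at h1 h2
      apply i.injective
      have h4 : (i c - i d) * f1 x = 0 := by linear_combination h1 - h2
      exact sub_eq_zero.1 ((mul_eq_zero.1 h4).resolve_right d1)
    have u2 : ∀ c d : F, f2 (y + c • x) = 0 → f2 (y + d • x) = 0 → c = d := by
      intro c d h1 h2
      rw [a2] at h1 h2
      apply i.injective
      have h4 : (i c - i d) * f2 x = 0 := by linear_combination h1 - h2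
      exact sub_eq_zero.1 ((mul_eq_zero.1 h4).resolve_right d2)
    rw [Nat.card_eq_fintype_card, Fintype.two_lt_card_iff] at hF
    obtain ⟨r, s, t, hrs, hrt, hst⟩ := hF
    rcases key r with h1 | h1 <;> rcases key s with h2 | h2 <;> rcases key t with h4 | h4
    · exact hrs (u1 _ _ h1 h2)
    · exact hrs (u1 _ _ h1 h2)
    · exact hrt (u1 _ _ h1 h4)
    · exact hst (u2 _ _ h2 h4)
    · exact hst (u1 _ _ h2 h4)
    · exact hrt (u2 _ _ h1 h4)
    · exact hrs (u2 _ _ h1 h2)
    · exact hrs (u2 _ _ h1 h2)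
  · exact ⟨x, hx, d1, d2, d3⟩

/-- the discriminant -/
theorem disc_ne {θ q s l1 l2 l3 : E} (hθ : θ ^ 2 = -3) (h3 : (3 : E) ≠ 0)
    (e1 : l1 * l1 * l1 = -q * l1 + θ / 9 * s) (e2 : l2 * l2 * l2 = -q * l2 + θ / 9 * s)
    (e3 : l3 * l3 * l3 = -q * l3 + θ / 9 * s) (h12 : l1 ≠ l2) (h13 : l1 ≠ l3) (h23 : l2 ≠ l3) :
    4 * q ^ 3 ≠ s ^ 2 := by
  intro hq
  have h9 : (9 : E) ≠ 0 := by
    have : (9 : E) = 3 * 3 := by norm_num
    rw [this]; exact mul_ne_zero h3 h3
  have f1 : l1 ^ 2 + l1 * l2 + l2 ^ 2 = -q := by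
    have h1 : (l1 - l2) * (l1 ^ 2 + l1 * l2 + l2 ^ 2 + q) = 0 := by linear_combination e1 - e2
    have h2 := (mul_eq_zero.1 h1).resolve_left (sub_ne_zero.2 h12)
    linear_combination h2
  have f2 : l1 ^ 2 + l1 * l3 + l3 ^ 2 = -q := by
    have h1 : (l1 - l3) * (l1 ^ 2 + l1 * l3 + l3 ^ 2 + q) = 0 := by linear_combination e1 - e3
    have h2 := (mul_eq_zero.1 h1).resolve_left (sub_ne_zero.2 h13)
    linear_combination h2
  have f3 : l3 = -l1 - l2 := by
    have h1 : (l2 - l3) * (l1 + l2 + l3) = 0 := by linear_combination f1 - f2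
    have h2 := (mul_eq_zero.1 h1).resolve_left (sub_ne_zero.2 h23)
    linear_combination h2
  have f4 : θ * s = 9 * (l1 ^ 3 + q * l1) := by
    have h1 : θ / 9 * s = l1 ^ 3 + q * l1 := by linear_combination -e1
    rw [← h1]; field_simp
  have f5 : s ^ 2 = -27 * (l1 ^ 3 + q * l1) ^ 2 := by
    have h1 : (3 : E) * s ^ 2 = 3 * (-27 * (l1 ^ 3 + q * l1) ^ 2) := by
      have h2 : θ ^ 2 * s ^ 2 = 81 * (l1 ^ 3 + q * l1) ^ 2 := by
        linear_combination (θ * s + 9 * (l1 ^ 3 + q * l1)) * f4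
      rw [hθ] at h2
      linear_combination -h2
    exact mul_left_cancel₀ h3 h1
  have f6 : q = -(l1 ^ 2 + l1 * l2 + l2 ^ 2) := by linear_combination f1
  have f7 : ((l1 - l2) * (l1 - l3) * (l2 - l3)) ^ 2 = 0 := by
    rw [f5, f6] at hq
    rw [f3]
    linear_combination -hq
  have f8 := pow_eq_zero_iff (two_ne_zero) |>.1 f7
  rcases mul_eq_zero.1 f8 with h1 | h1
  · rcases mul_eq_zero.1 h1 with h2 | h2
    · exact h12 (sub_eq_zero.1 h2)
    · exact h13 (sub_eq_zero.1 h2)
  · exact h23 (sub_eq_zero.1 h1)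

/-- the fixed space -/
def fixS (g : V8 F ≃ₗ[F] V8 F) : Submodule F (V8 F) where
  carrier := {z | g z = z}
  add_mem' := by
    intro x y hx hy
    change g (x + y) = x + y
    rw [map_add, show g x = x from hx, show g y = y from hy]
  zero_mem' := map_zero g
  smul_mem' := by
    intro c x hx
    change g (c • x) = c • x
    rw [map_smul, show g x = x from hx]

theorem Dg.D1_exists [Finite F] (h : Dg i w g T T' α) (hw : w ^ 2 + w + 1 = 0) (h3 : (3 : E) ≠ 0)
    (hα : Function.Injective α) {m : ℕ} (hm : (m : F) ≠ 0) (hgm : g ^ m = 1) (hF : 2 < Nat.card F) :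
    ∃ a : V8 F, g a = a ∧ 4 * plusForm 4 F a ^ 3 ≠ polar (plusForm 4 F) a (dia (tauB F) a a) ^ 2 := by
  -- the functionals
  have hadd : ∀ (k l : Fin 3) (x y : V8 F) (c : F),
      Psi i w T T' (x + c • y) k k - Psi i w T T' (x + c • y) l l =
        (Psi i w T T' x k k - Psi i w T T' x l l) + i c * (Psi i w T T' y k k - Psi i w T T' y l l) := by
    intro k l x y c
    rw [Psi_add, Psi_smul, Matrix.add_apply, Matrix.add_apply, Matrix.smul_apply, Matrix.smul_apply, smul_eq_mul,
      smul_eq_mul]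
    ring
  have hex : ∀ (k l : Fin 3) (d : Fin 3 → E), d 0 + d 1 + d 2 = 0 → d k ≠ d l →
      ∃ x ∈ fixS g, Psi i w T T' x k k - Psi i w T T' x l l ≠ 0 := by
    intro k l d hd hkl
    by_contra hcon
    push Not at hcon
    have h1 : ∀ X ∈ Submodule.span E (Psi i w T T' '' {z | g z = z}), X k k - X l l = 0 := by
      intro X hX
      induction hX using Submodule.span_induction with
      | mem x hx =>
        obtain ⟨z, hz, rfl⟩ := hx
        exact hcon z hz
      | zero => simp
      | add x y _ _ hx hy =>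
        rw [Matrix.add_apply, Matrix.add_apply]
        linear_combination hx + hy
      | smul c x _ hx =>
        rw [Matrix.smul_apply, Matrix.smul_apply, smul_eq_mul, smul_eq_mul]
        linear_combination c * hx
    have h2 := h1 (diagonal d) (h.mem_span hw h3 hm hgm (by simpa only [_root_.Fin.isValue, _root_.Matrix.diagonal_apply_eq] using hd) (by
      rw [Matrix.diagonal_mul_diagonal, Matrix.diagonal_mul_diagonal]
      congr 1
      funext a
      exact mul_comm _ _))
    rw [Matrix.diagonal_apply_eq, Matrix.diagonal_apply_eq, sub_eq_zero] at h2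
    exact hkl h2
  obtain ⟨a, ha, n1, n2, n3⟩ := avoid3 (i := i) (fixS g) (fun x => Psi i w T T' x 0 0 - Psi i w T T' x 1 1)
    (fun x => Psi i w T T' x 0 0 - Psi i w T T' x 2 2) (fun x => Psi i w T T' x 1 1 - Psi i w T T' x 2 2)
    (hadd 0 1) (hadd 0 2) (hadd 1 2) (hex 0 1 ![1, 0, -1] (by simp) (by simp)) (hex 0 2 ![1, -1, 0] (by simp) (by simp))
    (hex 1 2 ![-1, 1, 0] (by simp) (by simp)) hF
  have ha' : g a = a := ha
  refine ⟨a, ha', ?_⟩
  have hd : ∀ x y, x ≠ y → Psi i w T T' a x y = 0 := fun x y hxy => h.fix ha' fun h5 => hxy (hα h5)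
  have hcub := cubic_Psi (i := i) hw h3 h.tt h.tt' a
  have e : ∀ k : Fin 3, Psi i w T T' a k k * Psi i w T T' a k k * Psi i w T T' a k k =
      -i (plusForm 4 F a) * Psi i w T T' a k k +
      (w - w ^ 2) / 9 * i (polar (plusForm 4 F) a (dia (tauB F) a a)) := by
    intro k
    have h4 := congrFun (congrFun hcub k) k
    rw [Matrix.add_apply, Matrix.smul_apply, Matrix.smul_apply, Matrix.one_apply_eq, smul_eq_mul, smul_eq_mul,
      mul_one] at h4
    rw [← h4]
    fin_cases k <;> simp [Matrix.mul_apply, Fin.sum_univ_three, hd 0 1 (by decide), hd 0 2 (by decide),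
      hd 1 0 (by decide), hd 1 2 (by decide), hd 2 0 (by decide), hd 2 1 (by decide)]
  intro h0
  refine disc_ne (theta_sq hw) h3 (e 0) (e 1) (e 2) (sub_ne_zero.1 n1) (sub_ne_zero.1 n2) (sub_ne_zero.1 n3) ?_
  have h6 := congrArg i h0
  rw [map_mul, map_pow, map_pow, map_ofNat] at h6
  exact h6

/-! ### Two equal eigenvalues, the third one different -/

/-- the derived algebra of the fixed algebra -/
def DD (g : V8 F ≃ₗ[F] V8 F) : Submodule F (V8 F) :=
  Submodule.span F {d | ∃ c c', g c = c ∧ g c' = c' ∧ d = dia (tauB F) c c' - dia (tauB F) c' c}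

theorem DD_fix (hg : Ex g) {d : V8 F} (hd : d ∈ DD g) : g d = d := by
  induction hd using Submodule.span_induction with
  | mem x hx =>
    obtain ⟨c, c', hc, hc', rfl⟩ := hx
    rw [map_sub, hg, hg, hc, hc']
  | zero => exact map_zero g
  | add x y _ _ hx hy => rw [map_add, hx, hy]
  | smul c x _ hx => rw [map_smul, hx]

/-- the block matrices -/
def Blk (X : Matrix (Fin 3) (Fin 3) E) : Prop :=
  X 0 2 = 0 ∧ X 1 2 = 0 ∧ X 2 0 = 0 ∧ X 2 1 = 0 ∧ X 2 2 = 0 ∧ X 0 0 + X 1 1 = 0

theorem Dg.blk (h : Dg i w g T T' α) (hw : w ^ 2 + w + 1 = 0) (h3 : (3 : E) ≠ 0) (h01 : α 0 = α 1) (h02 : α 0 ≠ α 2)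
    {d : V8 F} (hd : d ∈ DD g) : Blk (Psi i w T T' d) := by
  have h12 : α 1 ≠ α 2 := h01 ▸ h02
  induction hd using Submodule.span_induction with
  | mem x hx =>
    obtain ⟨c, c', hc, hc', rfl⟩ := hx
    rw [Psi_comm hw h3 h.tt]
    have a1 := h.fix hc h02
    have a2 := h.fix hc h12
    have a3 := h.fix hc h02.symm
    have a4 := h.fix hc h12.symm
    have b1 := h.fix hc' h02
    have b2 := h.fix hc' h12
    have b3 := h.fix hc' h02.symm
    have b4 := h.fix hc' h12.symm
    refine ⟨?_, ?_, ?_, ?_, ?_, ?_⟩ <;>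
      simp only [Matrix.neg_apply, Matrix.sub_apply, Matrix.mul_apply, Fin.sum_univ_three, a1, a2, a3, a4, b1, b2, b3, b4] <;>
      ring
  | zero =>
    rw [Psi_zero]
    refine ⟨rfl, rfl, rfl, rfl, rfl, ?_⟩
    simp
  | add x y _ _ hx hy =>
    rw [Psi_add]
    obtain ⟨a1, a2, a3, a4, a5, a6⟩ := hx
    obtain ⟨b1, b2, b3, b4, b5, b6⟩ := hy
    refine ⟨?_, ?_, ?_, ?_, ?_, ?_⟩ <;> simp only [Matrix.add_apply]
    · rw [a1, b1, add_zero]
    · rw [a2, b2, add_zero]
    · rw [a3, b3, add_zero]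
    · rw [a4, b4, add_zero]
    · rw [a5, b5, add_zero]
    · linear_combination a6 + b6
  | smul c x _ hx =>
    rw [Psi_smul]
    obtain ⟨a1, a2, a3, a4, a5, a6⟩ := hx
    refine ⟨?_, ?_, ?_, ?_, ?_, ?_⟩ <;> simp only [Matrix.smul_apply, smul_eq_mul]
    · rw [a1, mul_zero]
    · rw [a2, mul_zero]
    · rw [a3, mul_zero]
    · rw [a4, mul_zero]
    · rw [a5, mul_zero]
    · linear_combination i c * a6

/-- singular vectors of the derived algebra lie in `Δ` -/
theorem Dg.dia_zero (h : Dg i w g T T' α) (hw : w ^ 2 + w + 1 = 0) (h3 : (3 : E) ≠ 0) (h01 : α 0 = α 1) (h02 : α 0 ≠ α 2)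
    {d : V8 F} (hd : d ∈ DD g) (hQ : plusForm 4 F d = 0) :
    dia (tauB F) d d = 0 ∧ Psi i w T T' d * Psi i w T T' d = 0 := by
  obtain ⟨a1, a2, a3, a4, a5, a6⟩ := h.blk hw h3 h01 h02 hd
  have hcub := cubic_Psi (i := i) hw h3 h.tt h.tt' d
  rw [hQ, map_zero, neg_zero, zero_smul, zero_add] at hcub
  generalize (w - w ^ 2) / 9 * i (polar (plusForm 4 F) d (dia (tauB F) d d)) = t at hcub
  have a6' : Psi i w T T' d 1 1 = -Psi i w T T' d 0 0 := by linear_combination a6
  have hsq : Psi i w T T' d * Psi i w T T' d = 0 := by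
    have e22 := congrFun (congrFun hcub 2) 2
    have e00 := congrFun (congrFun hcub 0) 0
    have e01 := congrFun (congrFun hcub 0) 1
    have e10 := congrFun (congrFun hcub 1) 0
    simp only [Matrix.mul_apply, Fin.sum_univ_three, a1, a2, a3, a4, a5, a6', Matrix.smul_apply, Matrix.one_apply_eq,
      smul_eq_mul, mul_one, ne_eq, zero_ne_one, one_ne_zero, not_false_eq_true, Matrix.one_apply_ne, mul_zero,
      add_zero, zero_mul] at e22 e00 e01 e10
    rw [← e22] at e00
    generalize hx : Psi i w T T' d 0 0 = x at *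
    generalize hy : Psi i w T T' d 0 1 = y at *
    generalize hz : Psi i w T T' d 1 0 = z at *
    have e : x * x + y * z = 0 := by
      by_contra hne
      have f1 : x = 0 := by
        have : (x * x + y * z) * x = 0 := by linear_combination e00
        exact (mul_eq_zero.1 this).resolve_left hne
      have f2 : y = 0 := by
        have : (x * x + y * z) * y = 0 := by linear_combination e01
        exact (mul_eq_zero.1 this).resolve_left hne
      apply hne
      rw [f1, f2]; ring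
    ext a b
    (revert a b; simp only [Matrix.mul_apply, Fin.sum_univ_three, a1, a2, a3, a4, a5, a6', hx, hy, hz, _root_.Fin.forall_fin_succ, Fin.isValue, _root_.Matrix.zero_apply, _root_.MulZeroClass.mul_zero, _root_.add_zero, _root_.Fin.succ_zero_eq_one, _root_.mul_neg, _root_.Fin.succ_one_eq_two, _root_.IsEmpty.forall_iff, _root_.neg_mul, _root_.neg_neg, _root_.MulZeroClass.zero_mul, _root_.neg_zero, _root_.and_true, _root_.true_and]) <;> (repeat' with_reducible apply And.intro)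
    · exact e
    · ring
    · ring
    · linear_combination e
  refine ⟨?_, hsq⟩
  apply H746.BRigid.dia_zero_of_sq i hw h3
  have h5 : T * (Psi i w T T' d * Psi i w T T' d) * T' = Phi i w d * Phi i w d := by
    rw [Psi_mul h.tt]
    calc T * (T' * (Phi i w d * Phi i w d) * T) * T' = (T * T') * (Phi i w d * Phi i w d) * (T * T') := by noncomm_ring
      _ = _ := by rw [h.tt, one_mul, mul_one]
  rw [← h5, hsq, mul_zero, zero_mul]

/-- brackets of the span of the fixed matrices -/
theorem bracket_mem (hw : w ^ 2 + w + 1 = 0) (h3 : (3 : E) ≠ 0) (hT : T * T' = 1) {X Y : Matrix (Fin 3) (Fin 3) E}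
    (hX : X ∈ Submodule.span E (Psi i w T T' '' {z | g z = z}))
    (hY : Y ∈ Submodule.span E (Psi i w T T' '' {z | g z = z})) :
    X * Y - Y * X ∈ Submodule.span E (Psi i w T T' '' (DD g : Set (V8 F))) := by
  induction hX, hY using Submodule.span_induction₂ with
  | mem_mem x y hx hy =>
    obtain ⟨c, hc, rfl⟩ := hx
    obtain ⟨c', hc', rfl⟩ := hy
    have h1 := Psi_comm (i := i) hw h3 hT c c'
    rw [← neg_eq_iff_eq_neg] at h1
    rw [← h1]
    exact Submodule.neg_mem _ (Submodule.subset_span ⟨_, Submodule.subset_span ⟨c, c', hc, hc', rfl⟩, rfl⟩)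
  | zero_left y _ => rw [zero_mul, mul_zero, sub_zero]; exact Submodule.zero_mem _
  | zero_right x _ => rw [zero_mul, mul_zero, sub_zero]; exact Submodule.zero_mem _
  | add_left x y z _ _ _ hx hy =>
    have : (x + y) * z - z * (x + y) = (x * z - z * x) + (y * z - z * y) := by noncomm_ring
    rw [this]
    exact Submodule.add_mem _ hx hy
  | add_right x y z _ _ _ hx hy =>
    have : x * (y + z) - (y + z) * x = (x * y - y * x) + (x * z - z * x) := by noncomm_ring
    rw [this]
    exact Submodule.add_mem _ hx hy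
  | smul_left r x y _ _ hx =>
    have : (r • x) * y - y * (r • x) = r • (x * y - y * x) := by
      rw [smul_mul_assoc, mul_smul_comm, smul_sub]
    rw [this]
    exact Submodule.smul_mem _ _ hx
  | smul_right r x y _ _ hx =>
    have : x * (r • y) - (r • y) * x = r • (x * y - y * x) := by
      rw [smul_mul_assoc, mul_smul_comm, smul_sub]
    rw [this]
    exact Submodule.smul_mem _ _ hx

/-- the three root and torus matrices -/
theorem Dg.mem3 (h : Dg i w g T T' α) (hw : w ^ 2 + w + 1 = 0) (h3 : (3 : E) ≠ 0) {m : ℕ} (hm : (m : F) ≠ 0)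
    (hgm : g ^ m = 1) (h01 : α 0 = α 1) :
    !![0, 1, 0; 0, 0, 0; 0, 0, 0] ∈ Submodule.span E (Psi i w T T' '' (DD g : Set (V8 F))) ∧
    !![0, 0, 0; 1, 0, 0; 0, 0, 0] ∈ Submodule.span E (Psi i w T T' '' (DD g : Set (V8 F))) ∧
    !![1, 0, 0; 0, -1, 0; 0, 0, 0] ∈ Submodule.span E (Psi i w T T' '' (DD g : Set (V8 F))) := by
  have m1 : (!![0, 1, 0; 0, 0, 0; 0, 0, 0] : Matrix (Fin 3) (Fin 3) E) ∈
      Submodule.span E (Psi i w T T' '' {z | g z = z}) := by
    apply h.mem_span hw h3 hm hgm (by simp)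
    ext a b
    (revert a b; simp only [Matrix.diagonal_mul, Matrix.mul_diagonal, h01, _root_.Fin.forall_fin_succ, _root_.Matrix.of_apply, _root_.Matrix.cons_val', _root_.Matrix.cons_val_fin_one, Fin.isValue, _root_.Matrix.cons_val_zero, _root_.Matrix.cons_val_succ, _root_.Fin.succ_zero_eq_one, _root_.Fin.succ_one_eq_two, _root_.IsEmpty.forall_iff, _root_.and_true, _root_.MulZeroClass.mul_zero, _root_.MulZeroClass.zero_mul, _root_.mul_one, _root_.one_mul, _root_.and_self, _root_.and_self_left, _root_.implies_true])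
  have m2 : (!![0, 0, 0; 1, 0, 0; 0, 0, 0] : Matrix (Fin 3) (Fin 3) E) ∈
      Submodule.span E (Psi i w T T' '' {z | g z = z}) := by
    apply h.mem_span hw h3 hm hgm (by simp)
    ext a b
    (revert a b; simp only [Matrix.diagonal_mul, Matrix.mul_diagonal, h01, _root_.Fin.forall_fin_succ, _root_.Matrix.of_apply, _root_.Matrix.cons_val', _root_.Matrix.cons_val_fin_one, Fin.isValue, _root_.Matrix.cons_val_zero, _root_.Matrix.cons_val_succ, _root_.Fin.succ_zero_eq_one, _root_.Fin.succ_one_eq_two, _root_.IsEmpty.forall_iff, _root_.and_true, _root_.MulZeroClass.mul_zero, _root_.MulZeroClass.zero_mul, _root_.and_self, _root_.mul_one, _root_.one_mul, _root_.implies_true])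
  have m3 : (!![1, 0, 0; 0, 0, 0; 0, 0, -1] : Matrix (Fin 3) (Fin 3) E) ∈
      Submodule.span E (Psi i w T T' '' {z | g z = z}) := by
    apply h.mem_span hw h3 hm hgm (by simp)
    ext a b
    (revert a b; simp only [Matrix.diagonal_mul, Matrix.mul_diagonal, _root_.Fin.forall_fin_succ, _root_.Matrix.of_apply, _root_.Matrix.cons_val', _root_.Matrix.cons_val_fin_one, Fin.isValue, _root_.Matrix.cons_val_zero, _root_.Matrix.cons_val_succ, _root_.Fin.succ_zero_eq_one, _root_.Fin.succ_one_eq_two, _root_.IsEmpty.forall_iff, _root_.and_true, _root_.mul_one, _root_.one_mul, _root_.MulZeroClass.mul_zero, _root_.MulZeroClass.zero_mul, _root_.and_self, _root_.mul_neg, _root_.neg_mul, _root_.neg_inj, _root_.true_and])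
  have m4 : (!![0, 0, 0; 0, 1, 0; 0, 0, -1] : Matrix (Fin 3) (Fin 3) E) ∈
      Submodule.span E (Psi i w T T' '' {z | g z = z}) := by
    apply h.mem_span hw h3 hm hgm (by simp)
    ext a b
    (revert a b; simp only [Matrix.diagonal_mul, Matrix.mul_diagonal, _root_.Fin.forall_fin_succ, _root_.Matrix.of_apply, _root_.Matrix.cons_val', _root_.Matrix.cons_val_fin_one, Fin.isValue, _root_.Matrix.cons_val_zero, _root_.Matrix.cons_val_succ, _root_.Fin.succ_zero_eq_one, _root_.Fin.succ_one_eq_two, _root_.IsEmpty.forall_iff, _root_.and_true, _root_.MulZeroClass.mul_zero, _root_.MulZeroClass.zero_mul, _root_.and_self, _root_.mul_one, _root_.one_mul, _root_.mul_neg, _root_.neg_mul, _root_.neg_inj, _root_.true_and])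
  have b1 := bracket_mem hw h3 h.tt m3 m1
  have b2 := bracket_mem hw h3 h.tt m4 m2
  have b3 := bracket_mem hw h3 h.tt m1 m2
  refine ⟨?_, ?_, ?_⟩
  · convert b1 using 1
    ext a b
    (revert a b; simp only [_root_.Fin.forall_fin_succ, _root_.Matrix.of_apply, _root_.Matrix.cons_val', _root_.Matrix.cons_val_fin_one, _root_.Matrix.cons_mul, _root_.Nat.succ_eq_add_one, Nat.reduceAdd, _root_.Matrix.vecMul_cons, _root_.Matrix.head_cons, _root_.one_smul, _root_.Matrix.tail_cons, _root_.zero_smul, _root_.Matrix.empty_vecMul, _root_.add_zero, _root_.neg_smul, _root_.Matrix.neg_cons, _root_.neg_zero, _root_.Matrix.neg_empty, _root_.zero_add, _root_.Matrix.empty_mul, _root_.Equiv.symm_apply_apply, _root_.Matrix.sub_apply, _root_.Pi.zero_apply, Fin.isValue, _root_.Matrix.cons_val_zero, _root_.sub_self, _root_.Matrix.cons_val_succ, _root_.forall_const, _root_.sub_zero, _root_.and_self, _root_.implies_true])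
  · convert b2 using 1
    ext a b
    (revert a b; simp only [_root_.Fin.forall_fin_succ, _root_.Matrix.of_apply, _root_.Matrix.cons_val', _root_.Matrix.cons_val_fin_one, _root_.Matrix.cons_mul, _root_.Nat.succ_eq_add_one, Nat.reduceAdd, _root_.Matrix.vecMul_cons, _root_.Matrix.head_cons, _root_.zero_smul, _root_.Matrix.tail_cons, _root_.Matrix.empty_vecMul, _root_.add_zero, _root_.one_smul, _root_.zero_add, _root_.neg_smul, _root_.Matrix.neg_cons, _root_.neg_zero, _root_.Matrix.neg_empty, _root_.Matrix.empty_mul, _root_.Equiv.symm_apply_apply, _root_.Matrix.sub_apply, _root_.Pi.zero_apply, Fin.isValue, _root_.Matrix.cons_val_zero, _root_.Matrix.cons_val_succ, _root_.sub_self, _root_.forall_const, _root_.and_self, _root_.sub_zero, _root_.implies_true])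
  · convert b3 using 1
    ext a b
    (revert a b; simp only [_root_.Fin.forall_fin_succ, _root_.Matrix.of_apply, _root_.Matrix.cons_val', _root_.Matrix.cons_val_fin_one, _root_.Matrix.cons_mul, _root_.Nat.succ_eq_add_one, Nat.reduceAdd, _root_.Matrix.vecMul_cons, _root_.Matrix.head_cons, _root_.zero_smul, _root_.Matrix.tail_cons, _root_.one_smul, _root_.Matrix.empty_vecMul, _root_.add_zero, _root_.zero_add, _root_.Matrix.empty_mul, _root_.Equiv.symm_apply_apply, _root_.Matrix.sub_apply, _root_.Pi.zero_apply, Fin.isValue, _root_.Matrix.cons_val_zero, _root_.Matrix.cons_val_succ, _root_.sub_self, _root_.forall_const, _root_.sub_zero, _root_.and_self, _root_.zero_sub, _root_.implies_true])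

/-- `dim DD ≥ 3` -/
theorem Dg.three_le (h : Dg i w g T T' α) (hw : w ^ 2 + w + 1 = 0) (h3 : (3 : E) ≠ 0) {m : ℕ} (hm : (m : F) ≠ 0)
    (hgm : g ^ m = 1) (h01 : α 0 = α 1) : 3 ≤ finrank F (DD g) := by
  classical
  obtain ⟨m1, m2, m3⟩ := h.mem3 hw h3 hm hgm h01
  let n := finrank F (DD g)
  let b := finBasis F (DD g)
  let W : Submodule E (Matrix (Fin 3) (Fin 3) E) := Submodule.span E (Set.range fun j : Fin n => (Psi i w T T' (b j : V8 F) :))
  have hle : Submodule.span E (Psi i w T T' '' (DD g : Set (V8 F))) ≤ W := by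
    rw [Submodule.span_le]
    rintro _ ⟨d, hd, rfl⟩
    have h1 : d = ∑ j, (b.repr ⟨d, hd⟩ j) • (b j : V8 F) := by
      have h2 : ((∑ j, (b.repr ⟨d, hd⟩ j) • b j : DD g) : V8 F) = d := congrArg (Subtype.val) (b.sum_repr ⟨d, hd⟩)
      rw [Submodule.coe_sum] at h2
      exact h2.symm
    have h5 : ∀ s : Finset (Fin n), Psi i w T T' (∑ j ∈ s, (b.repr ⟨d, hd⟩ j) • (b j : V8 F)) =
        ∑ j ∈ s, i (b.repr ⟨d, hd⟩ j) • Psi i w T T' (b j : V8 F) := by
      intro s
      induction s using Finset.induction_on with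
      | empty => rw [Finset.sum_empty, Finset.sum_empty, Psi_zero]
      | insert a s ha ih => rw [Finset.sum_insert ha, Finset.sum_insert ha, Psi_add, Psi_smul, ih]
    rw [h1, h5]
    exact Submodule.sum_mem _ fun j _ => Submodule.smul_mem _ _ (Submodule.subset_span ⟨j, rfl⟩)
  let f : (Fin 3 → E) →ₗ[E] W :=
    { toFun := fun t => ⟨t 0 • !![0, 1, 0; 0, 0, 0; 0, 0, 0] + t 1 • !![0, 0, 0; 1, 0, 0; 0, 0, 0] +
        t 2 • !![1, 0, 0; 0, -1, 0; 0, 0, 0], W.add_mem (W.add_mem (W.smul_mem _ (hle m1)) (W.smul_mem _ (hle m2)))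
        (W.smul_mem _ (hle m3))⟩
      map_add' := by
        intro x y
        apply Subtype.ext
        simp only [Pi.add_apply, Submodule.coe_add]
        module
      map_smul' := by
        intro c x
        apply Subtype.ext
        simp only [Pi.smul_apply, smul_eq_mul, Submodule.coe_smul, RingHom.id_apply]
        module }
  have hf : Function.Injective f := by
    intro x y hxy
    have h1 : (f x).1 = (f y).1 := congrArg Subtype.val hxy
    have e0 := congrFun (congrFun h1 0) 1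
    have e1 := congrFun (congrFun h1 1) 0
    have e2 := congrFun (congrFun h1 0) 0
    simp [f] at e0 e1 e2
    funext k
    fin_cases k
    · exact e0
    · exact e1
    · exact e2
  have h6 := LinearMap.finrank_le_finrank_of_injective hf
  rw [finrank_fin_fun] at h6
  have h7 : finrank E W ≤ Fintype.card (Fin n) := finrank_range_le_card _
  rw [Fintype.card_fin] at h7
  exact h6.trans h7

/-- the hyperbolic pair -/
theorem Dg.D2_exists [Finite F] (h : Dg i w g T T' α) (hw : w ^ 2 + w + 1 = 0) (h3 : (3 : E) ≠ 0) (hg : Ex g)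
    (h01 : α 0 = α 1) (h02 : α 0 ≠ α 2) {m : ℕ} (hm : (m : F) ≠ 0) (hgm : g ^ m = 1) :
    ∃ v v' : V8 F, g v = v ∧ g v' = v' ∧ dia (tauB F) v v = 0 ∧ dia (tauB F) v' v' = 0 ∧
      polar (plusForm 4 F) v v' = 1 := by
  have hdim := h.three_le hw h3 hm hgm h01
  obtain ⟨m1, m2, _⟩ := h.mem3 hw h3 hm hgm h01
  let β : DD g →ₗ[F] DD g →ₗ[F] F := LinearMap.mk₂ F (fun x y => x.1 (.inl 0) * y.1 (.inr 0) + x.1 (.inl 1) * y.1 (.inr 1) +
      x.1 (.inl 2) * y.1 (.inr 2) + x.1 (.inl 3) * y.1 (.inr 3))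
    (by intro x y z; simp only [Submodule.coe_add, Pi.add_apply]; ring)
    (by intro c x y; simp only [Submodule.coe_smul, Pi.smul_apply, smul_eq_mul]; ring)
    (by intro x y z; simp only [Submodule.coe_add, Pi.add_apply]; ring)
    (by intro c x y; simp only [Submodule.coe_smul, Pi.smul_apply, smul_eq_mul]; ring)
  obtain ⟨⟨v, hv⟩, hv0, hvβ⟩ := H950.exists_common_isotropic (fun _ : Unit => β) (by rw [Fintype.card_unit]; omega)
  have hQ : plusForm 4 F v = 0 := by
    rw [norm8]
    exact hvβ ()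
  have hv0' : v ≠ 0 := fun h0 => hv0 (Subtype.ext h0)
  obtain ⟨hvd, hvsq⟩ := h.dia_zero hw h3 h01 h02 hv hQ
  obtain ⟨v1, hv1, hp⟩ : ∃ v1 ∈ DD g, polar (plusForm 4 F) v v1 ≠ 0 := by
    by_contra hcon
    push Not at hcon
    apply hv0'
    apply Psi_eq_zero (i := i) hw h3 h.tt
    have h1 : ∀ X ∈ Submodule.span E (Psi i w T T' '' (DD g : Set (V8 F))), trace (Psi i w T T' v * X) = 0 := by
      intro X hX
      induction hX using Submodule.span_induction with
      | mem x hx =>
        obtain ⟨d, hd, rfl⟩ := hx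
        rw [trace_Psi_mul hw h3 h.tt, hcon d hd, map_zero, neg_zero]
      | zero => rw [mul_zero, trace_zero]
      | add x y _ _ hx hy => rw [mul_add, trace_add, hx, hy, add_zero]
      | smul c x _ hx => rw [mul_smul_comm, trace_smul, hx, smul_zero]
    have e1 := h1 _ m1
    have e2 := h1 _ m2
    rw [trace_fin_three] at e1 e2
    simp only [Matrix.mul_apply, Fin.sum_univ_three, _root_.Fin.isValue, _root_.Matrix.mul_apply, _root_.Matrix.of_apply, _root_.Matrix.cons_val', _root_.Matrix.cons_val_zero, _root_.Matrix.cons_val_fin_one, _root_.Fin.sum_univ_three, _root_.MulZeroClass.mul_zero, _root_.Matrix.cons_val_one, _root_.add_zero, _root_.Matrix.cons_val, _root_.mul_one, _root_.zero_add] at e1 e2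
    obtain ⟨a1, a2, a3, a4, a5, a6⟩ := h.blk hw h3 h01 h02 hv
    have e3 := congrFun (congrFun hvsq 0) 0
    simp [Matrix.mul_apply, Fin.sum_univ_three, a1, e1, e2] at e3
    rw [e3, zero_add] at a6
    ext x y
    (revert x y; simp only [a1, a2, a3, a4, a5, a6, e1, e2, e3, _root_.Fin.forall_fin_succ, _root_.Matrix.zero_apply, Fin.isValue, _root_.Fin.succ_zero_eq_one, _root_.Fin.succ_one_eq_two, _root_.IsEmpty.forall_iff, _root_.and_true, _root_.and_self])
  -- the second vector
  have hvv : polar (plusForm 4 F) v v = 0 := polar_self_of_sing hQ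
  let c := plusForm 4 F v1 / polar (plusForm 4 F) v v1
  have hw2 : v1 - c • v ∈ DD g := Submodule.sub_mem _ hv1 (Submodule.smul_mem _ _ hv)
  have hp2 : polar (plusForm 4 F) v (v1 - c • v) = polar (plusForm 4 F) v v1 := by
    have : polar (plusForm 4 F) v (v1 - c • v) = polar (plusForm 4 F) v v1 - c * polar (plusForm 4 F) v v := by
      simp only [polar8, Pi.sub_apply, Pi.smul_apply, smul_eq_mul]; ring
    rw [this, hvv, mul_zero, sub_zero]
  have hQ2 : plusForm 4 F (v1 - c • v) = 0 := by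
    have : plusForm 4 F (v1 - c • v) = plusForm 4 F v1 - c * polar (plusForm 4 F) v v1 + c * c * plusForm 4 F v := by
      simp only [polar8, norm8, Pi.sub_apply, Pi.smul_apply, smul_eq_mul]; ring
    rw [this, hQ, mul_zero, add_zero]
    change _ - plusForm 4 F v1 / polar (plusForm 4 F) v v1 * _ = 0
    rw [div_mul_cancel₀ _ hp, sub_self]
  obtain ⟨hd2, _⟩ := h.dia_zero hw h3 h01 h02 hw2 hQ2
  refine ⟨v, (polar (plusForm 4 F) v v1)⁻¹ • (v1 - c • v), DD_fix hg hv, ?_, hvd, ?_, ?_⟩
  · rw [map_smul, DD_fix hg hw2]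
  · exact H989.OkuboRoot.smul_dia hd2 _
  · have : polar (plusForm 4 F) v ((polar (plusForm 4 F) v v1)⁻¹ • (v1 - c • v)) =
        (polar (plusForm 4 F) v v1)⁻¹ * polar (plusForm 4 F) v (v1 - c • v) := by
      simp only [polar8, Pi.smul_apply, smul_eq_mul]; ring
    rw [this, hp2, inv_mul_cancel₀ hp]

/-- the identity -/
theorem pair_one (h3 : (3 : F) ≠ 0) : ∃ v v' : V8 F, dia (tauB F) v v = 0 ∧ dia (tauB F) v' v' = 0 ∧
    polar (plusForm 4 F) v v' = 1 := by
  refine ⟨Sum.elim ![0, 1, 1, 1] ![0, 0, 0, 0], Sum.elim ![0, 0, 0, 0] ![0, 3⁻¹, 3⁻¹, 3⁻¹], ?_, ?_, ?_⟩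
  · apply ext8 <;> simp [dia_l0, dia_l1, dia_l2, dia_l3, dia_r0, dia_r1, dia_r2, dia_r3]
  · apply ext8 <;> simp [dia_l0, dia_l1, dia_l2, dia_l3, dia_r0, dia_r1, dia_r2, dia_r3]
  · rw [polar8]
    simp
    field_simp
    ring

theorem exists_perm : ∀ a b : Fin 3, a ≠ b → ∃ σ : Equiv.Perm (Fin 3), σ 0 = a ∧ σ 1 = b := by decide

/-- **Box SS**, with the matrix `P`. -/
theorem semis_of [IsAlgClosed E] [Finite F] (hw : w ^ 2 + w + 1 = 0) (h3 : (3 : E) ≠ 0) (hg : Ex g) {m : ℕ}
    (hm : (m : F) ≠ 0) (hgm : g ^ m = 1) {P P' : Matrix (Fin 3) (Fin 3) E} (hPP : P * P' = 1) (hPP' : P' * P = 1)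
    (hP : ∀ z, Phi i w (g z) = P * Phi i w z * P') :
    (∃ v v' : V8 F, g v = v ∧ g v' = v' ∧ dia (tauB F) v v = 0 ∧ dia (tauB F) v' v' = 0 ∧
      polar (plusForm 4 F) v v' = 1) ∨
    ((∀ v : V8 F, g v = v → dia (tauB F) v v = 0 → v = 0) ∧
      (2 < Nat.card F → ∃ a : V8 F, g a = a ∧
        4 * plusForm 4 F a ^ 3 ≠ polar (plusForm 4 F) a (dia (tauB F) a a) ^ 2) ∧
      ∃ T T' α, Dg i w g T T' α ∧ P * T = T * diagonal α ∧ Function.Injective α) := by
  obtain ⟨T, T', α, h, hPT⟩ := exists_Dg (i := i) hw h3 hm hgm hPP hPP' hP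
  have h3F : (3 : F) ≠ 0 := by
    intro h0
    apply h3
    have := congrArg i h0
    rwa [map_ofNat, map_zero] at this
  by_cases hα : Function.Injective α
  · right
    exact ⟨fun v hv hvv => h.D1_zero hw h3 hα hv hvv, fun hF => h.D1_exists hw h3 hα hm hgm hF, T, T', α, h, hPT, hα⟩
  · left
    obtain ⟨a, b, hab, hne⟩ : ∃ a b, α a = α b ∧ a ≠ b := by
      by_contra hcon
      push Not at hcon
      exact hα fun a b hab => hcon a b hab
    obtain ⟨σ, hσ0, hσ1⟩ := exists_perm a b hne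
    have h' := h.perm σ
    have h01 : (α ∘ σ) 0 = (α ∘ σ) 1 := by
      change α (σ 0) = α (σ 1)
      rw [hσ0, hσ1, hab]
    by_cases h02 : (α ∘ σ) 0 = (α ∘ σ) 2
    · obtain ⟨v, v', k1, k2, k3⟩ := pair_one h3F
      have hid : ∀ z, g z = z := by
        intro z
        have h12 : (α ∘ σ) 1 = (α ∘ σ) 2 := by rw [← h01, h02]
        have hall : ∀ a b, (α ∘ σ) a = (α ∘ σ) b := by
          intro a b
          fin_cases a <;> fin_cases b <;> first | rfl | exact h01 | exact h02 | exact h01.symm | exact h02.symm | exact h12 | exact h12.symm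
        apply sub_eq_zero.1
        apply Psi_eq_zero (i := i) hw h3 h'.tt
        rw [Psi_sub]
        ext a b
        have h5 := h'.entry z a b
        rw [hall a b, mul_comm] at h5
        rw [Matrix.sub_apply, Matrix.zero_apply, sub_eq_zero]
        exact (mul_right_cancel₀ (h'.ne b) h5).symm
      exact ⟨v, v', hid v, hid v', k1, k2, k3⟩
    · exact h'.D2_exists hw h3 hg h01 h02 hm hgm

/-- **Box SS**: the second alternative says that the commutant of `P` is reduced. -/
theorem semis_P [IsAlgClosed E] [Finite F] (hw : w ^ 2 + w + 1 = 0) (h3 : (3 : E) ≠ 0) (hg : Ex g) {m : ℕ}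
    (hm : (m : F) ≠ 0) (hgm : g ^ m = 1) {P P' : Matrix (Fin 3) (Fin 3) E} (hPP : P * P' = 1) (hPP' : P' * P = 1)
    (hP : ∀ z, Phi i w (g z) = P * Phi i w z * P') :
    (∃ v v' : V8 F, g v = v ∧ g v' = v' ∧ dia (tauB F) v v = 0 ∧ dia (tauB F) v' v' = 0 ∧
      polar (plusForm 4 F) v v' = 1) ∨
    (∀ N : Matrix (Fin 3) (Fin 3) E, N * P = P * N → N * N = 0 → N = 0) := by
  rcases semis_of hw h3 hg hm hgm hPP hPP' hP with h1 | ⟨_, _, T, T', α, hD, hPT, hα⟩
  · exact Or.inl h1
  · right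
    intro N hN hNN
    have e1 : diagonal α * (T' * N * T) = (T' * N * T) * diagonal α := by
      have e2 : diagonal α = T' * P * T := by rw [mul_assoc, hPT, ← mul_assoc, hD.tt', one_mul]
      calc diagonal α * (T' * N * T) = T' * P * T * (T' * N * T) := by rw [e2]
        _ = T' * P * (T * T') * N * T := by noncomm_ring
        _ = T' * (P * N) * T := by rw [hD.tt]; noncomm_ring
        _ = T' * (N * P) * T := by rw [hN]
        _ = T' * N * (T * T') * P * T := by rw [hD.tt]; noncomm_ring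
        _ = (T' * N * T) * (T' * P * T) := by noncomm_ring
        _ = _ := by rw [e2]
    have e3 : (T' * N * T) * (T' * N * T) = 0 := by
      calc (T' * N * T) * (T' * N * T) = T' * N * (T * T') * N * T := by noncomm_ring
        _ = T' * (N * N) * T := by rw [hD.tt]; noncomm_ring
        _ = 0 := by rw [hNN, mul_zero, zero_mul]
    have e4 : T' * N * T = 0 := by
      generalize T' * N * T = B at e1 e3
      have hoff : ∀ a b, a ≠ b → B a b = 0 := by
        intro a b hab
        have h5 := congrFun (congrFun e1 a) b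
        rw [Matrix.diagonal_mul, Matrix.mul_diagonal] at h5
        have h6 : (α a - α b) * B a b = 0 := by linear_combination h5
        exact (mul_eq_zero.1 h6).resolve_left (sub_ne_zero.2 fun h7 => hab (hα h7))
      ext a b
      by_cases hab : a = b
      · subst hab
        have h4 := congrFun (congrFun e3 a) a
        rw [Matrix.mul_apply, Finset.sum_eq_single a (fun b _ hb => by rw [hoff a b hb.symm, zero_mul])
          (fun hb => absurd (Finset.mem_univ _) hb)] at h4
        exact mul_self_eq_zero.1 h4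
      · exact hoff a b hab
    calc N = (T * T') * N * (T * T') := by rw [hD.tt, one_mul, mul_one]
      _ = T * (T' * N * T) * T' := by noncomm_ring
      _ = 0 := by rw [e4, mul_zero, zero_mul]

end dg

/-- **Box SS** (semisimple exact automorphisms of the Okubo product). -/
theorem semis [Finite F] (h3 : (3 : F) ≠ 0) {g : V8 F ≃ₗ[F] V8 F} (hg : Ex g) {m : ℕ}
    (hm : (m : F) ≠ 0) (_hm3 : m.Coprime 3) (hgm : g ^ m = 1) :
    (∃ v w : V8 F, g v = v ∧ g w = w ∧ dia (tauB F) v v = 0 ∧ dia (tauB F) w w = 0 ∧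
      polar (plusForm 4 F) v w = 1) ∨
    ((∀ v : V8 F, g v = v → dia (tauB F) v v = 0 → v = 0) ∧
      (2 < Nat.card F → ∃ a : V8 F, g a = a ∧
        4 * plusForm 4 F a ^ 3 ≠ polar (plusForm 4 F) a (dia (tauB F) a a) ^ 2)) := by
  let i : F →+* AlgebraicClosure F := algebraMap F (AlgebraicClosure F)
  have h3E : (3 : AlgebraicClosure F) ≠ 0 := by
    intro h0
    apply h3
    apply i.injective
    rw [map_ofNat, map_zero]
    exact h0
  obtain ⟨w, hw⟩ : ∃ w : AlgebraicClosure F, w ^ 2 + w + 1 = 0 := by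
    obtain ⟨w, hw⟩ := IsAlgClosed.exists_root
      (Polynomial.X ^ 2 + Polynomial.X + 1 : Polynomial (AlgebraicClosure F)) (by
        have : (Polynomial.X ^ 2 + Polynomial.X + 1 : Polynomial (AlgebraicClosure F)).degree = 2 := by
          compute_degree!
        rw [this]
        norm_num)
    refine ⟨w, ?_⟩
    rw [Polynomial.IsRoot.def] at hw
    simpa only [_root_.Polynomial.eval_add, _root_.Polynomial.eval_pow, _root_.Polynomial.eval_X, _root_.Polynomial.eval_one] using hw
  obtain ⟨P, P', hPP, hPP', hP⟩ := H237.RC.SN.exists_conj i hw h3E hg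
  rcases semis_of (i := i) hw h3E hg hm hgm hPP hPP' hP with h1 | ⟨h1, h2, _⟩
  · exact Or.inl h1
  · exact Or.inr ⟨h1, h2⟩

end Cfsg.Agent.H188.RC.OkSS
end

-- part: H202/Tri/Mix
section
/-!
# S3510, triality type (ii), box MIX (helper202)

`g` semisimple, `k` unipotent commuting exact automorphisms of the Okubo product: some `v` fixed by `g` with `v ⋄ v = 0` and
`polar v (k v) ≠ 0`.
-/

set_option autoImplicit false

namespace Cfsg.Agent.H202.Tri

open Module QuadraticMap Cfsg.Agent.LieClassical.OrthCore Cfsg.Agent.LieClassical.OrthTrans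
  Cfsg.Agent.LieClassical.OrthSimple Cfsg.Agent.ClassicalGeometry.OrthAut1
  Cfsg.Agent.ClassicalGeometry.OrthSemi Cfsg.Agent.H198.Classes
  Cfsg.Agent.LieClassical.QuadForms Cfsg.Agent.H198.ClassesPlus
  Cfsg.Agent.ClassicalGeometry.TrialityOct Cfsg.Agent.ClassicalGeometry.Triality
  Cfsg.Agent.ClassicalGeometry.TrialitySpaces Cfsg.Agent.H198.TriBase Cfsg.Agent.H198.TriAut
  Cfsg.Agent.H206.Balance Cfsg.Agent.H198.BalVar Cfsg.Agent.H198.TriDia Cfsg.Agent.H198.TriSpec
  Cfsg.Agent.H198.TriPhi Cfsg.Agent.H442.RC.TriB Cfsg.Agent.H989.OkuboRoot Matrix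

universe u

/-! ### Matrices -/

section mat

variable {E : Type*} [Field E]

/-- a kernel of dimension at least two -/
theorem two_le_ker {V : Matrix (Fin 3) (Fin 3) E} (hV : V * V = 0) : 2 ≤ finrank E (LinearMap.ker V.mulVecLin) := by
  have h1 : LinearMap.range V.mulVecLin ≤ LinearMap.ker V.mulVecLin := by
    rintro _ ⟨x, rfl⟩
    rw [LinearMap.mem_ker, Matrix.mulVecLin_apply, Matrix.mulVecLin_apply, Matrix.mulVec_mulVec, hV, Matrix.zero_mulVec]
  have h2 := LinearMap.finrank_range_add_finrank_ker V.mulVecLin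
  have h3 := Submodule.finrank_mono h1
  rw [finrank_fintype_fun_eq_card, Fintype.card_fin] at h2
  omega

/-- normal form of a pair of opposite root elements -/
theorem exists_nf {V W : Matrix (Fin 3) (Fin 3) E} (hV : V * V = 0) (hW : W * W = 0) (hVW : V * W * V = -V)
    (hV0 : V ≠ 0) : ∃ S S' : Matrix (Fin 3) (Fin 3) E, S * S' = 1 ∧ S' * S = 1 ∧
      S' * V * S = !![0, -1, 0; 0, 0, 0; 0, 0, 0] ∧ S' * W * S = !![0, 0, 0; 1, 0, 0; 0, 0, 0] := by
  classical
  obtain ⟨u, hu⟩ : ∃ u : Fin 3 → E, V *ᵥ u ≠ 0 := by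
    by_contra hcon
    push Not at hcon
    apply hV0
    apply Matrix.ext_of_mulVec_single
    intro j
    rw [hcon, Matrix.zero_mulVec]
  set a := V *ᵥ u with ha
  set! b := W *ᵥ a with hb
  have hVa : V *ᵥ a = 0 := by rw [ha, Matrix.mulVec_mulVec, hV, Matrix.zero_mulVec]
  have hVb : V *ᵥ b = -a := by
    rw [hb, ha, Matrix.mulVec_mulVec, Matrix.mulVec_mulVec, hVW, Matrix.neg_mulVec]
  have hWb : W *ᵥ b = 0 := by rw [hb, Matrix.mulVec_mulVec, hW, Matrix.zero_mulVec]
  obtain ⟨c, hc, hc0⟩ : ∃ c ∈ LinearMap.ker V.mulVecLin ⊓ LinearMap.ker W.mulVecLin, c ≠ 0 := by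
    apply Submodule.exists_mem_ne_zero_of_ne_bot
    intro hbot
    have h1 := Submodule.finrank_sup_add_finrank_inf_eq (LinearMap.ker V.mulVecLin) (LinearMap.ker W.mulVecLin)
    have h2 := Submodule.finrank_le (LinearMap.ker V.mulVecLin ⊔ LinearMap.ker W.mulVecLin)
    rw [hbot, finrank_bot] at h1
    rw [finrank_fintype_fun_eq_card, Fintype.card_fin] at h2
    have h3 := two_le_ker hV
    have h4 := two_le_ker hW
    omega
  have hVc : V *ᵥ c = 0 := hc.1
  have hWc : W *ᵥ c = 0 := hc.2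
  have hb0 : b ≠ 0 := by
    intro h
    rw [h, Matrix.mulVec_zero] at hVb
    exact hu (neg_eq_zero.1 hVb.symm)
  let S : Matrix (Fin 3) (Fin 3) E := (Matrix.of ![a, b, c])ᵀ
  have hS : ∀ x : Fin 3 → E, S *ᵥ x = x 0 • a + x 1 • b + x 2 • c := by
    intro x
    funext j
    simp only [S, Matrix.mulVec, dotProduct, Fin.sum_univ_three, mul_comm, _root_.Matrix.mulVec, _root_.dotProduct, _root_.Matrix.transpose_apply, _root_.Matrix.of_apply, _root_.Matrix.cons_val', _root_.Matrix.cons_val_fin_one, _root_.mul_comm, _root_.Fin.sum_univ_three, _root_.Fin.isValue, _root_.Matrix.cons_val_zero, _root_.Matrix.cons_val_one, _root_.Matrix.cons_val, _root_.Pi.add_apply, _root_.Pi.smul_apply, _root_.smul_eq_mul]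
  have hinj : Function.Injective S.mulVec := by
    have : Function.Injective S.mulVecLin := by
      rw [injective_iff_map_eq_zero]
      intro x hx
      rw [Matrix.mulVecLin_apply, hS] at hx
      have e1 := congrArg (V *ᵥ ·) hx
      have e2 := congrArg (W *ᵥ ·) hx
      simp only [Matrix.mulVec_add, Matrix.mulVec_smul, hVa, hVb, hVc, hWb, hWc, Matrix.mulVec_zero, smul_zero,
        zero_add, add_zero] at e1 e2
      have x1 : x 1 = 0 := by
        rw [smul_neg, neg_eq_zero] at e1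
        exact (smul_eq_zero.1 e1).resolve_right hu
      have x0 : x 0 = 0 := (smul_eq_zero.1 e2).resolve_right hb0
      rw [x0, x1, zero_smul, zero_smul, zero_add, zero_add] at hx
      have x2 : x 2 = 0 := (smul_eq_zero.1 hx).resolve_right hc0
      funext j
      fin_cases j
      · exact x0
      · exact x1
      · exact x2
    exact this
  have hunit : IsUnit S := Matrix.mulVec_injective_iff_isUnit.1 hinj
  obtain ⟨U, hU⟩ := hunit
  have hSS : S * ((U⁻¹ : (Matrix (Fin 3) (Fin 3) E)ˣ) : Matrix (Fin 3) (Fin 3) E) = 1 := by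
    rw [← hU, ← Units.val_mul, mul_inv_cancel, Units.val_one]
  have hSS' : ((U⁻¹ : (Matrix (Fin 3) (Fin 3) E)ˣ) : Matrix (Fin 3) (Fin 3) E) * S = 1 := by
    rw [← hU, ← Units.val_mul, inv_mul_cancel, Units.val_one]
  refine ⟨S, ((U⁻¹ : (Matrix (Fin 3) (Fin 3) E)ˣ) : Matrix (Fin 3) (Fin 3) E), hSS, hSS', ?_, ?_⟩
  · have h1 : V * S = S * !![0, -1, 0; 0, 0, 0; 0, 0, 0] := by
      apply Matrix.ext_of_mulVec_single
      intro j
      rw [← Matrix.mulVec_mulVec, ← Matrix.mulVec_mulVec, hS, hS, Matrix.mulVec_add, Matrix.mulVec_add,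
        Matrix.mulVec_smul, Matrix.mulVec_smul, Matrix.mulVec_smul, hVa, hVb, hVc]
      (revert j; simp only [_root_.Fin.forall_fin_succ, Fin.isValue, _root_.smul_zero, _root_.smul_neg, _root_.zero_add, _root_.add_zero, _root_.Matrix.mulVec_single, _root_.MulOpposite.op_one, _root_.Pi.smul_apply, _root_.Matrix.col_apply, _root_.Matrix.of_apply, _root_.Matrix.cons_val', _root_.Matrix.cons_val_fin_one, _root_.Matrix.cons_val_zero, _root_.one_smul, _root_.Matrix.cons_val_one, _root_.Matrix.cons_val, _root_.ne_eq, _root_.one_ne_zero, _root_.not_false_eq_true, _root_.Pi.single_eq_of_ne, _root_.zero_smul, _root_.neg_zero, _root_.Matrix.cons_val_succ, _root_.Fin.succ_zero_eq_one, _root_.Pi.single_eq_same, _root_.neg_smul, _root_.neg_eq_zero, _root_.smul_eq_zero, _root_.Fin.succ_one_eq_two, Fin.reduceEq, _root_.true_or, _root_.IsEmpty.forall_iff, _root_.and_self])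
    rw [Matrix.mul_assoc, h1, ← Matrix.mul_assoc, hSS', Matrix.one_mul]
  · have h1 : W * S = S * !![0, 0, 0; 1, 0, 0; 0, 0, 0] := by
      apply Matrix.ext_of_mulVec_single
      intro j
      rw [← Matrix.mulVec_mulVec, ← Matrix.mulVec_mulVec, hS, hS, Matrix.mulVec_add, Matrix.mulVec_add,
        Matrix.mulVec_smul, Matrix.mulVec_smul, Matrix.mulVec_smul, ← hb, hWb, hWc]
      (revert j; simp only [_root_.Fin.forall_fin_succ, Fin.isValue, _root_.smul_zero, _root_.add_zero, _root_.Matrix.mulVec_single, _root_.MulOpposite.op_one, _root_.Pi.smul_apply, _root_.Matrix.col_apply, _root_.Matrix.of_apply, _root_.Matrix.cons_val', _root_.Matrix.cons_val_fin_one, _root_.Matrix.cons_val_zero, _root_.one_smul, _root_.Matrix.cons_val_one, _root_.Matrix.cons_val, _root_.Pi.single_eq_same, _root_.zero_smul, _root_.zero_add, _root_.ne_eq, _root_.Fin.succ_ne_zero, _root_.not_false_eq_true, _root_.Pi.single_eq_of_ne', _root_.Matrix.cons_val_succ, _root_.implies_true, _root_.and_self])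
    rw [Matrix.mul_assoc, h1, ← Matrix.mul_assoc, hSS', Matrix.one_mul]

/-- the core computation in coordinates -/
theorem core {P R R' : Matrix (Fin 3) (Fin 3) E} {p : ℕ} (hp : p.Prime) (hpE : (p : E) = 0) {ν : E}
    (h1 : P * !![0, -1, 0; 0, 0, 0; 0, 0, 0] = !![0, -1, 0; 0, 0, 0; 0, 0, 0] * P)
    (h2 : P * !![0, 0, 0; 1, 0, 0; 0, 0, 0] = !![0, 0, 0; 1, 0, 0; 0, 0, 0] * P)
    (hns : ¬ ∃ c : E, P = c • (1 : Matrix (Fin 3) (Fin 3) E)) (hPR : P * R = R * P) (hR : R * R' = 1)
    (hRp : R ^ p = ν • (1 : Matrix (Fin 3) (Fin 3) E))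
    (t1 : trace (!![0, -1, 0; 0, 0, 0; 0, 0, 0] * (R * !![0, -1, 0; 0, 0, 0; 0, 0, 0] * R')) = 0)
    (t2 : trace (!![0, 0, 0; 1, 0, 0; 0, 0, 0] * (R * !![0, 0, 0; 1, 0, 0; 0, 0, 0] * R')) = 0) :
    ∃ c : E, R = c • (1 : Matrix (Fin 3) (Fin 3) E) := by
  have hPR' : P * R' = R' * P := by
    have hR2 : R' * R = 1 := mul_eq_one_comm.1 hR
    calc P * R' = R' * R * (P * R') := by rw [hR2, Matrix.one_mul]
      _ = R' * (P * R) * R' := by rw [hPR]; simp only [Matrix.mul_assoc]
      _ = R' * P := by rw [Matrix.mul_assoc, Matrix.mul_assoc, hR, Matrix.mul_one]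
  have e1 := fun a b => congrFun (congrFun h1 a) b
  have e2 := fun a b => congrFun (congrFun h2 a) b
  have p10 : P 1 0 = 0 := by simpa only [Matrix.mul_apply, Fin.sum_univ_three, _root_.Fin.isValue, _root_.Matrix.of_apply, _root_.Matrix.cons_val', _root_.Matrix.cons_val_zero, _root_.Matrix.cons_val_fin_one, _root_.MulZeroClass.mul_zero, _root_.Matrix.cons_val_one, _root_.add_zero, _root_.Matrix.cons_val, _root_.MulZeroClass.zero_mul, _root_.neg_mul, _root_.one_mul, _root_.zero_add, _root_.zero_eq_neg] using e1 0 0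
  have p12 : P 1 2 = 0 := by simpa only [Matrix.mul_apply, Fin.sum_univ_three, _root_.Fin.isValue, _root_.Matrix.of_apply, _root_.Matrix.cons_val', _root_.Matrix.cons_val, _root_.Matrix.cons_val_fin_one, _root_.Matrix.cons_val_zero, _root_.MulZeroClass.mul_zero, _root_.Matrix.cons_val_one, _root_.add_zero, _root_.MulZeroClass.zero_mul, _root_.neg_mul, _root_.one_mul, _root_.zero_add, _root_.zero_eq_neg] using e1 0 2
  have p20 : P 2 0 = 0 := by simpa [Matrix.mul_apply, Fin.sum_univ_three] using e1 2 1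
  have p01 : P 0 1 = 0 := by simpa [Matrix.mul_apply, Fin.sum_univ_three] using e2 0 0
  have p02 : P 0 2 = 0 := by simpa [Matrix.mul_apply, Fin.sum_univ_three] using (e2 1 2).symm
  have p21 : P 2 1 = 0 := by simpa [Matrix.mul_apply, Fin.sum_univ_three] using e2 2 0
  have p11 : P 0 0 = P 1 1 := by simpa [Matrix.mul_apply, Fin.sum_univ_three] using e1 0 1
  have hxy : P 0 0 ≠ P 2 2 := by
    intro h
    apply hns
    refine ⟨P 0 0, ?_⟩
    ext a b
    (revert a b; simp only [p10, p12, p20, p01, p02, p21, ← p11, ← h, _root_.Fin.forall_fin_succ, Fin.isValue, _root_.Matrix.smul_apply, _root_.smul_eq_mul, _root_.Fin.succ_zero_eq_one, _root_.Fin.succ_one_eq_two, _root_.IsEmpty.forall_iff, _root_.and_true, _root_.Matrix.one_apply_eq, _root_.mul_one, Nat.reduceAdd, _root_.ne_eq, _root_.zero_ne_one, _root_.not_false_eq_true, _root_.Matrix.one_apply_ne, _root_.MulZeroClass.mul_zero, Fin.reduceEq, _root_.and_self, _root_.Fin.succ_ne_zero])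
  have hd : P 0 0 - P 2 2 ≠ 0 := sub_ne_zero.2 hxy
  have blk : ∀ {X : Matrix (Fin 3) (Fin 3) E}, P * X = X * P → X 0 2 = 0 ∧ X 1 2 = 0 ∧ X 2 0 = 0 ∧ X 2 1 = 0 := by
    intro X hX
    have e3 := fun a b => congrFun (congrFun hX a) b
    have a1 := e3 0 2
    have a2 := e3 1 2
    have a3 := e3 2 0
    have a4 := e3 2 1
    simp only [Matrix.mul_apply, Fin.sum_univ_three, p10, p12, p20, p01, p02, p21, zero_mul, mul_zero, zero_add,
      add_zero] at a1 a2 a3 a4
    refine ⟨?_, ?_, ?_, ?_⟩ <;> apply (mul_eq_zero.1 _).resolve_left hd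
    · linear_combination a1
    · rw [p11] at *
      linear_combination a2
    · linear_combination -a3
    · rw [p11] at *
      linear_combination -a4
  obtain ⟨r02, r12, r20, r21⟩ := blk hPR
  obtain ⟨s02, s12, s20, s21⟩ := blk hPR'
  have e4 := fun a b => congrFun (congrFun hR a) b
  have b00 := e4 0 0
  have b01 := e4 0 1
  have b10 := e4 1 0
  have b11 := e4 1 1
  simp only [Matrix.mul_apply, Fin.sum_univ_three, r02, r12, r20, r21, s02, s12, s20, s21, _root_.Fin.isValue, _root_.Matrix.mul_apply, _root_.Fin.sum_univ_three, _root_.MulZeroClass.mul_zero, _root_.add_zero, _root_.Matrix.one_apply_eq, _root_.ne_eq, _root_.zero_ne_one, _root_.not_false_eq_true, _root_.Matrix.one_apply_ne, _root_.one_ne_zero] at b00 b01 b10 b11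
  rw [trace_fin_three] at t1 t2
  simp only [Matrix.mul_apply, Fin.sum_univ_three, _root_.Fin.isValue, _root_.Matrix.mul_apply, _root_.Matrix.of_apply, _root_.Matrix.cons_val', _root_.Matrix.cons_val_fin_one, _root_.Matrix.cons_val_zero, _root_.Fin.sum_univ_three, _root_.Matrix.cons_val_one, _root_.Matrix.cons_val, _root_.MulZeroClass.mul_zero, _root_.add_zero, _root_.MulZeroClass.zero_mul, _root_.mul_neg, _root_.mul_one, _root_.neg_mul, _root_.zero_add, _root_.Finset.sum_neg_distrib, _root_.one_mul, _root_.neg_neg, _root_.neg_zero, _root_.mul_eq_zero] at t1 t2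
  have r10 : R 1 0 = 0 := by
    rcases t1 with h | h
    · exact h
    · rw [h, mul_zero, add_zero] at b00
      rw [h, mul_zero, add_zero] at b10
      exact (mul_eq_zero.1 b10).resolve_right fun h0 => by rw [h0, mul_zero] at b00; exact zero_ne_one b00
  have r01 : R 0 1 = 0 := by
    rcases t2 with h | h
    · exact h
    · rw [h, mul_zero, zero_add] at b01
      rw [h, mul_zero, zero_add] at b11
      exact (mul_eq_zero.1 b01).resolve_right fun h0 => by rw [h0, mul_zero] at b11; exact zero_ne_one b11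
  have hRd : R = Matrix.diagonal ![R 0 0, R 1 1, R 2 2] := by
    ext a b
    (revert a b; simp only [r10, r01, r02, r12, r20, r21, _root_.Fin.forall_fin_succ, _root_.Nat.succ_eq_add_one, Nat.reduceAdd, Fin.isValue, _root_.Fin.succ_zero_eq_one, _root_.Fin.succ_one_eq_two, _root_.IsEmpty.forall_iff, _root_.and_true, _root_.Matrix.diagonal_apply_eq, _root_.Matrix.cons_val_zero, _root_.ne_eq, _root_.zero_ne_one, _root_.not_false_eq_true, _root_.Matrix.diagonal_apply_ne, Fin.reduceEq, _root_.and_self, _root_.Fin.succ_ne_zero, _root_.Matrix.cons_val_one, _root_.Matrix.cons_val])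
  have hch : CharP E p := by
    obtain ⟨q, hq⟩ := CharP.exists E
    have h3 := (CharP.cast_eq_zero_iff E q p).1 hpE
    rcases (Nat.dvd_prime hp).1 h3 with h4 | h4
    · exfalso
      rw [h4] at hq
      exact CharP.ringChar_ne_one (R := E) ((CharP.eq E hq (ringChar.charP E)).symm ▸ rfl)
    · rw [h4] at hq; exact hq
  have hpf : Fact p.Prime := ⟨hp⟩
  rw [hRd, Matrix.diagonal_pow] at hRp
  have c0 := congrFun (congrFun hRp 0) 0
  have c1 := congrFun (congrFun hRp 1) 1
  have c2 := congrFun (congrFun hRp 2) 2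
  simp at c0 c1 c2
  have key : ∀ x y : E, x ^ p = ν → y ^ p = ν → x = y := by
    intro x y hx hy
    have h3 : (x - y) ^ p = 0 := by rw [sub_pow_char, hx, hy, sub_self]
    exact sub_eq_zero.1 (pow_eq_zero_iff hp.ne_zero |>.1 h3)
  refine ⟨R 0 0, ?_⟩
  rw [hRd]
  ext a b
  (revert a b; simp only [key _ _ c1 c0, key _ _ c2 c0, _root_.Fin.forall_fin_succ, _root_.Nat.succ_eq_add_one, Nat.reduceAdd, Fin.isValue, _root_.Matrix.diagonal_apply_eq, _root_.Matrix.cons_val_zero, _root_.Matrix.smul_apply, _root_.smul_eq_mul, _root_.Fin.succ_zero_eq_one, _root_.Fin.succ_one_eq_two, _root_.IsEmpty.forall_iff, _root_.and_true, _root_.Matrix.one_apply_eq, _root_.mul_one, _root_.ne_eq, _root_.zero_ne_one, _root_.not_false_eq_true, _root_.Matrix.diagonal_apply_ne, _root_.Matrix.one_apply_ne, _root_.MulZeroClass.mul_zero, Fin.reduceEq, _root_.and_self, _root_.Fin.succ_ne_zero, _root_.true_and, _root_.Matrix.cons_val_one, _root_.Matrix.cons_val])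

end mat

/-! ### The Okubo side -/

section okubo

variable {F : Type u} [Field F] {E : Type*} [Field E] {i : F →+* E} {w : E}

/-- `Φ (g z) = P Φ(z) P'` -/
def IsC (i : F →+* E) (w : E) (g : V8 F ≃ₗ[F] V8 F) (P P' : Matrix (Fin 3) (Fin 3) E) : Prop :=
  P * P' = 1 ∧ P' * P = 1 ∧ ∀ z, Phi i w (g z) = P * Phi i w z * P'

theorem IsC.pow {g : V8 F ≃ₗ[F] V8 F} {P P' : Matrix (Fin 3) (Fin 3) E} (h : IsC i w g P P') (n : ℕ) :
    IsC i w (g ^ n) (P ^ n) (P' ^ n) := by
  induction n with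
  | zero =>
    rw [pow_zero, pow_zero, pow_zero]
    exact ⟨by rw [Matrix.mul_one], by rw [Matrix.mul_one], fun z => by rw [Matrix.one_mul, Matrix.mul_one]; rfl⟩
  | succ n ih =>
    refine ⟨?_, ?_, fun z => ?_⟩
    · rw [pow_succ, pow_succ' P', Matrix.mul_assoc, ← Matrix.mul_assoc P, h.1, Matrix.one_mul, ih.1]
    · rw [pow_succ' P, pow_succ P', Matrix.mul_assoc, ← Matrix.mul_assoc P', h.2.1, Matrix.one_mul, ih.2.1]
    · rw [pow_succ g]
      change Phi i w ((g ^ n) (g z)) = _
      rw [ih.2.2, h.2.2, pow_succ, pow_succ']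
      simp only [Matrix.mul_assoc]

theorem IsC.comm {g : V8 F ≃ₗ[F] V8 F} {P P' : Matrix (Fin 3) (Fin 3) E} (h : IsC i w g P P') {v : V8 F}
    (hv : g v = v) : P * Phi i w v = Phi i w v * P := by
  have h1 := h.2.2 v
  rw [hv] at h1
  calc P * Phi i w v = P * Phi i w v * (P' * P) := by rw [h.2.1, Matrix.mul_one]
    _ = P * Phi i w v * P' * P := by rw [Matrix.mul_assoc (P * Phi i w v)]
    _ = Phi i w v * P := by rw [← h1]

theorem IsC.scalar_of_one (hw : w ^ 2 + w + 1 = 0) (h3 : (3 : E) ≠ 0) {g : V8 F ≃ₗ[F] V8 F}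
    {P P' : Matrix (Fin 3) (Fin 3) E} (h : IsC i w g P P') (hg : g = 1) :
    ∃ c : E, P = c • (1 : Matrix (Fin 3) (Fin 3) E) :=
  _root_.Cfsg.Agent.H989.OkuboRoot.scalar_of_comm i hw h3 fun z => h.comm (by rw [hg]; rfl)

theorem IsC.one_of_scalar (hw : w ^ 2 + w + 1 = 0) (h3 : (3 : E) ≠ 0) {g : V8 F ≃ₗ[F] V8 F}
    {P P' : Matrix (Fin 3) (Fin 3) E} (h : IsC i w g P P') (hs : ∃ c : E, P = c • (1 : Matrix (Fin 3) (Fin 3) E)) :
    g = 1 := by
  obtain ⟨c, hc⟩ := hs
  apply LinearEquiv.ext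
  intro z
  apply Phi_injective i hw h3
  rw [h.2.2]
  have h1 : P * Phi i w z = Phi i w z * P := by rw [hc, smul_mul_assoc, Matrix.one_mul, mul_smul_comm, Matrix.mul_one]
  rw [h1, Matrix.mul_assoc, h.1, Matrix.mul_one]
  rfl

/-- commuting automorphisms, one of them of order `p ≠ 3`, have commuting matrices -/
theorem IsC.commute (hw : w ^ 2 + w + 1 = 0) (h3 : (3 : E) ≠ 0) {g k : V8 F ≃ₗ[F] V8 F}
    {P P' R R' : Matrix (Fin 3) (Fin 3) E} (hP : IsC i w g P P') (hR : IsC i w k R R') (hc : k * g = g * k) {p : ℕ}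
    (hp : p.Coprime 3) (hkp : k ^ p = 1) : P * R = R * P := by
  have h1 : ∀ z, (P' * R' * P * R) * Phi i w z = Phi i w z * (P' * R' * P * R) := by
    intro z
    have h2 : Phi i w (k (g z)) = Phi i w (g (k z)) := by
      have := congrArg (fun f : V8 F ≃ₗ[F] V8 F => f z) hc
      exact congrArg _ this
    rw [hP.2.2, hR.2.2, hR.2.2, hP.2.2] at h2
    -- R P X P' R' = P R X R' P'
    have h4 : P' * R' * (P * (R * Phi i w z * R') * P') * (P * R) = P' * R' * (R * (P * Phi i w z * P') * R') * (P * R) := by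
      rw [h2]
    have e1 : P' * R' * (P * (R * Phi i w z * R') * P') * (P * R) = P' * R' * P * R * Phi i w z := by
      calc P' * R' * (P * (R * Phi i w z * R') * P') * (P * R)
          = P' * R' * P * R * Phi i w z * (R' * (P' * P) * R) := by simp only [Matrix.mul_assoc]
        _ = _ := by rw [hP.2.1, Matrix.mul_one, hR.2.1, Matrix.mul_one]
    have e2 : P' * R' * (R * (P * Phi i w z * P') * R') * (P * R) = Phi i w z * (P' * R' * P * R) := by
      calc P' * R' * (R * (P * Phi i w z * P') * R') * (P * R)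
          = P' * (R' * R) * P * Phi i w z * (P' * R' * P * R) := by simp only [Matrix.mul_assoc]
        _ = _ := by rw [hR.2.1, Matrix.mul_one, hP.2.1, Matrix.one_mul]
    rw [← e1, h4, e2]
  obtain ⟨l, hl⟩ := _root_.Cfsg.Agent.H989.OkuboRoot.scalar_of_comm i hw h3 h1
  have h5 : P * R = l • (R * P) := by
    calc P * R = R * P * (P' * R' * P * R) := by
          have : R * P * (P' * R' * P * R) = R * (P * P') * R' * (P * R) := by simp only [Matrix.mul_assoc]
          rw [this, hP.1, Matrix.mul_one, hR.1, Matrix.one_mul]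
      _ = l • (R * P) := by rw [hl, mul_smul_comm, Matrix.mul_one]
  -- determinants
  have hdP : P.det ≠ 0 := fun h0 => by
    have := congrArg Matrix.det hP.1
    rw [Matrix.det_mul, h0, zero_mul, Matrix.det_one] at this
    exact zero_ne_one this
  have hdR : R.det ≠ 0 := fun h0 => by
    have := congrArg Matrix.det hR.1
    rw [Matrix.det_mul, h0, zero_mul, Matrix.det_one] at this
    exact zero_ne_one this
  have hl3 : l ^ 3 = 1 := by
    have h6 := congrArg Matrix.det h5
    rw [Matrix.det_mul, Matrix.det_smul, Matrix.det_mul, Fintype.card_fin] at h6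
    have h7 : (l ^ 3 - 1) * (R.det * P.det) = 0 := by linear_combination -h6
    exact sub_eq_zero.1 ((mul_eq_zero.1 h7).resolve_right (mul_ne_zero hdR hdP))
  have hlp : l ^ p = 1 := by
    have h6 : ∀ n : ℕ, P * R ^ n = l ^ n • (R ^ n * P) := by
      intro n
      induction n with
      | zero => rw [pow_zero, pow_zero, one_smul, Matrix.mul_one, Matrix.one_mul]
      | succ n ih =>
        rw [pow_succ, ← Matrix.mul_assoc, ih, smul_mul_assoc, Matrix.mul_assoc, h5, mul_smul_comm, smul_smul, ← pow_succ,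
          ← Matrix.mul_assoc]
    obtain ⟨ν, hν⟩ := (hR.pow p).scalar_of_one hw h3 hkp
    have h7 := h6 p
    rw [hν, mul_smul_comm, Matrix.mul_one, smul_mul_assoc, Matrix.one_mul, smul_smul] at h7
    have hν0 : ν ≠ 0 := by
      rintro rfl
      have h8 := congrArg Matrix.det hν
      rw [zero_smul, Matrix.det_pow, Matrix.det_zero] at h8
      exact pow_ne_zero _ hdR h8
    have h9 := congrArg Matrix.det h7
    have h10 : ν • P = (l ^ p * ν) • P := h7
    have h11 : (ν - l ^ p * ν) • P = 0 := by rw [sub_smul, ← h10, sub_self]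
    have hP0 : P ≠ 0 := fun h0 => hdP (by rw [h0, Matrix.det_zero])
    have h12 := (smul_eq_zero.1 h11).resolve_right hP0
    have h13 : ν * (1 - l ^ p) = 0 := by linear_combination h12
    exact (sub_eq_zero.1 ((mul_eq_zero.1 h13).resolve_left hν0)).symm
  have hl1 : l = 1 := by
    have h6 : orderOf l ∣ 3 := orderOf_dvd_of_pow_eq_one hl3
    have h7 : orderOf l ∣ p := orderOf_dvd_of_pow_eq_one hlp
    have h8 := Nat.dvd_gcd h7 h6
    rw [hp, Nat.dvd_one, orderOf_eq_one_iff] at h8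
    exact h8
  rw [h5, hl1, one_smul]

end okubo

/-- conjugation by `S` -/
theorem cj_mul {E : Type*} [Field E] {S S' A B : Matrix (Fin 3) (Fin 3) E} (h : S * S' = 1) :
    (S' * A * S) * (S' * B * S) = S' * (A * B) * S := by
  calc (S' * A * S) * (S' * B * S) = S' * A * (S * S') * B * S := by simp only [Matrix.mul_assoc]
    _ = _ := by rw [h, Matrix.mul_one]; simp only [Matrix.mul_assoc]

theorem cj_pow {E : Type*} [Field E] {S S' A : Matrix (Fin 3) (Fin 3) E} (h : S * S' = 1) (h' : S' * S = 1) (n : ℕ) :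
    (S' * A * S) ^ n = S' * A ^ n * S := by
  induction n with
  | zero => rw [pow_zero, pow_zero, Matrix.mul_one, h']
  | succ n ih => rw [pow_succ, pow_succ, ih, cj_mul h]

/-- **Box MIX** -/
theorem mixed {F : Type u} [Field F] [Finite F] (h3 : (3 : F) ≠ 0) {g k : V8 F ≃ₗ[F] V8 F} (hg : Ex g) (hk : Ex k)
    {m p : ℕ} (hm : (m : F) ≠ 0) (_hm3 : m.Coprime 3) (hgm : g ^ m = 1) (hg1 : g ≠ 1) (hp : p.Prime)
    (hpF : (p : F) = 0) (hkp : k ^ p = 1) (hk1 : k ≠ 1) (hc : k * g = g * k) :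
    ∃ v : V8 F, g v = v ∧ dia (tauB F) v v = 0 ∧ polar (plusForm 4 F) v (k v) ≠ 0 := by
  let i : F →+* AlgebraicClosure F := algebraMap F (AlgebraicClosure F)
  have h3E : (3 : AlgebraicClosure F) ≠ 0 := by
    intro h0
    apply h3
    apply i.injective
    rw [map_ofNat, map_zero]
    exact h0
  obtain ⟨w, hw⟩ : ∃ w : AlgebraicClosure F, w ^ 2 + w + 1 = 0 := by
    obtain ⟨w, hw⟩ := IsAlgClosed.exists_root
      (Polynomial.X ^ 2 + Polynomial.X + 1 : Polynomial (AlgebraicClosure F)) (by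
        have : (Polynomial.X ^ 2 + Polynomial.X + 1 : Polynomial (AlgebraicClosure F)).degree = 2 := by
          compute_degree!
        rw [this]
        exact two_ne_zero)
    exact ⟨w, by simpa only [_root_.Polynomial.IsRoot.def, _root_.Polynomial.eval_add, _root_.Polynomial.eval_pow, _root_.Polynomial.eval_X, _root_.Polynomial.eval_one] using hw⟩
  have hpE : (p : AlgebraicClosure F) = 0 := by
    have := congrArg i hpF
    rwa [map_natCast, map_zero] at this
  have hp3 : p.Coprime 3 := by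
    rw [Nat.coprime_primes hp Nat.prime_three]
    rintro rfl
    exact h3 (by exact_mod_cast hpF)
  obtain ⟨P, P', hP⟩ := H237.RC.SN.exists_conj i hw h3E hg
  obtain ⟨R, R', hR⟩ := H237.RC.SN.exists_conj i hw h3E hk
  have hP : IsC i w g P P' := hP
  have hR : IsC i w k R R' := hR
  have hPR := IsC.commute hw h3E hP hR hc hp3 hkp
  obtain ⟨ν, hν⟩ := (hR.pow p).scalar_of_one hw h3E hkp
  have hns : ¬ ∃ c : AlgebraicClosure F, P = c • (1 : Matrix (Fin 3) (Fin 3) (AlgebraicClosure F)) := fun h =>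
    hg1 (hP.one_of_scalar hw h3E h)
  have hns' : ¬ ∃ c : AlgebraicClosure F, R = c • (1 : Matrix (Fin 3) (Fin 3) (AlgebraicClosure F)) := fun h =>
    hk1 (hR.one_of_scalar hw h3E h)
  rcases H188.RC.OkSS.semis_P hw h3E hg hm hgm hP.1 hP.2.1 hP.2.2 with ⟨v, v', hv, hv', hvv, hvv', hpol⟩ | hred
  · by_contra hcon
    push Not at hcon
    have t1 := hcon v hv hvv
    have t2 := hcon v' hv' hvv'
    have hV := Phi_sq i hw h3E hvv
    have hW := Phi_sq i hw h3E hvv'
    have hV0 : Phi i w v ≠ 0 := by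
      intro h0
      have h1 : v = 0 := Phi_injective i hw h3E (by rw [h0, Phi_zero])
      rw [h1] at hpol
      simp [QuadraticMap.polar] at hpol
    have hVW : Phi i w v * Phi i w v' * Phi i w v = -Phi i w v := by
      rw [Phi_mul_mul i hw h3E hvv, hpol, map_one, neg_one_smul]
    obtain ⟨S, S', hS, hS', e1, e2⟩ := exists_nf hV hW hVW hV0
    have tr : ∀ X : Matrix (Fin 3) (Fin 3) (AlgebraicClosure F), trace (X * (R * X * R')) = 0 →
        trace ((S' * X * S) * ((S' * R * S) * (S' * X * S) * (S' * R' * S))) = 0 := by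
      intro X hX
      rw [cj_mul hS, cj_mul hS, cj_mul hS, Matrix.trace_mul_comm, ← Matrix.mul_assoc, hS, Matrix.one_mul]
      exact hX
    have T1 : trace (Phi i w v * (R * Phi i w v * R')) = 0 := by
      rw [← hR.2.2, trace_Phi_mul i hw h3E, t1, map_zero, neg_zero]
    have T2 : trace (Phi i w v' * (R * Phi i w v' * R')) = 0 := by
      rw [← hR.2.2, trace_Phi_mul i hw h3E, t2, map_zero, neg_zero]
    have T1' := tr _ T1
    have T2' := tr _ T2
    have c1 := congrArg (fun X => S' * X * S) (hP.comm hv)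
    have c2 := congrArg (fun X => S' * X * S) (hP.comm hv')
    have c3 := congrArg (fun X => S' * X * S) hPR
    have c4 := congrArg (fun X => S' * X * S) hR.1
    have c5 := congrArg (fun X => S' * X * S) hν
    beta_reduce at c1 c2 c3 c4 c5
    rw [← cj_mul hS, ← cj_mul hS, e1] at c1
    rw [← cj_mul hS, ← cj_mul hS, e2] at c2
    rw [← cj_mul hS, ← cj_mul hS] at c3
    rw [← cj_mul hS, Matrix.mul_one, hS'] at c4
    rw [← cj_pow hS hS', mul_smul_comm, smul_mul_assoc, Matrix.mul_one, hS'] at c5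
    rw [e1] at T1'
    rw [e2] at T2'
    obtain ⟨c, hc⟩ := core hp hpE c1 c2 (by
      rintro ⟨c, hc⟩
      apply hns
      refine ⟨c, ?_⟩
      have := congrArg (fun X => S * X * S') hc
      beta_reduce at this
      rw [mul_smul_comm, smul_mul_assoc, Matrix.mul_one, hS] at this
      rw [← this]
      calc P = (S * S') * P * (S * S') := by rw [hS, Matrix.one_mul, Matrix.mul_one]
        _ = _ := by simp only [Matrix.mul_assoc]) c3 c4 c5 T1' T2'
    apply hns'
    refine ⟨c, ?_⟩
    have := congrArg (fun X => S * X * S') hc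
    beta_reduce at this
    rw [mul_smul_comm, smul_mul_assoc, Matrix.mul_one, hS] at this
    rw [← this]
    calc R = (S * S') * R * (S * S') := by rw [hS, Matrix.one_mul, Matrix.mul_one]
      _ = _ := by simp only [Matrix.mul_assoc]
  · exfalso
    obtain ⟨c, hc⟩ := IsAlgClosed.exists_pow_nat_eq ν hp.pos
    have hch : CharP (AlgebraicClosure F) p := by
      obtain ⟨q, hq⟩ := CharP.exists (AlgebraicClosure F)
      have h4 := (CharP.cast_eq_zero_iff (AlgebraicClosure F) q p).1 hpE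
      rcases (Nat.dvd_prime hp).1 h4 with h5 | h5
      · exfalso
        rw [h5] at hq
        have h6 : ((1 : ℕ) : AlgebraicClosure F) = 0 := CharP.cast_eq_zero _ 1
        rw [Nat.cast_one] at h6
        exact one_ne_zero h6
      · rw [h5] at hq; exact hq
    have hpf : Fact p.Prime := ⟨hp⟩
    have hN : (R - c • (1 : Matrix (Fin 3) (Fin 3) (AlgebraicClosure F))) ^ p = 0 := by
      have h4 : Commute R (c • (1 : Matrix (Fin 3) (Fin 3) (AlgebraicClosure F))) := by
        change R * _ = _ * R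
        rw [mul_smul_comm, smul_mul_assoc, Matrix.mul_one, Matrix.one_mul]
      rw [sub_pow_char_of_commute p h4, hν, smul_pow, one_pow, hc, sub_self]
    have hcom : ∀ n : ℕ, (R - c • (1 : Matrix (Fin 3) (Fin 3) (AlgebraicClosure F))) ^ n * P =
        P * (R - c • (1 : Matrix (Fin 3) (Fin 3) (AlgebraicClosure F))) ^ n := by
      intro n
      have h4 : Commute (R - c • (1 : Matrix (Fin 3) (Fin 3) (AlgebraicClosure F))) P := by
        change (R - _) * P = P * (R - _)
        rw [Matrix.sub_mul, Matrix.mul_sub, hPR, smul_mul_assoc, mul_smul_comm, Matrix.one_mul, Matrix.mul_one]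
      exact (h4.pow_left n).eq
    have key : ∀ s : ℕ, (R - c • (1 : Matrix (Fin 3) (Fin 3) (AlgebraicClosure F))) ^ (2 ^ s) = 0 →
        R - c • (1 : Matrix (Fin 3) (Fin 3) (AlgebraicClosure F)) = 0 := by
      intro s
      induction s with
      | zero => intro h; rwa [pow_zero, pow_one] at h
      | succ s ih =>
        intro h
        apply ih
        apply hred _ (hcom _)
        rw [← pow_two, ← pow_mul, ← pow_succ, h]
    have h4 := key p (by
      rw [← Nat.sub_add_cancel (Nat.lt_two_pow_self (n := p)).le, pow_add, hN, Matrix.mul_zero])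
    exact hns' ⟨c, sub_eq_zero.1 h4⟩

end Cfsg.Agent.H202.Tri
end

-- part: H499/RC/Two
section
/-!
# S3510, triality type ii (helper499): box TWO, `q = 2`

Over the field with two elements the Okubo algebra has exactly nine elements `v ≠ 0` with `v ⋄ v = 0`; an automorphism of
order prime to `6` fixes one of them.
-/

set_option autoImplicit false
open Cfsg

namespace Cfsg.Agent.H499.RC

open Module QuadraticMap Cfsg.Agent.LieClassical.OrthCore Cfsg.Agent.LieClassical.OrthTrans
  Cfsg.Agent.LieClassical.OrthSimple Cfsg.Agent.ClassicalGeometry.OrthAut1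
  Cfsg.Agent.ClassicalGeometry.OrthSemi Cfsg.Agent.H198.Classes
  Cfsg.Agent.LieClassical.QuadForms Cfsg.Agent.H198.ClassesPlus
  Cfsg.Agent.ClassicalGeometry.TrialityOct Cfsg.Agent.ClassicalGeometry.Triality
  Cfsg.Agent.ClassicalGeometry.TrialitySpaces Cfsg.Agent.H198.TriBase Cfsg.Agent.H198.TriAut
  Cfsg.Agent.H206.Balance Cfsg.Agent.H198.BalVar Cfsg.Agent.H198.TriDia Cfsg.Agent.H198.TriSpec
  Cfsg.Agent.H198.TriPhi Cfsg.Agent.H442.RC.TriB

universe u

/-- the coordinate equations of `v ⋄ v = 0` -/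
def Z8 {R : Type*} [CommRing R] (v : Fin 4 ⊕ Fin 4 → R) : Prop :=
  v (.inr 0) * v (.inr 0) - (v (.inl 2) * v (.inr 3) + v (.inl 3) * v (.inr 1) + v (.inl 1) * v (.inr 2)) = 0 ∧
  v (.inr 0) * v (.inl 3) + v (.inl 0) * v (.inl 2) + (v (.inr 3) * v (.inr 2) - v (.inr 1) * v (.inr 1)) = 0 ∧
  v (.inr 0) * v (.inl 1) + v (.inl 0) * v (.inl 3) + (v (.inr 1) * v (.inr 3) - v (.inr 2) * v (.inr 2)) = 0 ∧
  v (.inr 0) * v (.inl 2) + v (.inl 0) * v (.inl 1) + (v (.inr 2) * v (.inr 1) - v (.inr 3) * v (.inr 3)) = 0 ∧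
  v (.inl 0) * v (.inl 0) - (v (.inr 2) * v (.inl 3) + v (.inr 3) * v (.inl 1) + v (.inr 1) * v (.inl 2)) = 0 ∧
  v (.inr 0) * v (.inr 2) + v (.inl 0) * v (.inr 3) + (v (.inl 3) * v (.inl 2) - v (.inl 1) * v (.inl 1)) = 0 ∧
  v (.inr 0) * v (.inr 3) + v (.inl 0) * v (.inr 1) + (v (.inl 1) * v (.inl 3) - v (.inl 2) * v (.inl 2)) = 0 ∧
  v (.inr 0) * v (.inr 1) + v (.inl 0) * v (.inr 2) + (v (.inl 2) * v (.inl 1) - v (.inl 3) * v (.inl 3)) = 0

instance (v : Fin 4 ⊕ Fin 4 → ZMod 2) : Decidable (Z8 v) := by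
  unfold Z8
  infer_instance

theorem dia_zero_iff {F : Type u} [Field F] (v : V8 F) : dia (tauB F) v v = 0 ↔ Z8 v := by
  constructor
  · intro h
    have e := fun i => congrFun h i
    refine ⟨?_, ?_, ?_, ?_, ?_, ?_, ?_, ?_⟩
    · have := e (.inl 0); rw [dia_l0, Pi.zero_apply] at this; linear_combination this
    · have := e (.inl 1); rw [dia_l1, Pi.zero_apply] at this; linear_combination -this
    · have := e (.inl 2); rw [dia_l2, Pi.zero_apply] at this; linear_combination -this
    · have := e (.inl 3); rw [dia_l3, Pi.zero_apply] at this; linear_combination -this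
    · have := e (.inr 0); rw [dia_r0, Pi.zero_apply] at this; linear_combination this
    · have := e (.inr 1); rw [dia_r1, Pi.zero_apply] at this; linear_combination -this
    · have := e (.inr 2); rw [dia_r2, Pi.zero_apply] at this; linear_combination -this
    · have := e (.inr 3); rw [dia_r3, Pi.zero_apply] at this; linear_combination -this
  · rintro ⟨h0, h1, h2, h3, k0, k1, k2, k3⟩
    apply ext8
    · rw [dia_l0, Pi.zero_apply]; linear_combination h0
    · rw [dia_l1, Pi.zero_apply]; linear_combination -h1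
    · rw [dia_l2, Pi.zero_apply]; linear_combination -h2
    · rw [dia_l3, Pi.zero_apply]; linear_combination -h3
    · rw [dia_r0, Pi.zero_apply]; linear_combination k0
    · rw [dia_r1, Pi.zero_apply]; linear_combination -k1
    · rw [dia_r2, Pi.zero_apply]; linear_combination -k2
    · rw [dia_r3, Pi.zero_apply]; linear_combination -k3

set_option maxRecDepth 100000 in
theorem card_nine : Fintype.card {v : Fin 4 ⊕ Fin 4 → ZMod 2 // v ≠ 0 ∧ Z8 v} = 9 := by
  decide +kernel

theorem z8_map {F : Type u} [Field F] (e : F ≃+* ZMod 2) (v : V8 F) : Z8 (fun i => e (v i)) ↔ Z8 v := by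
  unfold Z8
  simp only [← map_mul, ← map_add, ← map_sub, EmbeddingLike.map_eq_zero_iff]

/-- a permutation of nine points of order prime to `6` has a fixed point -/
theorem exists_fixed {α : Type*} [Fintype α] [DecidableEq α] (h9 : Fintype.card α = 9) (σ : Equiv.Perm α) {m : ℕ}
    (hm : m.Coprime 6) (hσ : σ ^ m = 1) : ∃ a, σ a = a := by
  by_contra hno
  push Not at hno
  have hsup : σ.support = Finset.univ := by
    ext a
    simp only [hno a, _root_.Equiv.Perm.mem_support, _root_.ne_eq, _root_.not_false_eq_true, _root_.Finset.mem_univ]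
  have hsum : σ.cycleType.sum = 9 := by
    rw [Equiv.Perm.sum_cycleType, hsup, Finset.card_univ, h9]
  have h57 : ∀ n ∈ σ.cycleType, n ≤ 9 → 5 ≤ n ∧ n ≠ 9 ∧ n ≠ 8 ∧ n ≠ 6 := by
    intro n hn hn9
    have h2 := Equiv.Perm.two_le_of_mem_cycleType hn
    have h3 : n ∣ m := (Equiv.Perm.dvd_of_mem_cycleType hn).trans (orderOf_dvd_of_pow_eq_one hσ)
    have h4 : n.Coprime 6 := Nat.Coprime.coprime_dvd_left h3 hm
    interval_cases n <;> revert h4 <;> decide
  obtain ⟨n, hn⟩ : ∃ n, n ∈ σ.cycleType := by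
    apply Multiset.exists_mem_of_ne_zero
    intro h0
    rw [h0, Multiset.sum_zero] at hsum
    omega
  obtain ⟨t, ht⟩ := Multiset.exists_cons_of_mem hn
  have hs : n + t.sum = 9 := by rw [← hsum, ht, Multiset.sum_cons]
  have h5 := h57 n hn (by omega)
  rcases eq_or_ne t 0 with h0 | h0
  · rw [h0, Multiset.sum_zero] at hs
    omega
  · obtain ⟨k, hk⟩ := Multiset.exists_mem_of_ne_zero h0
    have hkt : k ≤ t.sum := Multiset.le_sum_of_mem hk
    have hk' : k ∈ σ.cycleType := by rw [ht]; exact Multiset.mem_cons_of_mem hk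
    have := h57 k hk' (by omega)
    omega

/-- **BOX TWO** -/
theorem two {F : Type u} [Field F] [Finite F] (h2 : Nat.card F = 2) {g : V8 F ≃ₗ[F] V8 F} (hg : Ex g)
    {m : ℕ} (hm : m.Coprime 6) (hgm : g ^ m = 1) : ∃ v : V8 F, v ≠ 0 ∧ g v = v ∧ dia (tauB F) v v = 0 := by
  classical
  have := Fintype.ofFinite F
  have hc : Fintype.card F = 2 := by rw [← Nat.card_eq_fintype_card]; exact h2
  have e : F ≃+* ZMod 2 := (ZMod.ringEquivOfPrime F Nat.prime_two hc).symm
  let D : Type u := {v : V8 F // v ≠ 0 ∧ dia (tauB F) v v = 0}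
  let φ : D ≃ {v : Fin 4 ⊕ Fin 4 → ZMod 2 // v ≠ 0 ∧ Z8 v} :=
    (Equiv.piCongrRight (fun _ : Fin 4 ⊕ Fin 4 => e.toEquiv)).subtypeEquiv fun v => by
      have h1 : (Equiv.piCongrRight (fun _ : Fin 4 ⊕ Fin 4 => e.toEquiv)) v = fun i => e (v i) := rfl
      rw [h1, z8_map e v, dia_zero_iff]
      apply and_congr_left
      intro _
      apply not_congr
      constructor
      · rintro rfl
        funext i
        exact map_zero e
      · intro h
        funext i
        exact (map_eq_zero e).1 (congrFun h i)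
  have h9 : Fintype.card D = 9 := by rw [Fintype.card_congr φ, ← card_nine]
  have hD : ∀ v : V8 F, (v ≠ 0 ∧ dia (tauB F) v v = 0) ↔ (g v ≠ 0 ∧ dia (tauB F) (g v) (g v) = 0) := by
    intro v
    rw [← hg, ne_eq, ne_eq, g.map_eq_zero_iff, g.map_eq_zero_iff]
  let σ : Equiv.Perm D := g.toEquiv.subtypeEquiv hD
  have hσk : ∀ (k : ℕ) (d : D), ((σ ^ k) d : V8 F) = (g ^ k) (d : V8 F) := by
    intro k
    induction k with
    | zero => intro d; rfl
    | succ k ih =>
      intro d
      rw [pow_succ', pow_succ']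
      change g ((σ ^ k) d : V8 F) = g ((g ^ k) (d : V8 F))
      rw [ih]
  have hσ : σ ^ m = 1 := by
    apply Equiv.ext
    intro d
    apply Subtype.ext
    rw [hσk, hgm]
    rfl
  obtain ⟨d, hd⟩ := exists_fixed h9 σ hm hσ
  exact ⟨d.1, d.2.1, congrArg Subtype.val hd, d.2.2⟩

end Cfsg.Agent.H499.RC
end

-- part: H442/RC/TypeII
section
/-!
# S3510, triality of `PΩ₈⁺(q)`, type (ii): `x i₁` induces `xt hG (tauB F)`, `p ≠ 3`
-/

set_option autoImplicit false
set_option linter.unusedSectionVars false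

namespace Cfsg.Agent.H442.RC.TriB

open Module QuadraticMap Cfsg.Agent.LieClassical.OrthCore Cfsg.Agent.LieClassical.OrthTrans
  Cfsg.Agent.LieClassical.OrthSimple Cfsg.Agent.ClassicalGeometry.OrthAut1
  Cfsg.Agent.ClassicalGeometry.OrthSemi Cfsg.Agent.H198.Classes
  Cfsg.Agent.LieClassical.QuadForms Cfsg.Agent.H198.ClassesPlus
  Cfsg.Agent.ClassicalGeometry.TrialityOct Cfsg.Agent.ClassicalGeometry.Triality
  Cfsg.Agent.ClassicalGeometry.TrialitySpaces Cfsg.Agent.H198.TriBase Cfsg.Agent.H198.TriAut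
  Cfsg.Agent.H198.TriDia Cfsg.Agent.H198.TriSpec Cfsg.Agent.H566.RC Cfsg.Agent.AutOrth.SemiSim
  Cfsg.Agent.H106.RC Cfsg.Agent.H93.RC Cfsg.Agent.H989.OkuboRoot

universe u

section alg

variable {F : Type u} [Field F]

/-- the linear exact elements -/
def XLs (F : Type u) [Field F] : Subgroup (G8 F) where
  carrier := {M | IsSS (plusForm 4 F) (RingEquiv.refl F) 1 M.1 ∧ H675.RC.Ex (tauB F) M}
  mul_mem' := by
    rintro A B ⟨hA, hA'⟩ ⟨hB, hB'⟩
    refine ⟨?_, hA'.mul hB'⟩
    have h1 := hA.mul hB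
    rw [map_one, mul_one] at h1
    exact h1
  one_mem' := ⟨⟨one_ne_zero, fun _ _ => rfl, fun _ _ => rfl, fun v => by rw [one_mul]; rfl⟩, H675.RC.Ex.one _⟩
  inv_mem' := by
    rintro A ⟨hA, hA'⟩
    refine ⟨?_, hA'.inv⟩
    have h1 := hA.inv
    rw [inv_one, map_one] at h1
    exact h1

/-- the elements fixing `v` -/
def Sv (v : V8 F) : Subgroup (G8 F) where
  carrier := {M | M.1 v = v}
  mul_mem' := by
    intro A B hA hB
    change A.1 (B.1 v) = v
    rw [show B.1 v = v from hB, show A.1 v = v from hA]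
  one_mem' := rfl
  inv_mem' := by
    intro A hA
    change A.1.symm v = v
    rw [Equiv.symm_apply_eq]
    exact (show A.1 v = v from hA).symm

/-- the linear map -/
def lin {M : G8 F} (h : M ∈ XLs F) : V8 F ≃ₗ[F] V8 F :=
  { M.1 with
    map_add' := h.1.add
    map_smul' := h.1.smul }

theorem lin_apply {M : G8 F} (h : M ∈ XLs F) (x : V8 F) : lin h x = M.1 x := rfl

theorem lin_ex {M : G8 F} (h : M ∈ XLs F) : Ex (lin h) := h.2

theorem lin_pow {M : G8 F} (h : M ∈ XLs F) (n : ℕ) (x : V8 F) : (lin h ^ n) x = (M ^ n).1 x := by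
  induction n generalizing x with
  | zero => rfl
  | succ n ih =>
    rw [pow_succ, pow_succ]
    change (lin h ^ n) (lin h x) = (M ^ n).1 (M.1 x)
    rw [ih, lin_apply]

theorem lin_pow_one {M : G8 F} (h : M ∈ XLs F) {n : ℕ} (hn : M ^ n = 1) : lin h ^ n = 1 := by
  apply LinearEquiv.ext
  intro x
  rw [lin_pow, hn]
  rfl

theorem lin_ne_one {M : G8 F} (h : M ∈ XLs F) (hn : M ≠ 1) : lin h ≠ 1 := by
  intro h1
  apply hn
  apply extG
  intro x
  exact congrArg (fun g : V8 F ≃ₗ[F] V8 F => g x) h1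

/-- a single generator -/
theorem exists_g {κ : Type*} [Finite κ] {M : κ → G8 F} (hM : ∀ j, M j ∈ XLs F) {r : κ → ℕ} (hr : ∀ j, (r j).Prime)
    (hinj : Function.Injective r) (hp : ∀ j, M j ^ r j = 1) (hc : ∀ i j, M i * M j = M j * M i) :
    ∃ s ∈ XLs F, (∃ n : ℕ, s ^ n = 1 ∧ n ≠ 0 ∧ ∀ q : ℕ, q.Prime → q ∣ n → ∃ i, r i = q) ∧
      (∀ i, M i ∈ Subgroup.zpowers s) ∧ s ∈ Subgroup.closure (Set.range M) := by
  obtain ⟨s, hs, hn, h⟩ := H675.RC.exists_single M hc hr hinj hp
  refine ⟨s, (Subgroup.closure_le _).2 ?_ hs, hn, h, hs⟩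
  rintro _ ⟨j, rfl⟩
  exact hM j

theorem fix_of {s M : G8 F} (h : M ∈ Subgroup.zpowers s) {v : V8 F} (hv : s.1 v = v) : M.1 v = v := by
  have h1 : Subgroup.zpowers s ≤ Sv v := by
    rw [Subgroup.zpowers_le]
    exact hv
  exact h1 h

theorem cast_ne {p n : ℕ} [CharP F p] (hp : p.Prime) {κ : Type*} {r : κ → ℕ} (hn : ∀ q : ℕ, q.Prime → q ∣ n → ∃ i, r i = q)
    (h : ∀ i, r i ≠ p) : (n : F) ≠ 0 := by
  intro h0
  obtain ⟨i, hi⟩ := hn p hp ((CharP.cast_eq_zero_iff F p n).1 h0)
  exact h i hi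

theorem cop_three {n : ℕ} {κ : Type*} {r : κ → ℕ} (hn : ∀ q : ℕ, q.Prime → q ∣ n → ∃ i, r i = q)
    (h : ∀ i, r i ≠ 3) : n.Coprime 3 := by
  rw [Nat.coprime_comm, Nat.Prime.coprime_iff_not_dvd Nat.prime_three]
  intro h0
  obtain ⟨i, hi⟩ := hn 3 Nat.prime_three h0
  exact h i hi

end alg

/-- **Type (ii)** -/
theorem type_ii {F : Type} [Field F] [Finite F] {G Ω : Type} [Group G] [Finite G] [MulAction G Ω] [Nonempty Ω]
    {N : Subgroup G} {σ : P8 F →* G} (hG : Good (plusForm 4 F)) (hE : Env G Ω N)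
    (hIH : IH (Nat.card (P (plusForm 4 F)))) {ι : Type} [Finite ι] {x : ι → G} {r : ι → ℕ} (hx : PF x r)
    (hcov : Cov Ω x) {i₁ : ι} {M : ι → G8 F} (fr : H675.RC.Fr hG N x r σ i₁ (tauB F) M) (h3 : (3 : F) ≠ 0)
    (hl : ∀ j, Cfsg.Agent.H198.TriDia.IsLin (M j)) : False := by
  classical
  have hσ := fr.rp
  have hL := fr.la
  have hM := fr.lf
  have hch : CharP F (ringChar F) := ringChar.charP F
  have hpp : (ringChar F).Prime := CharP.char_is_prime F _
  have hr3 : ∀ j, j ≠ i₁ → r j ≠ 3 := fun j hj h => hj (hx.inj (h.trans fr.three.symm))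
  have hp3 : ringChar F ≠ 3 := p_ne_three h3
  have hXL : ∀ j, M j ∈ XLs F := fun j => ⟨ss_of (hl j) (fr.ex j), fr.ex j⟩
  by_cases hU : ∃ i₀, i₀ ≠ i₁ ∧ r i₀ = ringChar F
  · obtain ⟨i₀, h01, hi₀⟩ := hU
    by_cases hex : ∃ j, j ≠ i₁ ∧ j ≠ i₀
    · obtain ⟨j₂, hj₂, hj₂'⟩ := hex
      obtain ⟨s, hs, ⟨n, hsn, -, hn⟩, hsM, hsc⟩ := exists_g (κ := {j : ι // j ≠ i₁ ∧ j ≠ i₀}) (M := fun j => M j)
        (fun j => hXL j) (r := fun j => r j) (fun j => hx.prime j) (fun i j h => Subtype.ext (hx.inj h))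
        (fun j => fr.pow j) (fun i j => fr.comm i j)
      have hrp : ∀ j, j ≠ i₁ → j ≠ i₀ → r j ≠ ringChar F := fun j _ h0 h => h0 (hx.inj (h.trans hi₀.symm))
      have hcs : M i₀ * s = s * M i₀ := by
        have h1 : s ∈ Subgroup.centralizer ({M i₀} : Set (G8 F)) := by
          refine (Subgroup.closure_le _).2 ?_ hsc
          rintro _ ⟨j, rfl⟩
          exact Subgroup.mem_centralizer_singleton_iff.2 (fr.comm j i₀)
        exact (Subgroup.mem_centralizer_singleton_iff.1 h1).symm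
      have hs1 : s ≠ 1 := by
        intro h1
        have h2 := hsM ⟨j₂, hj₂, hj₂'⟩
        rw [h1, Subgroup.zpowers_one_eq_bot, Subgroup.mem_bot] at h2
        exact fr.ne j₂ hj₂ h2
      obtain ⟨v, hv, hvv, hpol⟩ := Cfsg.Agent.H202.Tri.mixed h3 (lin_ex hs) (lin_ex (hXL i₀)) (m := n)
        (p := ringChar F) (cast_ne hpp hn fun i => hrp i i.2.1 i.2.2) (cop_three hn fun i => hr3 i i.2.1)
        (lin_pow_one hs hsn) (lin_ne_one hs hs1) hpp (CharP.cast_eq_zero F _)
        (lin_pow_one (hXL i₀) (by rw [← hi₀]; exact fr.pow i₀)) (lin_ne_one (hXL i₀) (fr.ne i₀ h01))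
        (by
          apply LinearEquiv.ext
          intro z
          exact congrArg (fun X : G8 F => X.1 z) hcs)
      exact kill_three h3 hG hE hσ (p := ringChar F) h01 (fun j _ _ => hx.prime j) (fun j _ _ => hx.pow j)
        (fun j _ _ => hx.ne j) hrp hx.comm hcov hL hM (fun j _ => hl j) (fun j _ => fr.ex j) hvv
        (fun j h1 h0 => fix_of (hsM ⟨j, h1, h0⟩) hv) (fun j _ _ => fr.comm j i₀) hpol
    · push Not at hex
      refine kill_uni h3 hG hE hσ h01 (fun j => ?_) hx.comm hcov hL (hM i₀ h01) (hl i₀) (fr.ex i₀) (fr.ne i₀ h01)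
      by_cases hj : j = i₁
      · exact Or.inl hj
      · exact Or.inr (hex j hj)
  · push Not at hU
    by_cases hex : ∃ j, j ≠ i₁
    swap
    · push Not at hex
      apply hx.ne i₁
      apply hE.single
      intro ω
      obtain ⟨j, hj⟩ := hcov ω
      rwa [hex j] at hj
    obtain ⟨s, hs, ⟨n, hsn, hn0, hn⟩, hsM, -⟩ := exists_g (κ := {j : ι // j ≠ i₁}) (M := fun j => M j)
        (fun j => hXL j) (r := fun j => r j) (fun j => hx.prime j) (fun i j h => Subtype.ext (hx.inj h))
        (fun j => fr.pow j) (fun i j => fr.comm i j)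
    have hn3 : n.Coprime 3 := cop_three hn fun i => hr3 i i.2
    have hnF : (n : F) ≠ 0 := cast_ne hpp hn fun i => hU i i.2
    rcases Cfsg.Agent.H188.RC.OkSS.semis h3 (lin_ex hs) hnF hn3 (lin_pow_one hs hsn) with
      ⟨v, w, hv, hw, hvv, hww, hvw⟩ | ⟨hD, hD'⟩
    · exact kill_one hG hE hσ (p := ringChar F) hp3 (fun j _ => hx.prime j) (fun j _ => hx.pow j)
        (fun j _ => hx.ne j) hU hx.comm hcov H237.RC.TP.au_tauB hL hM (fun j _ => hl j) (fun j _ => fr.ex j)
        ⟨hvv, hww, hvw⟩ (fun j h1 => fix_of (hsM ⟨j, h1⟩) hv) (fun j h1 => fix_of (hsM ⟨j, h1⟩) hw)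
    · have hc1 : 1 < Nat.card F := Finite.one_lt_card
      have hz : ((Nat.card F : ℕ) : F) = 0 := by
        have := Fintype.ofFinite F
        rw [Nat.card_eq_fintype_card]
        exact Nat.cast_card_eq_zero F
      by_cases hc2 : Nat.card F = 2
      · have hchar : ringChar F = 2 := by
          rw [hc2] at hz
          exact (Nat.prime_dvd_prime_iff_eq hpp Nat.prime_two).1 ((CharP.cast_eq_zero_iff F (ringChar F) 2).1 hz)
        have hn2 : n.Coprime 2 := by
          rw [Nat.coprime_comm, Nat.Prime.coprime_iff_not_dvd Nat.prime_two]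
          intro h0
          obtain ⟨i, hi⟩ := hn 2 Nat.prime_two h0
          exact hU i i.2 (by rw [hchar]; exact hi)
        obtain ⟨v, hv0, hv, hvv⟩ := H499.RC.two hc2 (lin_ex hs) (m := n)
          (by rw [show (6 : ℕ) = 2 * 3 from rfl]; exact Nat.Coprime.mul_right hn2 hn3) (lin_pow_one hs hsn)
        exact hv0 (hD v hv hvv)
      · obtain ⟨a, ha, ht⟩ := hD' (by omega)
        have hc3 : Nat.card F ≠ 3 := by
          intro h
          apply h3
          rw [h] at hz
          exact_mod_cast hz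
        obtain ⟨y, z, y', z', k⟩ := H237.RC.TP.pair H237.RC.TP.au_tauB (by omega) ht
        have haj : ∀ j, j ≠ i₁ → (M j).1 a = a := fun j h1 => fix_of (hsM ⟨j, h1⟩) ha
        have hfix : ∀ (c d : F) j, j ≠ i₁ → (M j).1 (c • a + d • dia (tauB F) a a) = c • a + d • dia (tauB F) a a := by
          intro c d j h1
          have e : (M j).1 (dia (tauB F) a a) = dia (tauB F) ((M j).1 a) ((M j).1 a) := fr.ex j a a
          rw [(hXL j).1.add, ss_smul (hXL j).1, ss_smul (hXL j).1, e, haj j h1]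
        exact Cfsg.Agent.H566.RC.kill hG hE hσ (p := ringChar F) (fun j _ => hx.prime j) (fun j _ => hx.pow j)
          (fun j _ => hx.ne j) hx.comm hcov H237.RC.TP.au_tauB hL hM (fun j _ => hl j) (fun j _ => fr.ex j) k
          (hfix _ _) (hfix _ _) (fun i j _ _ h => hx.inj h) (fun j h1 h => absurd h (hr3 j h1)) hex
          (Cfsg.Agent.H566.RC.rc_W hG H237.RC.TP.au_tauB k hIH)

end Cfsg.Agent.H442.RC.TriB
end

private theorem dce_e74875d784f8 : _root_.True := by
  try have : _root_.True := by simp only [_root_.Cfsg.Agent.H237.RC.SN.bc.eq_1]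
  try have : _root_.True := by simp only [_root_.Cfsg.Agent.H237.RC.SN.ex.congr_simp]
  try have : _root_.True := by simp only [_root_.Cfsg.Agent.H188.RC.OkSS.Psi.eq_1]
  exact _root_.True.intro
end

-- part: H188/RC/InvFin
section
prune_inst 0x1540010004400200000080063020002020000420000004008c220444000080024d80084019002116128080010009000010000020024000000400040000180000008002062040a00002009e000000000000000000000000000000000000000000000000000
set_option linter.all false
open scoped Cfsg.Agent.FastGrp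

-- part: H188/RC/InvSL
section
/-!
# S3510, type iii, box INV (C), part 1: the octonion automorphisms which are trivial on `H0` are an `SL₂(F)` (helper188)
-/

set_option autoImplicit false
open Cfsg

namespace Cfsg.Agent.H188.RC.Inv

open Module QuadraticMap Cfsg.Agent.LieClassical.OrthCore Cfsg.Agent.LieClassical.OrthTrans
  Cfsg.Agent.ClassicalGeometry.OrthSemi Cfsg.Agent.LieClassical.QuadForms
  Cfsg.Agent.ClassicalGeometry.TrialityOct Cfsg.Agent.ClassicalGeometry.Triality
  Cfsg.Agent.H198.TriBase Cfsg.Agent.H752.SemiNormal Cfsg.Agent.H198.TriDia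
open Cfsg.Agent.LieClassical.SLTwoUnipotent (u l eq_top_of_u_mem_of_l_mem)
open Matrix (SpecialLinearGroup)
open Cfsg.Agent.UGT.U2.FOne.Orth (Four)
open Cfsg.Agent.H188.RC.IDNormal

variable {F : Type} [Field F]

/-- the standard frame -/
theorem four (F : Type) [Field F] :
    Four (plusForm 4 F) (bs (.inl 2)) (bs (.inr 2)) (bs (.inl 3)) (bs (.inr 3)) := by
  refine ⟨⟨?_, ?_, ?_⟩, ⟨?_, ?_, ?_⟩, ?_, ?_, ?_, ?_⟩ <;> simp [norm8, polar8, bs]

section coords

variable (X : _root_.Matrix.SpecialLinearGroup (Fin 2) F) (v : V8 F)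

theorem rho_l0 : (four F).rho X v (.inl 0) = v (.inl 0) := by
  rw [Four.rho_apply]; simp only [Four.phi, polar8, bs, _root_.Fin.isValue, _root_.ne_eq, _root_.reduceCtorEq, _root_.not_false_eq_true, _root_.Pi.single_eq_of_ne, _root_.MulZeroClass.zero_mul, _root_.Sum.inr.injEq, _root_.Fin.reduceEq, _root_.MulZeroClass.mul_zero, _root_.add_zero, _root_.Pi.single_eq_same, _root_.mul_one, _root_.zero_add, _root_.Sum.inl.injEq, _root_.one_mul, _root_.neg_mul, _root_.Pi.add_apply, _root_.Pi.smul_apply, _root_.smul_eq_mul]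
theorem rho_l1 : (four F).rho X v (.inl 1) = v (.inl 1) := by
  rw [Four.rho_apply]; simp only [Four.phi, polar8, bs, _root_.Fin.isValue, _root_.ne_eq, _root_.reduceCtorEq, _root_.not_false_eq_true, _root_.Pi.single_eq_of_ne, _root_.MulZeroClass.zero_mul, _root_.Sum.inr.injEq, _root_.Fin.reduceEq, _root_.MulZeroClass.mul_zero, _root_.add_zero, _root_.Pi.single_eq_same, _root_.mul_one, _root_.zero_add, _root_.Sum.inl.injEq, _root_.one_mul, _root_.neg_mul, _root_.Pi.add_apply, _root_.Pi.smul_apply, _root_.smul_eq_mul]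
theorem rho_r0 : (four F).rho X v (.inr 0) = v (.inr 0) := by
  rw [Four.rho_apply]; simp only [Four.phi, polar8, bs, _root_.Fin.isValue, _root_.ne_eq, _root_.reduceCtorEq, _root_.not_false_eq_true, _root_.Pi.single_eq_of_ne, _root_.MulZeroClass.zero_mul, _root_.Sum.inr.injEq, _root_.Fin.reduceEq, _root_.MulZeroClass.mul_zero, _root_.add_zero, _root_.Pi.single_eq_same, _root_.mul_one, _root_.zero_add, _root_.Sum.inl.injEq, _root_.one_mul, _root_.neg_mul, _root_.Pi.add_apply, _root_.Pi.smul_apply, _root_.smul_eq_mul]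
theorem rho_r1 : (four F).rho X v (.inr 1) = v (.inr 1) := by
  rw [Four.rho_apply]; simp only [Four.phi, polar8, bs, _root_.Fin.isValue, _root_.ne_eq, _root_.reduceCtorEq, _root_.not_false_eq_true, _root_.Pi.single_eq_of_ne, _root_.MulZeroClass.zero_mul, _root_.Sum.inr.injEq, _root_.Fin.reduceEq, _root_.MulZeroClass.mul_zero, _root_.add_zero, _root_.Pi.single_eq_same, _root_.mul_one, _root_.zero_add, _root_.Sum.inl.injEq, _root_.one_mul, _root_.neg_mul, _root_.Pi.add_apply, _root_.Pi.smul_apply, _root_.smul_eq_mul]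
theorem rho_l2 : (four F).rho X v (.inl 2) = X.1 0 0 * v (.inl 2) + X.1 0 1 * v (.inl 3) := by
  rw [Four.rho_apply]; simp only [Four.phi, polar8, bs, _root_.Fin.isValue, _root_.ne_eq, _root_.reduceCtorEq, _root_.not_false_eq_true, _root_.Pi.single_eq_of_ne, _root_.MulZeroClass.zero_mul, _root_.Sum.inr.injEq, _root_.Fin.reduceEq, _root_.MulZeroClass.mul_zero, _root_.add_zero, _root_.Pi.single_eq_same, _root_.mul_one, _root_.zero_add, _root_.Sum.inl.injEq, _root_.one_mul, _root_.neg_mul, _root_.Pi.add_apply, _root_.Pi.smul_apply, _root_.smul_eq_mul]; ring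
theorem rho_l3 : (four F).rho X v (.inl 3) = X.1 1 0 * v (.inl 2) + X.1 1 1 * v (.inl 3) := by
  rw [Four.rho_apply]; simp only [Four.phi, polar8, bs, _root_.Fin.isValue, _root_.ne_eq, _root_.reduceCtorEq, _root_.not_false_eq_true, _root_.Pi.single_eq_of_ne, _root_.MulZeroClass.zero_mul, _root_.Sum.inr.injEq, _root_.Fin.reduceEq, _root_.MulZeroClass.mul_zero, _root_.add_zero, _root_.Pi.single_eq_same, _root_.mul_one, _root_.zero_add, _root_.Sum.inl.injEq, _root_.one_mul, _root_.neg_mul, _root_.Pi.add_apply, _root_.Pi.smul_apply, _root_.smul_eq_mul]; ring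
theorem rho_r2 : (four F).rho X v (.inr 2) = X.1 1 1 * v (.inr 2) - X.1 1 0 * v (.inr 3) := by
  rw [Four.rho_apply]; simp only [Four.phi, polar8, bs, _root_.Fin.isValue, _root_.ne_eq, _root_.reduceCtorEq, _root_.not_false_eq_true, _root_.Pi.single_eq_of_ne, _root_.MulZeroClass.zero_mul, _root_.Sum.inr.injEq, _root_.Fin.reduceEq, _root_.MulZeroClass.mul_zero, _root_.add_zero, _root_.Pi.single_eq_same, _root_.mul_one, _root_.zero_add, _root_.Sum.inl.injEq, _root_.one_mul, _root_.neg_mul, _root_.Pi.add_apply, _root_.Pi.smul_apply, _root_.smul_eq_mul]; ring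
theorem rho_r3 : (four F).rho X v (.inr 3) = -X.1 0 1 * v (.inr 2) + X.1 0 0 * v (.inr 3) := by
  rw [Four.rho_apply]; simp only [Four.phi, polar8, bs, _root_.Fin.isValue, _root_.ne_eq, _root_.reduceCtorEq, _root_.not_false_eq_true, _root_.Pi.single_eq_of_ne, _root_.MulZeroClass.zero_mul, _root_.Sum.inr.injEq, _root_.Fin.reduceEq, _root_.MulZeroClass.mul_zero, _root_.add_zero, _root_.Pi.single_eq_same, _root_.mul_one, _root_.zero_add, _root_.Sum.inl.injEq, _root_.one_mul, _root_.neg_mul, _root_.Pi.add_apply, _root_.Pi.smul_apply, _root_.smul_eq_mul]; ring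

end coords

/-- trivial on `H0` -/
theorem rho_fix (X : _root_.Matrix.SpecialLinearGroup (Fin 2) F) {v : V8 F} (hv : v ∈ H237.RC.ID.H0 F) : (four F).rho X v = v := by
  obtain ⟨h1, h2, h3, h4⟩ := hv
  apply ext8
  · exact rho_l0 X v
  · exact rho_l1 X v
  · rw [rho_l2, h1, h2]; ring
  · rw [rho_l3, h1, h2]; ring
  · exact rho_r0 X v
  · exact rho_r1 X v
  · rw [rho_r2, h3, h4]; ring
  · rw [rho_r3, h3, h4]; ring

/-- automorphisms -/
theorem rho_omul (X : _root_.Matrix.SpecialLinearGroup (Fin 2) F) (x y : V8 F) :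
    (four F).rho X (omul x y) = omul ((four F).rho X x) ((four F).rho X y) := by
  have hd : X.1 0 0 * X.1 1 1 - X.1 0 1 * X.1 1 0 = 1 := by
    have := X.2
    rwa [Matrix.det_fin_two] at this
  apply ext8 <;>
    simp only [rho_l0, rho_l1, rho_l2, rho_l3, rho_r0, rho_r1, rho_r2, rho_r3,
      omul_l0, omul_l1, omul_l2, omul_l3, omul_r0, omul_r1, omul_r2, omul_r3]
  · linear_combination (x (.inl 2) * y (.inr 2) + x (.inl 3) * y (.inr 3)) * hd
  · linear_combination (x (.inr 2) * y (.inr 3) - x (.inr 3) * y (.inr 2)) * hd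
  · ring
  · ring
  · linear_combination (x (.inr 2) * y (.inl 2) + x (.inr 3) * y (.inl 3)) * hd
  · linear_combination (x (.inl 2) * y (.inl 3) - x (.inl 3) * y (.inl 2)) * hd
  · ring
  · ring

/-- the converse -/
theorem exists_rho {m : V8 F ≃ₗ[F] V8 F} (hm : ∀ v, plusForm 4 F (m v) = plusForm 4 F v)
    (hmul : ∀ x y, m (omul x y) = omul (m x) (m y)) (hfix : ∀ v ∈ H237.RC.ID.H0 F, m v = v) :
    ∃ X : _root_.Matrix.SpecialLinearGroup (Fin 2) F, m = (four F).rho X := by
  have hpol : ∀ v w, polar (plusForm 4 F) (m v) (m w) = polar (plusForm 4 F) v w := by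
    intro v w
    simp only [polar, ← map_add, hm]
  have fl0 : m (bs (.inl 0)) = bs (.inl 0) := hfix _ ⟨rfl, rfl, rfl, rfl⟩
  have fl1 : m (bs (.inl 1)) = bs (.inl 1) := hfix _ ⟨rfl, rfl, rfl, rfl⟩
  have fr0 : m (bs (.inr 0)) = bs (.inr 0) := hfix _ ⟨rfl, rfl, rfl, rfl⟩
  have fr1 : m (bs (.inr 1)) = bs (.inr 1) := hfix _ ⟨rfl, rfl, rfl, rfl⟩
  -- the image of `l₂`, `l₃`
  have key : ∀ k : Fin 4, k = 2 ∨ k = 3 → m (bs (.inl k)) (.inl 0) = 0 ∧ m (bs (.inl k)) (.inl 1) = 0 ∧
      m (bs (.inl k)) (.inr 0) = 0 ∧ m (bs (.inl k)) (.inr 1) = 0 ∧ m (bs (.inl k)) (.inr 2) = 0 ∧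
      m (bs (.inl k)) (.inr 3) = 0 := by
    intro k hk
    have e1 : omul (bs (.inl 0)) (bs (.inl k)) = (bs (.inl k) : V8 F) := by
      rcases hk with rfl | rfl <;>
      · apply ext8 <;> simp [omul_l0, omul_l1, omul_l2, omul_l3, omul_r0, omul_r1, omul_r2, omul_r3, bs]
    have e2 : omul (bs (.inl k)) (bs (.inl 0)) = (0 : V8 F) := by
      rcases hk with rfl | rfl <;>
      · apply ext8 <;> simp [omul_l0, omul_l1, omul_l2, omul_l3, omul_r0, omul_r1, omul_r2, omul_r3, bs]
    have e3 : polar (plusForm 4 F) (bs (.inl k)) (bs (.inr 1)) = 0 := by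
      rcases hk with rfl | rfl <;> simp [polar8, bs]
    have g1 := hmul (bs (.inl 0)) (bs (.inl k))
    rw [e1, fl0] at g1
    have g2 := hmul (bs (.inl k)) (bs (.inl 0))
    rw [e2, fl0, map_zero] at g2
    have g3 := hpol (bs (.inl k)) (bs (.inr 1))
    rw [e3, fr1] at g3
    refine ⟨?_, ?_, ?_, ?_, ?_, ?_⟩
    · have := congrFun g2 (.inl 0)
      simpa [omul_l0, bs] using this.symm
    · simpa [polar8, bs] using g3
    · have := congrFun g1 (.inr 0)
      simpa [omul_r0, bs] using this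
    · have := congrFun g1 (.inr 1)
      simpa [omul_r1, bs] using this
    · have := congrFun g1 (.inr 2)
      simpa [omul_r2, bs] using this
    · have := congrFun g1 (.inr 3)
      simpa [omul_r3, bs] using this
  obtain ⟨a1, a2, a3, a4, a5, a6⟩ := key 2 (Or.inl rfl)
  obtain ⟨b1, b2, b3, b4, b5, b6⟩ := key 3 (Or.inr rfl)
  -- determinant
  have hdet : m (bs (.inl 2)) (.inl 2) * m (bs (.inl 3)) (.inl 3) - m (bs (.inl 3)) (.inl 2) * m (bs (.inl 2)) (.inl 3) = 1 := by
    have e1 : omul (bs (.inl 2)) (bs (.inl 3)) = (-bs (.inr 1) : V8 F) := by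
      apply ext8 <;> simp [omul_l0, omul_l1, omul_l2, omul_l3, omul_r0, omul_r1, omul_r2, omul_r3, bs]
    have g1 := hmul (bs (.inl 2)) (bs (.inl 3))
    rw [e1, map_neg, fr1] at g1
    have g2 := congrFun g1 (.inr 1)
    rw [omul_r1, a4, b4] at g2
    simp [bs] at g2
    linear_combination g2
  let X : _root_.Matrix.SpecialLinearGroup (Fin 2) F := ⟨!![m (bs (.inl 2)) (.inl 2), m (bs (.inl 3)) (.inl 2);
    m (bs (.inl 2)) (.inl 3), m (bs (.inl 3)) (.inl 3)], by rw [Matrix.det_fin_two_of]; exact hdet⟩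
  have x00 : X.1 0 0 = m (bs (.inl 2)) (.inl 2) := rfl
  have x01 : X.1 0 1 = m (bs (.inl 3)) (.inl 2) := rfl
  have x10 : X.1 1 0 = m (bs (.inl 2)) (.inl 3) := rfl
  have x11 : X.1 1 1 = m (bs (.inl 3)) (.inl 3) := rfl
  refine ⟨X, ?_⟩
  have hl2 : m (bs (.inl 2)) = (four F).rho X (bs (.inl 2)) := by
    apply ext8 <;> simp only [rho_l0, rho_l1, rho_l2, rho_l3, rho_r0, rho_r1, rho_r2, rho_r3, a1, a2, a3, a4, a5, a6,
      x00, x01, x10, x11] <;> simp [bs]
  have hl3 : m (bs (.inl 3)) = (four F).rho X (bs (.inl 3)) := by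
    apply ext8 <;> simp only [rho_l0, rho_l1, rho_l2, rho_l3, rho_r0, rho_r1, rho_r2, rho_r3, b1, b2, b3, b4, b5, b6,
      x00, x01, x10, x11] <;> simp [bs]
  have hl1 : m (bs (.inl 1)) = (four F).rho X (bs (.inl 1)) := by
    rw [fl1, rho_fix X ⟨rfl, rfl, rfl, rfl⟩]
  have hr3 : m (bs (.inr 3)) = (four F).rho X (bs (.inr 3)) := by
    have e1 : (bs (.inr 3) : V8 F) = -omul (bs (.inl 1)) (bs (.inl 2)) := by
      apply ext8 <;> simp [omul_l0, omul_l1, omul_l2, omul_l3, omul_r0, omul_r1, omul_r2, omul_r3, bs]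
    have e2 : m (-omul (bs (.inl 1)) (bs (.inl 2))) = (four F).rho X (-omul (bs (.inl 1)) (bs (.inl 2))) := by
      rw [map_neg, map_neg, hmul, rho_omul, hl1, hl2]
    exact (congrArg m e1).trans (e2.trans (congrArg ((four F).rho X) e1).symm)
  have hr2 : m (bs (.inr 2)) = (four F).rho X (bs (.inr 2)) := by
    have e1 : (bs (.inr 2) : V8 F) = omul (bs (.inl 1)) (bs (.inl 3)) := by
      apply ext8 <;> simp [omul_l0, omul_l1, omul_l2, omul_l3, omul_r0, omul_r1, omul_r2, omul_r3, bs]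
    have e2 : m (omul (bs (.inl 1)) (bs (.inl 3))) = (four F).rho X (omul (bs (.inl 1)) (bs (.inl 3))) := by
      rw [hmul, rho_omul, hl1, hl3]
    exact (congrArg m e1).trans (e2.trans (congrArg ((four F).rho X) e1).symm)
  have hl0 : m (bs (.inl 0)) = (four F).rho X (bs (.inl 0)) := by
    rw [fl0, rho_fix X ⟨rfl, rfl, rfl, rfl⟩]
  have hr0 : m (bs (.inr 0)) = (four F).rho X (bs (.inr 0)) := by
    rw [fr0, rho_fix X ⟨rfl, rfl, rfl, rfl⟩]
  have hr1 : m (bs (.inr 1)) = (four F).rho X (bs (.inr 1)) := by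
    rw [fr1, rho_fix X ⟨rfl, rfl, rfl, rfl⟩]
  apply LinearEquiv.ext
  intro v
  rw [decomp v]
  simp only [map_add, map_smul, hl0, hl1, hl2, hl3, hr0, hr1, hr2, hr3]

end Cfsg.Agent.H188.RC.Inv
end

-- part: H188/RC/InvA
section
/-!
# S3510, type iii, box INV (C), part 2: an involution of the twisted product fixing the unit (helper188)

`aut_of_tw` : a triple for the twisted product fixing the unit comes from an octonion automorphism;
`exists_phi` : `Fix t` is moved to `H0` by an octonion automorphism.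
-/

set_option autoImplicit false
open Cfsg

namespace Cfsg.Agent.H188.RC.Inv

open Module QuadraticMap Cfsg.Agent.LieClassical.OrthCore Cfsg.Agent.LieClassical.OrthTrans
  Cfsg.Agent.ClassicalGeometry.OrthSemi Cfsg.Agent.LieClassical.QuadForms
  Cfsg.Agent.ClassicalGeometry.TrialityOct Cfsg.Agent.ClassicalGeometry.Triality
  Cfsg.Agent.H198.TriBase Cfsg.Agent.H752.SemiNormal Cfsg.Agent.H198.TriDia
open Cfsg.Agent.H188.RC.IDNormal Cfsg.Agent.H195.RC

variable {F : Type} [Field F]

/-- a linear isometry fixing the unit commutes with conjugation -/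
theorem conj_comm {m : V8 F → V8 F} (hadd : ∀ x y, m (x - y) = m x - m y) (hsmul : ∀ (c : F) x, m (c • x) = c • m x)
    (hp : ∀ x, polar (plusForm 4 F) (m x) (one8 F) = polar (plusForm 4 F) x (one8 F)) (h1 : m (one8 F) = one8 F)
    (x : V8 F) : m (oconj x) = oconj (m x) := by
  rw [oconj_eq, oconj_eq, hadd, hsmul, h1, hp]

theorem tw_one_right {φ : F ≃+* F} (h : ∀ a, φ (φ (φ a)) = a) (u : V8 F) :
    tw φ u (one8 F) = oconj (cf φ (cf φ u)) := by
  have h1 : cf φ (one8 F) = one8 F := by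
    funext i
    rcases i with i | i <;> (revert i; simp only [cf, one8, _root_.Fin.forall_fin_succ, _root_.Sum.elim_inl, Fin.isValue, _root_.Matrix.cons_val_zero, _root_.map_one, _root_.Matrix.cons_val_succ, _root_.map_zero, _root_.Matrix.cons_val_fin_one, _root_.implies_true, _root_.and_self, _root_.Sum.elim_inr])
  rw [tw_eq h, h1, oconj_one8, omul_one]

theorem tw_one_left {φ : F ≃+* F} (h : ∀ a, φ (φ (φ a)) = a) (u : V8 F) :
    tw φ (one8 F) u = oconj (cf φ u) := by
  have h1 : cf φ (one8 F) = one8 F := by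
    funext i
    rcases i with i | i <;> (revert i; simp only [cf, one8, _root_.Fin.forall_fin_succ, _root_.Sum.elim_inl, Fin.isValue, _root_.Matrix.cons_val_zero, _root_.map_one, _root_.Matrix.cons_val_succ, _root_.map_zero, _root_.Matrix.cons_val_fin_one, _root_.implies_true, _root_.and_self, _root_.Sum.elim_inr])
  rw [tw_eq h, h1, h1, oconj_one8, one_omul]

theorem oconj_inj {x y : V8 F} (h : oconj x = oconj y) : x = y := by
  rw [← oconj_oconj x, h, oconj_oconj]

/-- **triples fixing the unit** -/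
theorem aut_of_tw {φ : F ≃+* F} (h : ∀ a, φ (φ (φ a)) = a) {n n' n'' : V8 F → V8 F}
    (hn : ∀ u w, n (tw φ u w) = tw φ (n' u) (n'' w)) (h1' : n' (one8 F) = one8 F) (h1'' : n'' (one8 F) = one8 F)
    (hc : ∀ x, n (oconj x) = oconj (n x)) :
    (∀ u, n (cf φ (cf φ u)) = cf φ (cf φ (n' u))) ∧ (∀ u, n (cf φ u) = cf φ (n'' u)) ∧
      ∀ x y, n (omul x y) = omul (n x) (n y) := by
  have e1 : ∀ u, n (cf φ (cf φ u)) = cf φ (cf φ (n' u)) := by
    intro u
    have := hn u (one8 F)
    rw [h1'', tw_one_right h, tw_one_right h, hc] at this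
    exact oconj_inj this
  have e2 : ∀ u, n (cf φ u) = cf φ (n'' u) := by
    intro u
    have := hn (one8 F) u
    rw [h1', tw_one_left h, tw_one_left h, hc] at this
    exact oconj_inj this
  refine ⟨e1, e2, fun x y => ?_⟩
  have e3 := hn (cf φ (oconj x)) (cf φ (cf φ (oconj y)))
  rw [tw_eq h, tw_eq h, cf3 h, cf3 h, oconj_oconj, oconj_oconj, ← e1, ← e2, cf3 h, cf3 h, hc, hc, oconj_oconj,
    oconj_oconj] at e3
  exact e3

/-- octonion automorphisms give triples of the twisted product -/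
theorem tw_of_aut {φ : F ≃+* F} (h : ∀ a, φ (φ (φ a)) = a) {m : V8 F → V8 F}
    (hm : ∀ x y, m (omul x y) = omul (m x) (m y)) (hc : ∀ x, m (oconj x) = oconj (m x)) (u w : V8 F) :
    m (tw φ u w) = tw φ (cf φ (m (cf φ (cf φ u)))) (cf φ (cf φ (m (cf φ w)))) := by
  rw [tw_eq h, tw_eq h, cf3 h, cf3 h, hm, hc, hc]

/-! ### The fixed space of an involution -/

section inv

variable {t : V8 F ≃ₗ[F] V8 F}

/-- the fixed space -/
def Fx (t : V8 F ≃ₗ[F] V8 F) : Submodule F (V8 F) where
  carrier := {v | t v = v}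
  add_mem' := by
    intro x y hx hy
    change t (x + y) = x + y
    rw [map_add, show t x = x from hx, show t y = y from hy]
  zero_mem' := map_zero t
  smul_mem' := by
    intro c x hx
    change t (c • x) = c • x
    rw [map_smul, show t x = x from hx]

theorem mem_Fx {v : V8 F} : v ∈ Fx t ↔ t v = v := Iff.rfl

/-- the `-1`-space -/
def Mx (t : V8 F ≃ₗ[F] V8 F) : Submodule F (V8 F) where
  carrier := {v | t v = -v}
  add_mem' := by
    intro x y hx hy
    change t (x + y) = -(x + y)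
    rw [map_add, show t x = -x from hx, show t y = -y from hy]; abel
  zero_mem' := by
    change t 0 = -0
    rw [map_zero, neg_zero]
  smul_mem' := by
    intro c x hx
    change t (c • x) = -(c • x)
    rw [map_smul, show t x = -x from hx, smul_neg]

theorem polar_t (hiso : ∀ v, plusForm 4 F (t v) = plusForm 4 F v) (x y : V8 F) :
    polar (plusForm 4 F) (t x) (t y) = polar (plusForm 4 F) x y := by
  simp only [polar, ← map_add, hiso]

theorem half (h2 : (2 : F) ≠ 0) (v : V8 F) : v = (2 : F)⁻¹ • (v + t v) + (2 : F)⁻¹ • (v - t v) := by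
  rw [← smul_add, add_add_sub_cancel, ← two_smul F v, smul_smul, inv_mul_cancel₀ h2, one_smul]

theorem plus_mem (ht : ∀ v, t (t v) = v) (v : V8 F) : v + t v ∈ Fx t := by
  rw [mem_Fx, map_add, ht, add_comm]

theorem minus_mem (ht : ∀ v, t (t v) = v) (v : V8 F) : v - t v ∈ Mx t := by
  change t (v - t v) = -(v - t v)
  rw [map_sub, ht, neg_sub]

theorem perp (h2 : (2 : F) ≠ 0) (hiso : ∀ v, plusForm 4 F (t v) = plusForm 4 F v) {x y : V8 F} (hx : x ∈ Fx t)
    (hy : y ∈ Mx t) : polar (plusForm 4 F) x y = 0 := by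
  have h1 := polar_t hiso x y
  rw [show t x = x from hx, show t y = -y from hy] at h1
  have h3 : polar (plusForm 4 F) x (-y) = -polar (plusForm 4 F) x y := by
    simp only [polar8, Pi.neg_apply]; ring
  rw [h3] at h1
  have h4 : 2 * polar (plusForm 4 F) x y = 0 := by linear_combination -h1
  exact (mul_eq_zero.1 h4).resolve_left h2

theorem nondeg_Fx (h2 : (2 : F) ≠ 0) (ht : ∀ v, t (t v) = v) (hiso : ∀ v, plusForm 4 F (t v) = plusForm 4 F v)
    {x : V8 F} (hx : x ∈ Fx t) (h : ∀ y ∈ Fx t, polar (plusForm 4 F) x y = 0) : x = 0 := by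
  apply eq_zero_of_pol
  intro v
  rw [half (t := t) h2 v, pol_add_right, pol_smul_right, pol_smul_right, h _ (plus_mem ht v),
    perp h2 hiso hx (minus_mem ht v)]
  ring

theorem nondeg_Mx (h2 : (2 : F) ≠ 0) (ht : ∀ v, t (t v) = v) (hiso : ∀ v, plusForm 4 F (t v) = plusForm 4 F v)
    {x : V8 F} (hx : x ∈ Mx t) (h : ∀ y ∈ Mx t, polar (plusForm 4 F) x y = 0) : x = 0 := by
  apply eq_zero_of_pol
  intro v
  rw [half (t := t) h2 v, pol_add_right, pol_smul_right, pol_smul_right, h _ (minus_mem ht v), pol_symm x (v + t v),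
    perp h2 hiso (plus_mem ht v) hx]
  ring

theorem compl (h2 : (2 : F) ≠ 0) (ht : ∀ v, t (t v) = v) : IsCompl (Fx t) (Mx t) := by
  constructor
  · rw [Submodule.disjoint_def]
    intro x hx hy
    have h1 : x = -x := (show t x = x from hx).symm.trans hy
    have h3 : (2 : F) • x = 0 := by
      rw [two_smul]
      nth_rw 2 [h1]
      exact add_neg_cancel x
    exact (smul_eq_zero.1 h3).resolve_left h2
  · rw [codisjoint_iff, eq_top_iff]
    intro v _
    rw [half (t := t) h2 v]
    exact Submodule.add_mem_sup (Submodule.smul_mem _ _ (plus_mem ht v)) (Submodule.smul_mem _ _ (minus_mem ht v))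

/-- the fixed space of an involutive octonion automorphism has dimension four -/
theorem finrank_Fx (h2 : (2 : F) ≠ 0) (ht : ∀ v, t (t v) = v) (hiso : ∀ v, plusForm 4 F (t v) = plusForm 4 F v)
    (hmul : ∀ x y, t (omul x y) = omul (t x) (t y)) (hne : t ≠ 1) : finrank F (Fx t) = 4 := by
  -- a nonsingular vector of the `-1`-space
  obtain ⟨v, hv, hQ⟩ : ∃ v ∈ Mx t, plusForm 4 F v ≠ 0 := by
    by_contra hcon
    push Not at hcon
    apply hne
    apply LinearEquiv.ext
    intro v
    have h0 : v - t v = 0 := by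
      apply nondeg_Mx h2 ht hiso (minus_mem ht v)
      intro y hy
      have h3 : plusForm 4 F (v - t v + y) = plusForm 4 F (v - t v) + plusForm 4 F y + polar (plusForm 4 F) (v - t v) y := by
        rw [polar]; ring
      rw [hcon _ ((Mx t).add_mem (minus_mem ht v) hy), hcon _ (minus_mem ht v), hcon _ hy] at h3
      linear_combination -h3
    exact (sub_eq_zero.1 h0).symm
  have inj : ∀ x, omul v x = 0 → x = 0 := by
    intro x hx
    have h3 := oconj_omul_omul v x
    rw [hx] at h3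
    have h4 : omul (oconj v) (0 : V8 F) = 0 := by
      have := omul_smul (0 : F) (oconj v) (0 : V8 F)
      rwa [zero_smul, zero_smul] at this
    rw [h4] at h3
    exact (smul_eq_zero.1 h3.symm).resolve_left hQ
  have htv : t v = -v := hv
  let f : Fx t →ₗ[F] Mx t :=
    { toFun := fun x => ⟨omul v x.1, by
        change t (omul v x.1) = -omul v x.1
        rw [hmul, htv, show t x.1 = x.1 from x.2, ← neg_one_smul F v, smul_omul, neg_one_smul]⟩
      map_add' := fun x y => (Subtype.ext (omul_add v x.1 y.1) : _)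
      map_smul' := fun c x => (Subtype.ext (omul_smul c v x.1) : _) }
  let g : Mx t →ₗ[F] Fx t :=
    { toFun := fun x => ⟨omul v x.1, by
        change t (omul v x.1) = omul v x.1
        rw [hmul, htv, show t x.1 = -x.1 from x.2, ← neg_one_smul F v, ← neg_one_smul F x.1, smul_omul, omul_smul,
          smul_smul]
        norm_num⟩
      map_add' := fun x y => (Subtype.ext (omul_add v x.1 y.1) : _)
      map_smul' := fun c x => (Subtype.ext (omul_smul c v x.1) : _) }
  have hf : Function.Injective f := by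
    intro x y hxy
    have h3 : omul v x.1 = omul v y.1 := congrArg Subtype.val hxy
    have h4 : omul v (x.1 - y.1) = 0 := by
      have := omul_add v (x.1 - y.1) y.1
      rw [sub_add_cancel, h3] at this
      exact (right_eq_add.1 this)
    exact Subtype.ext (sub_eq_zero.1 (inj _ h4))
  have hg : Function.Injective g := by
    intro x y hxy
    have h3 : omul v x.1 = omul v y.1 := congrArg Subtype.val hxy
    have h4 : omul v (x.1 - y.1) = 0 := by
      have := omul_add v (x.1 - y.1) y.1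
      rw [sub_add_cancel, h3] at this
      exact (right_eq_add.1 this)
    exact Subtype.ext (sub_eq_zero.1 (inj _ h4))
  have h3 := LinearMap.finrank_le_finrank_of_injective hf
  have h4 := LinearMap.finrank_le_finrank_of_injective hg
  have h5 := Submodule.finrank_add_eq_of_isCompl (compl (t := t) h2 ht)
  rw [Module.finrank_fintype_fun_eq_card, Fintype.card_sum, Fintype.card_fin] at h5
  omega

/-- **the fixed space is moved to `H0`** -/
theorem exists_phi [Finite F] (h2 : (2 : F) ≠ 0) (ht : ∀ v, t (t v) = v)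
    (hiso : ∀ v, plusForm 4 F (t v) = plusForm 4 F v)
    (hmul : ∀ x y, t (omul x y) = omul (t x) (t y)) (hne : t ≠ 1) (h1 : t (one8 F) = one8 F) :
    ∃ φ : G8 F, TriS φ φ φ ∧ IsSS (plusForm 4 F) (RingEquiv.refl F) 1 φ.1 ∧
      ∀ x, φ.1 x ∈ H237.RC.ID.H0 F ↔ x ∈ Fx t := by
  have hA4 := finrank_Fx h2 ht hiso hmul hne
  have hA1 : one8 F ∈ Fx t := h1
  have hAm : ∀ x ∈ Fx t, ∀ y ∈ Fx t, omul x y ∈ Fx t := by
    intro x hx y hy
    rw [mem_Fx, hmul, show t x = x from hx, show t y = y from hy]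
  -- a singular vector of trace zero
  let T : Fx t →ₗ[F] F :=
    { toFun := fun x => polar (plusForm 4 F) x.1 (one8 F)
      map_add' := fun x y => pol_add_left _ _ _
      map_smul' := fun c x => pol_smul_left _ _ _ }
  let β : LinearMap.ker T →ₗ[F] LinearMap.ker T →ₗ[F] F := LinearMap.mk₂ F
    (fun x y => x.1.1 (.inl 0) * y.1.1 (.inr 0) + x.1.1 (.inl 1) * y.1.1 (.inr 1) +
      x.1.1 (.inl 2) * y.1.1 (.inr 2) + x.1.1 (.inl 3) * y.1.1 (.inr 3))
    (by intro x y z; simp only [Submodule.coe_add, Pi.add_apply]; ring)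
    (by intro c x y; simp only [Submodule.coe_smul, Pi.smul_apply, smul_eq_mul]; ring)
    (by intro x y z; simp only [Submodule.coe_add, Pi.add_apply]; ring)
    (by intro c x y; simp only [Submodule.coe_smul, Pi.smul_apply, smul_eq_mul]; ring)
  have hk : 3 ≤ finrank F (LinearMap.ker T) := by
    have h3 := LinearMap.finrank_range_add_finrank_ker T
    have h4 : finrank F (LinearMap.range T) ≤ 1 := by
      have := Submodule.finrank_le (LinearMap.range T)
      rwa [Module.finrank_self] at this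
    rw [hA4] at h3
    omega
  have hk' : 2 * Fintype.card Unit < finrank F (LinearMap.ker T) := by
    rw [Fintype.card_unit]; omega
  obtain ⟨⟨⟨n, hn⟩, hnT⟩, hn0, hβ⟩ := H950.exists_common_isotropic (K := F) (A := LinearMap.ker T) (ι := Unit)
    (fun _ => (β :)) (by exact hk')
  have hnz : n ≠ 0 := by
    rintro rfl
    exact hn0 rfl
  have hQn : plusForm 4 F n = 0 := by
    rw [norm8]
    exact hβ ()
  have htr : polar (plusForm 4 F) n (one8 F) = 0 := hnT
  obtain ⟨r, hr, hnr⟩ : ∃ r ∈ Fx t, polar (plusForm 4 F) n r = 1 := by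
    by_contra hcon
    push Not at hcon
    apply hnz
    apply nondeg_Fx h2 ht hiso hn
    intro y hy
    by_contra h0
    apply hcon ((polar (plusForm 4 F) n y)⁻¹ • y) ((Fx t).smul_mem _ hy)
    rw [pol_smul_right, inv_mul_cancel₀ h0]
  obtain ⟨hl1, hl0, hln, hnl⟩ := idem_facts hQn htr hnr
  have hcr : oconj r ∈ Fx t := by
    rw [oconj_eq]
    exact (Fx t).sub_mem ((Fx t).smul_mem _ hA1) hr
  obtain ⟨φ, hφ, hφl, -, -, f3⟩ := exists_frame (Fx t) hA4 hA1 hAm (hAm _ hn _ hcr) hn hr hl1 hl0 hln hnl hnr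
  exact ⟨φ, hφ, hφl, f3⟩

end inv

end Cfsg.Agent.H188.RC.Inv
end

-- part: H188/RC/InvC
section
/-!
# S3510, type iii, box INV (C) (helper188)

`dead_one` : in characteristic `≠ 2` the twisted environment `T3` has no member of order two fixing the unit.
`M` = the octonion automorphisms which are trivial on `Fix t`.
-/

set_option autoImplicit false
open Cfsg

namespace Cfsg.Agent.H188.RC.Inv

open Module QuadraticMap MulAction
open Cfsg.Agent.LieClassical.OrthCore Cfsg.Agent.LieClassical.OrthTrans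
open Cfsg.Agent.LieClassical.OrthSimple Cfsg.Agent.ClassicalGeometry.OrthSemi
open Cfsg.Agent.ClassicalGeometry.OrthAut1 Cfsg.Agent.H106.RC Cfsg.Agent.H93.RC Cfsg.Agent.H566.RC
open Cfsg.Agent.LieClassical.QuadForms Cfsg.Agent.ClassicalGeometry.TrialityOct
open Cfsg.Agent.ClassicalGeometry.Triality Cfsg.Agent.ClassicalGeometry.TrialitySpaces
open Cfsg.Agent.H198.TriBase Cfsg.Agent.H198.TriAut Cfsg.Agent.H198.TriDia
open Cfsg.Agent.H206.Balance hiding Good
open Cfsg.Agent.H198 Cfsg.Agent.H864.RC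
open Cfsg.Agent.LieClassical.SLTwoUnipotent (u l)
open Matrix (SpecialLinearGroup)
open Cfsg.Agent.UGT.U2.FOne.Orth (Four)
open Cfsg.Agent.H188.RC.IDNormal Cfsg.Agent.H195.RC

variable {F : Type} [Field F]

/-! ### Group theory -/

theorem norm_of_conj {G : Type} [Group G] [Finite G] {M : Subgroup G} {x : G} (h : ∀ m ∈ M, x * m * x⁻¹ ∈ M) :
    x ∈ Subgroup.normalizer (M : Set G) := by
  have h1 : M.map (MulAut.conj x).toMonoidHom ≤ M := by
    rintro _ ⟨m, hm, rfl⟩
    exact h m hm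
  have h2 : M.map (MulAut.conj x).toMonoidHom = M := by
    apply Subgroup.eq_of_le_of_card_ge h1
    rw [Subgroup.card_map_of_injective (MulAut.conj x).injective]
  rw [Subgroup.mem_normalizer_iff]
  intro m
  constructor
  · exact h m
  · intro hm
    have hm' : x * m * x⁻¹ ∈ M := hm
    rw [← h2] at hm'
    obtain ⟨k, hk, hk'⟩ := hm'
    have : k = m := (MulAut.conj x).injective hk'
    rwa [← this]

/-- the quotient map of the image of an injective `f : SL₂(F) → G` -/
noncomputable def pr {G : Type} [Group G] (f : _root_.Matrix.SpecialLinearGroup (Fin 2) F →* G) (hf : Function.Injective f) :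
    f.range →* Matrix.ProjectiveSpecialLinearGroup (Fin 2) F :=
  (QuotientGroup.mk' (Subgroup.center (_root_.Matrix.SpecialLinearGroup (Fin 2) F))).comp (MonoidHom.ofInjective hf).symm.toMonoidHom

theorem pr_surj {G : Type} [Group G] (f : _root_.Matrix.SpecialLinearGroup (Fin 2) F →* G) (hf : Function.Injective f) :
    Function.Surjective (pr f hf) := by
  have h1 : Function.Surjective ((MonoidHom.ofInjective hf).symm.toMonoidHom) := (MonoidHom.ofInjective hf).symm.surjective
  exact (QuotientGroup.mk'_surjective _).comp h1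

theorem pr_ker {G : Type} [Group G] (f : _root_.Matrix.SpecialLinearGroup (Fin 2) F →* G) (hf : Function.Injective f) :
    (pr f hf).ker ≤ Subgroup.center f.range := by
  intro m hm
  have h1 : (MonoidHom.ofInjective hf).symm m ∈ Subgroup.center (_root_.Matrix.SpecialLinearGroup (Fin 2) F) :=
    (QuotientGroup.eq_one_iff _).1 hm
  rw [Subgroup.mem_center_iff] at h1 ⊢
  intro k
  apply (MonoidHom.ofInjective hf).symm.injective
  rw [map_mul, map_mul]
  exact h1 _

/-! ### The action of the members -/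

section env

variable {G Ω ι : Type} [Group G] [MulAction G Ω] {N : Subgroup G} {hG : Good (plusForm 4 F)}
  {κ : P8 F →* G} {s : F ≃+* F} {x₁ : G} {x : ι → G} {r : ι → ℕ} {g : ι → (V8 F ≃ₗ[F] V8 F)}

theorem isom_E (m : ↥(E (plusForm 4 F))) (v : V8 F) : plusForm 4 F ((m : V8 F ≃ₗ[F] V8 F) v) = plusForm 4 F v :=
  E_le_O m.2 v

/-- elements of `E Q` fixing the unit commute with conjugation -/
theorem conj_commE {m : ↥(E (plusForm 4 F))} (h1 : (m : V8 F ≃ₗ[F] V8 F) (one8 F) = one8 F) (x : V8 F) :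
    (m : V8 F ≃ₗ[F] V8 F) (oconj x) = oconj ((m : V8 F ≃ₗ[F] V8 F) x) := by
  apply conj_comm (m := fun v => (m : V8 F ≃ₗ[F] V8 F) v) (fun x y => map_sub _ x y) (fun c x => map_smul _ c x) ?_ h1
  intro x
  have h2 := polar_t (isom_E m) x (one8 F)
  rw [h1] at h2
  exact h2

/-- the field automorphism conjugate -/
theorem conjE_fG (h3 : ∀ a, s (s (s a)) = a) (m : ↥(E (plusForm 4 F))) (v : V8 F) :
    (conjE _ (fG s) m : V8 F ≃ₗ[F] V8 F) v = cf s ((m : V8 F ≃ₗ[F] V8 F) (cf s (cf s v))) := by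
  rw [coe_conjE, conjLin_apply]
  have h1 : ((fG s).1⁻¹ : Equiv.Perm (V8 F)) v = cf s (cf s v) := by
    have h2 : (fG s).1⁻¹ v = (fG s).1.symm v := rfl
    rw [h2, Equiv.symm_apply_eq]
    exact (cf3 h3 v).symm
  rw [h1]
  rfl

theorem conjE_fG' (h3 : ∀ a, s (s (s a)) = a) (m : ↥(E (plusForm 4 F))) (v : V8 F) :
    (conjE _ (fG s) (conjE _ (fG s) m) : V8 F ≃ₗ[F] V8 F) v = cf s (cf s ((m : V8 F ≃ₗ[F] V8 F) (cf s v))) := by
  rw [conjE_fG h3, conjE_fG h3, cf3 h3]

/-- `S t m` : an octonion automorphism which is trivial on the fixed space of `t` -/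
def SM (t : V8 F ≃ₗ[F] V8 F) (m : ↥(E (plusForm 4 F))) : Prop :=
  (∀ a, t a = a → (m : V8 F ≃ₗ[F] V8 F) a = a) ∧
    ∀ x y, (m : V8 F ≃ₗ[F] V8 F) (omul x y) = omul ((m : V8 F ≃ₗ[F] V8 F) x) ((m : V8 F ≃ₗ[F] V8 F) y)

theorem SM.fg {t : V8 F ≃ₗ[F] V8 F} (h3 : ∀ a, s (s (s a)) = a) (hts : ∀ v, t (cf s v) = cf s (t v))
    {m : ↥(E (plusForm 4 F))} (hm : SM t m) : SM t (conjE _ (fG s) m) := by
  refine ⟨fun a ha => ?_, fun x y => ?_⟩
  · rw [conjE_fG h3, hm.1 _ (by rw [hts, hts, ha]), cf3 h3]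
  · rw [conjE_fG h3, conjE_fG h3, conjE_fG h3, cf_omul, cf_omul, hm.2, cf_omul]

/-- the triple of an automorphism -/
theorem SM.tw {t : V8 F ≃ₗ[F] V8 F} (h3 : ∀ a, s (s (s a)) = a) (h1 : t (one8 F) = one8 F)
    {m : ↥(E (plusForm 4 F))} (hm : SM t m) (u w : V8 F) :
    (m : V8 F ≃ₗ[F] V8 F) (dia (fG s) u w) = dia (fG s) ((conjE _ (fG s) m : V8 F ≃ₗ[F] V8 F) u)
      ((conjE _ (fG s) (conjE _ (fG s) m) : V8 F ≃ₗ[F] V8 F) w) := by
  rw [conjE_fG h3, conjE_fG' h3]
  exact tw_of_aut h3 hm.2 (conj_commE (hm.1 _ h1)) u w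

/-- the action of `x₁` -/
theorem x1_conj (h : T3 hG N κ s Ω x₁ x r g) {t : V8 F ≃ₗ[F] V8 F} (h1 : t (one8 F) = one8 F)
    {m : ↥(E (plusForm 4 F))} (hm : SM t m) : x₁ * up κ m * x₁⁻¹ = up κ (conjE _ (fG s) m) := by
  have e1 : xt hG (fG s) * Psi _ (tg _ m) * (xt hG (fG s))⁻¹ = Psi _ (tg _ (conjE _ (fG s) m)) := by
    apply xt_conj_tri hG (tri_fG s) (M'' := tg _ (conjE _ (fG s) (conjE _ (fG s) m)))
    intro u w
    exact hm.tw h.cube h1 u w
  have e2 : La κ (up κ m) (Psi _ (tg _ m)) := La.lf.2 (Lf.tg _)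
  have e3 := (h.tri.mul e2).mul h.tri.inv
  rw [e1] at e3
  exact La.eq h.env h.rp e3 (La.lf.2 (Lf.tg _))

/-- the action of `AutD` -/
theorem SM.aut {t : V8 F ≃ₗ[F] V8 F} (h3 : ∀ a, s (s (s a)) = a) (h1 : t (one8 F) = one8 F)
    {m : ↥(E (plusForm 4 F))} (hm : SM t m) (hts : ∀ v, t (cf s v) = cf s (t v)) {c : ↥(E (plusForm 4 F))}
    (hc : (c : V8 F ≃ₗ[F] V8 F) ∈ AutD (fG s)) (hct : ∀ v, (c : V8 F ≃ₗ[F] V8 F) (t v) = t ((c : V8 F ≃ₗ[F] V8 F) v)) :
    SM t (c * m * c⁻¹) := by
  have hci : ∀ v, (c : V8 F ≃ₗ[F] V8 F).symm (t v) = t ((c : V8 F ≃ₗ[F] V8 F).symm v) := by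
    intro v
    rw [LinearEquiv.symm_apply_eq, hct, LinearEquiv.apply_symm_apply]
  have happ : ∀ (k : ↥(E (plusForm 4 F))) v, ((c * k * c⁻¹ : ↥(E (plusForm 4 F))) : V8 F ≃ₗ[F] V8 F) v =
      (c : V8 F ≃ₗ[F] V8 F) ((k : V8 F ≃ₗ[F] V8 F) ((c : V8 F ≃ₗ[F] V8 F).symm v)) := fun k v => rfl
  have hfix : ∀ (k : ↥(E (plusForm 4 F))), (∀ a, t a = a → (k : V8 F ≃ₗ[F] V8 F) a = a) →
      ∀ a, t a = a → ((c * k * c⁻¹ : ↥(E (plusForm 4 F))) : V8 F ≃ₗ[F] V8 F) a = a := by
    intro k hk a ha
    rw [happ, hk _ (by rw [← hci, ha]), LinearEquiv.apply_symm_apply]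
  have hm1 := hm.fg h3 hts
  have hm2 := hm1.fg h3 hts
  refine ⟨hfix m hm.1, ?_⟩
  have key := aut_of_tw h3 (n := fun v => ((c * m * c⁻¹ : ↥(E (plusForm 4 F))) : V8 F ≃ₗ[F] V8 F) v)
    (n' := fun v => ((c * conjE _ (fG s) m * c⁻¹ : ↥(E (plusForm 4 F))) : V8 F ≃ₗ[F] V8 F) v)
    (n'' := fun v => ((c * conjE _ (fG s) (conjE _ (fG s) m) * c⁻¹ : ↥(E (plusForm 4 F))) : V8 F ≃ₗ[F] V8 F) v)
    (by
      intro u w
      change ((c * m * c⁻¹ : ↥(E (plusForm 4 F))) : V8 F ≃ₗ[F] V8 F) (dia (fG s) u w) =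
        dia (fG s) (((c * conjE _ (fG s) m * c⁻¹ : ↥(E (plusForm 4 F))) : V8 F ≃ₗ[F] V8 F) u)
          (((c * conjE _ (fG s) (conjE _ (fG s) m) * c⁻¹ : ↥(E (plusForm 4 F))) : V8 F ≃ₗ[F] V8 F) w)
      simp only [happ, happ, happ, ← hc.2, ← hm.tw h3 h1]
      congr 2
      rw [LinearEquiv.symm_apply_eq, hc.2, LinearEquiv.apply_symm_apply, LinearEquiv.apply_symm_apply])
    (hfix _ hm1.1 _ h1) (hfix _ hm2.1 _ h1) (conj_commE (hfix m hm.1 _ h1))
  exact key.2.2

end env

end Cfsg.Agent.H188.RC.Inv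
end

-- part: H510/Tri3/InvA
section
/-!
# S3510, triality type iii, box INV (A): the fixed space of an involution contains an idempotent (helper510)
-/

set_option autoImplicit false
set_option linter.unusedSectionVars false
open Cfsg

namespace Cfsg.Agent.H510.Tri3

open Module QuadraticMap MulAction
open Cfsg.Agent.LieClassical.OrthCore Cfsg.Agent.LieClassical.OrthTrans
open Cfsg.Agent.LieClassical.OrthSimple Cfsg.Agent.ClassicalGeometry.OrthSemi
open Cfsg.Agent.ClassicalGeometry.OrthAut1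
open Cfsg.Agent.LieClassical.QuadForms Cfsg.Agent.ClassicalGeometry.TrialityOct
open Cfsg.Agent.ClassicalGeometry.Triality Cfsg.Agent.ClassicalGeometry.TrialitySpaces
open Cfsg.Agent.H198.TriBase Cfsg.Agent.H198.TriAut Cfsg.Agent.H198.TriDia
open Cfsg.Agent.H198.TwComp Cfsg.Agent.H198 Cfsg.Agent.H452.RC.FMP

/-- the norm to the fixed field of `s` is surjective -/
theorem exists_norm {F : Type} [Field F] [Finite F] {s : F ≃+* F} (h3 : ∀ a, s (s (s a)) = a)
    (hne : s ≠ RingEquiv.refl F) {g : F} (hg : s g = g) (hg0 : g ≠ 0) : ∃ c : F, c * s c * s.symm c = g := by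
  obtain ⟨q0, h0, hq, -, hfix, hs⟩ := H256.RC.BQ h3 hne
  have hsym : ∀ a, s.symm a = s (s a) := fun a => by rw [RingEquiv.symm_apply_eq, h3]
  have hcard : ∀ a : F, a ^ Nat.card F = a := by
    have : Fintype F := Fintype.ofFinite F
    intro a
    rw [Nat.card_eq_fintype_card]
    exact FiniteField.pow_card a
  have hprod : ∀ c : F, c * s c * s.symm c = c ^ (1 + q0 + q0 ^ 2) := by
    intro c
    rw [hsym]
    rcases hs with hs | hs
    · rw [hs, hs, ← pow_mul, pow_add, pow_add, pow_one, ← pow_two]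
    · rw [hs, hs, ← pow_mul]
      have h1 : c ^ (q0 ^ 2 * q0 ^ 2) = c ^ q0 := by
        have h2 : q0 ^ 2 * q0 ^ 2 = Nat.card F * q0 := by rw [hq]; ring
        rw [h2, pow_mul, hcard]
      rw [h1, pow_add, pow_add, pow_one]
      ring
  obtain ⟨ζ, hζ⟩ := IsCyclic.exists_generator (α := Fˣ)
  have hord : orderOf ζ = Nat.card F - 1 := by
    rw [orderOf_eq_card_of_forall_mem_zpowers hζ]
    have : Fintype F := Fintype.ofFinite F
    classical
    rw [Nat.card_eq_fintype_card, Nat.card_eq_fintype_card, Fintype.card_units]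
  have hmem : ∀ u : Fˣ, ∃ k : ℕ, ζ ^ k = u := by
    intro u
    have h1 := hζ u
    rw [← mem_powers_iff_mem_zpowers] at h1
    exact h1
  obtain ⟨k, hk⟩ := hmem (Units.mk0 g hg0)
  have hgq : g ^ q0 = g := (hfix g).1 hg
  have h4 : ζ ^ (k * (q0 - 1)) = 1 := by
    rw [pow_mul, hk]
    apply Units.ext
    rw [Units.val_pow_eq_pow_val, Units.val_mk0, Units.val_one]
    have h5 : g ^ (q0 - 1) * g = 1 * g := by
      rw [← pow_succ, Nat.sub_add_cancel (by omega), hgq, one_mul]
    exact mul_right_cancel₀ hg0 h5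
  have h5 := orderOf_dvd_of_pow_eq_one h4
  have h6 : Nat.card F - 1 = (1 + q0 + q0 ^ 2) * (q0 - 1) := by
    rw [hq]
    obtain ⟨m, rfl⟩ : ∃ m, q0 = m + 1 := ⟨q0 - 1, by omega⟩
    have h7 : (m + 1) ^ 3 = (1 + (m + 1) + (m + 1) ^ 2) * m + 1 := by ring
    rw [h7, Nat.add_sub_cancel, Nat.add_sub_cancel]
  rw [hord, h6] at h5
  have h7 : 1 + q0 + q0 ^ 2 ∣ k := Nat.dvd_of_mul_dvd_mul_right (by omega) h5
  obtain ⟨j, hj⟩ := h7
  refine ⟨((ζ ^ j : Fˣ) : F), ?_⟩
  rw [hprod, ← Units.val_pow_eq_pow_val, ← pow_mul, mul_comm j, ← hj, hk, Units.val_mk0]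

variable {F : Type} [Field F]

/-- (A) the fixed space of an involution contains an idempotent -/
theorem exists_idem [Finite F] {s : F ≃+* F} (h3 : ∀ a, s (s (s a)) = a) (hne : s ≠ RingEquiv.refl F)
    (h2 : (2 : F) ≠ 0) {t : V8 F ≃ₗ[F] V8 F} (ht : t ∈ AutD (fG s)) (htt : t * t = 1) :
    ∃ e : V8 F, e ≠ 0 ∧ t e = e ∧ dia (fG s) e e = e := by
  have htc : TC (plusForm 4 F) s (dia (fG s)) := H256.RC.tc_fG h3
  have htO : t ∈ O (plusForm 4 F) := E_le_O ht.1
  have htp : ∀ u v, polar (plusForm 4 F) (t u) (t v) = polar (plusForm 4 F) u v := polar_map htO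
  have htv : ∀ v, t (t v) = v := fun v => congrArg (fun c : V8 F ≃ₗ[F] V8 F => c v) htt
  have hQ : Nondeg (plusForm 4 F) := Cfsg.Agent.ClassicalGeometry.Triality.nondeg8
  set W := fix t with hW
  have hnd : ND (plusForm 4 F) W := nd_fix (n := 2) hQ htp (by exact_mod_cast h2) (by rw [pow_two]; exact htt)
  have hcl : Closed (dia (fG s)) W := fun u hu w hw => by
    rw [mem_fix] at hu hw ⊢
    rw [ht.2, hu, hw]
  -- the orthogonal space is the other eigenspace
  have hperp : ∀ v ∈ perp (plusForm 4 F) W, t v = -v := by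
    intro v hv
    have h4 : v + t v ∈ W := by
      rw [mem_fix, map_add, htv, add_comm]
    have h5 : v + t v = 0 := by
      apply hnd _ h4
      intro w hw
      have h6 : polar (plusForm 4 F) (t v) w = 0 := by
        have h7 := htp v w
        rw [mem_fix.1 hw, hv w hw] at h7
        exact h7
      rw [polar_add_left, hv w hw, h6, add_zero]
    exact (neg_eq_of_add_eq_zero_right h5).symm
  have h4W : 4 ≤ finrank F W := by
    have h8 : finrank F (V8 F) = 8 := by
      rw [Module.finrank_fintype_fun_eq_card]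
      rfl
    have h9 : finrank F (V8 F) ≤ finrank F W + finrank F (perp (plusForm 4 F) W) := by
      have h10 : W ⊔ perp (plusForm 4 F) W = ⊤ := by
        rw [Submodule.eq_top_iff']
        intro v
        obtain ⟨a, ha, b, hb, rfl⟩ := exists_decomp hnd v
        exact Submodule.add_mem_sup ha hb
      have h11 := Submodule.finrank_sup_add_finrank_inf_eq W (perp (plusForm 4 F) W)
      rw [h10, finrank_top] at h11
      exact le_trans (Nat.le_add_right _ _) (le_of_eq h11)
    by_cases hT : W = ⊤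
    · rw [hT, finrank_top, h8]
      norm_num
    obtain ⟨b, hb, hb0⟩ := _root_.Cfsg.Agent.H452.RC.FMP.exists_nonsing hQ hnd hT
    have hle : finrank F (perp (plusForm 4 F) W) ≤ finrank F W := by
      have hmem : ∀ w ∈ perp (plusForm 4 F) W, dia (fG s) w b ∈ W := by
        intro w hw
        rw [mem_fix, ht.2, hperp w hw, hperp b hb, htc.neg_left, htc.neg_right, neg_neg]
      have hinj : ∀ w w' : V8 F, dia (fG s) w b = dia (fG s) w' b → w = w' := by
        intro w w' he
        have h1 := htc.right b w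
        rw [he, htc.right] at h1
        have h2 : s.symm (plusForm 4 F b) ≠ 0 := fun h3 => hb0 ((map_eq_zero s.symm).1 h3)
        exact (smul_right_injective (V8 F) h2 h1).symm
      have : Finite (V8 F) := Module.finite_of_finite F
      let f : perp (plusForm 4 F) W → W := fun w => ⟨(dia (fG s) w b :), hmem w w.2⟩
      have hf : Function.Injective f := fun w w' he => Subtype.ext (hinj w w' (congrArg Subtype.val he))
      have hle := Nat.card_le_card_of_injective f hf
      have e1 : Nat.card W = Nat.card F ^ finrank F W := Module.natCard_eq_pow_finrank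
      have e2 : Nat.card (perp (plusForm 4 F) W) = Nat.card F ^ finrank F (perp (plusForm 4 F) W) :=
        Module.natCard_eq_pow_finrank
      rw [e1, e2] at hle
      exact (Nat.pow_le_pow_iff_right Finite.one_lt_card).1 hle
    have h12 : finrank F (V8 F) ≤ finrank F W + finrank F W := le_trans h9 (Nat.add_le_add_left hle _)
    rw [h8] at h12
    omega
  -- the twisted composition on `W`
  let m' : W → W → W := fun a b => ⟨(dia (fG s) a b :), hcl a a.2 b b.2⟩
  let Q' : QuadraticForm F W := (plusForm 4 F).comp W.subtype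
  have hQ' : ∀ v : W, Q' v = plusForm 4 F (v : V8 F) := fun v => rfl
  have hpol : ∀ v w : W, polar Q' v w = polar (plusForm 4 F) (v : V8 F) w := fun v w => rfl
  have hm : ∀ a b : W, ((m' a b : W) : V8 F) = dia (fG s) a b := fun a b => rfl
  have htc' : TC Q' s m' :=
    { add_left := fun a b c => Subtype.ext ((htc.add_left a b c :))
      add_right := fun a b c => Subtype.ext (htc.add_right a b c)
      smul_left := fun k a b => Subtype.ext (htc.smul_left k a b)
      smul_right := fun k a b => Subtype.ext (htc.smul_right k a b)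
      left := fun a b => Subtype.ext (htc.left a b)
      right := fun a b => Subtype.ext (htc.right a b)
      cube := h3 }
  have hnd' : Nondeg Q' := by
    intro v hv
    exact Subtype.ext (hnd v v.2 fun w hw => by rw [← hpol v ⟨w, hw⟩]; exact hv ⟨w, hw⟩)
  obtain ⟨a, haW, ha0, ha⟩ := Cfsg.Agent.LieClassical.OrthFinite.exists_sing_mem (Q := plusForm 4 F) W
    (le_trans (by norm_num) h4W)
  have key : ∃ e : W, e ≠ 0 ∧ m' e e = e := by
    set a' : W := ⟨a, haW⟩ with ha'
    have h5 : Q' a' = 0 := ha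
    have h6 : a' ≠ 0 := fun h => ha0 (congrArg Subtype.val h)
    by_cases h7 : m' a' a' = 0
    · obtain ⟨e, he0, he, -⟩ := htc'.idem_of_sq_zero hnd' h6 h7
      exact ⟨e, he0, he⟩
    obtain ⟨h8, h9⟩ := htc'.sq_sq h5 h6
    by_cases h10 : polar Q' a' (m' a' a') = 0
    · rw [h10, zero_smul] at h8
      obtain ⟨e, he0, he, -⟩ := htc'.idem_of_sq_zero hnd' h7 h8
      exact ⟨e, he0, he⟩
    · obtain ⟨c, hc⟩ := exists_norm h3 hne (g := (polar Q' a' (m' a' a'))⁻¹) (by rw [map_inv₀, h9]) (inv_ne_zero h10)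
      exact htc'.idem_of_norm h5 h6 (c := c) (by rw [hc, inv_mul_cancel₀ h10])
  obtain ⟨e, he0, he⟩ := key
  exact ⟨e, fun h => he0 (Subtype.ext h), mem_fix.1 e.2, by rw [← hm, he]⟩

end Cfsg.Agent.H510.Tri3
end

-- part: H103/RC/InvD
section
/-!
# S3510 type iii, box INV, (B1): the stabiliser of `xt` is transitive on the idempotents (helper103)
-/

set_option autoImplicit false
open Cfsg

namespace Cfsg.Agent.H103.RC.InvD

open Module QuadraticMap MulAction
open Cfsg.Agent.LieClassical.OrthCore Cfsg.Agent.LieClassical.OrthTrans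
open Cfsg.Agent.LieClassical.OrthSimple Cfsg.Agent.ClassicalGeometry.OrthSemi
open Cfsg.Agent.ClassicalGeometry.OrthAut1
open Cfsg.Agent.LieClassical.QuadForms Cfsg.Agent.ClassicalGeometry.TrialityOct
open Cfsg.Agent.ClassicalGeometry.Triality Cfsg.Agent.ClassicalGeometry.TrialitySpaces
open Cfsg.Agent.H198.TriBase Cfsg.Agent.H198.TriAut Cfsg.Agent.H198.TriDia
open Cfsg.Agent.H206.Balance hiding Good
open Cfsg.Agent.H198.TwComp Cfsg.Agent.H198 Cfsg.Agent.H198.TriTC Cfsg.Agent.H198.TriCls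

variable {F : Type} [Field F]

/-- automorphisms of a finite field commute -/
theorem field_comm [Finite F] (φ ψ : F ≃+* F) (x : F) : φ (ψ x) = ψ (φ x) := by
  by_cases hx : x = 0
  · simp [hx]
  obtain ⟨g, hg⟩ := IsCyclic.exists_generator (α := Fˣ)
  have key : ∀ θ : F ≃+* F, ∃ i : ℤ, ∀ y : Fˣ, θ y = ((y ^ i : Fˣ) : F) := by
    intro θ
    obtain ⟨i, hi⟩ := hg (Units.map (θ : F →* F) g)
    refine ⟨i, fun y => ?_⟩
    obtain ⟨k, hk⟩ := hg y
    have h1 : Units.map (θ : F →* F) y = y ^ i := by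
      have hi' : g ^ i = Units.map (θ : F →* F) g := hi
      have hk' : g ^ k = y := hk
      rw [← hk', map_zpow, ← hi', ← zpow_mul, ← zpow_mul, mul_comm]
    exact congrArg Units.val h1
  obtain ⟨i, hi⟩ := key φ
  obtain ⟨j, hj⟩ := key ψ
  have h1 := hi (Units.mk0 x hx)
  have h2 := hj (Units.mk0 x hx)
  rw [Units.val_mk0] at h1 h2
  rw [h2, hi, h1, hj, ← zpow_mul, ← zpow_mul, mul_comm]

theorem mo_fG (s : F ≃+* F) (u w : V8 F) : mo (fG s) (fG s) u w = dia (fG s) u w := by
  rw [mo, dia, aut_oconj (tri_fG s).inv]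

set_option maxHeartbeats 4000000 in
/-- the two steps of `classify_M` -/
theorem exists_B (hG : Good (plusForm 4 F)) {s : F ≃+* F} (h3 : ∀ a, s (s (s a)) = a) {e : V8 F} (he0 : e ≠ 0)
    (he : dia (fG s) e e = e) :
    ∃ D B : G8 F, D.1 e = one8 F ∧ TriS B B B ∧ Psi _ D * xt hG (fG s) * (Psi _ D)⁻¹ = Psi _ B * rho hG ∧
      B ^ 3 = 1 ∧ ∀ u w, mo B B (D.1 u) (D.1 w) = D.1 (dia (fG s) u w) := by
  have inv_apply : ∀ (N : G8 F) (x : V8 F), N⁻¹.1 (N.1 x) = x := fun N x => N.1.symm_apply_apply x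
  have hQe := (H256.RC.tc_fG h3).norm_idem he0 he
  have hne : plusForm 4 F e ≠ 0 := by rw [hQe]; exact one_ne_zero
  have hc3 : (Psi (plusForm 4 F) (fG s) * rho hG) ^ 3 = 1 := xt_pow_three hG (tri_fG s) (H256.RC.fG_cube h3)
  -- first step
  have hob_ := step hG (tri_fG s) (tri_lG e hne).inv
  obtain ⟨A, A₁, A₂, hA, hA1, hA2, -⟩ := hob_
  set! N := (lG e hne)⁻¹ with hN
  (try rw [← hN] at hA1); (try rw [← hN] at hA2)
  have hNe : N.1 e = one8 F := by
    have h1 : (lG e hne).1 (one8 F) = e := by rw [lG_apply, omul_one]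
    have h2 := inv_apply (lG e hne) (one8 F)
    rwa [h1] at h2
  have hAe : mo A A₂ (one8 F) (one8 F) = one8 F := by
    have := hA2 e e
    rwa [mo_fG, he, hNe] at this
  -- second step
  have ha : plusForm 4 F (A⁻¹.1 (one8 F)) ≠ 0 := by
    obtain ⟨σ', c', hs'⟩ := A⁻¹.2
    rw [hs'.form, norm_one8, map_one, mul_one]
    exact hs'.ne
  have hob_ := exists_N ha
  obtain ⟨N', N'₁, N'₂, hN', hN1, hN2⟩ := hob_
  have hob_ := step hG hA hN'
  obtain ⟨B, B₁, B₂, hB, hB1, hB2, hB3⟩ := hob_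
  have hBe : mo B B₂ (one8 F) (one8 F) = one8 F := by
    have := hB2 (one8 F) (one8 F)
    rwa [hAe, hN1] at this
  have hBi : B⁻¹.1 (one8 F) = one8 F := by
    have := hB3 (one8 F)
    rw [hN1, hN2] at this
    rw [this, oconj_one8]
  have hob_ := tri_of_one hB hBe hBi
  obtain ⟨hτ, hB2'⟩ := hob_
  have hτ3 := pow_three_of hG hτ (gen_cj3 hB1 (gen_cj3 hA1 hc3))
  have hcj := gen_cj hA1 hB1
  refine ⟨N' * N, B, ?_, hτ, ?_, hτ3, fun u w => ?_⟩
  · change N'.1 (N.1 e) = _
    rw [hNe, hN1]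
  · ((conv => enter [@2, @5, @5]; rw [map_mul (Psi (plusForm 4 F)) N' N]); (conv => enter [@2, @6, @3]; rw [map_mul (Psi (plusForm 4 F)) N' N]))
    exact hcj
  · change mo B B (N'.1 (N.1 u)) (N'.1 (N.1 w)) = N'.1 (N.1 (dia (fG s) u w))
    rw [hB2'] at hB2
    rw [hB2, hA2, mo_fG]

/-- the field automorphism of `B` -/
theorem field_B [Finite F] {s : F ≃+* F} {D B : G8 F} (hB : TriS B B B)
    (h : ∀ u w, mo B B (D.1 u) (D.1 w) = D.1 (dia (fG s) u w)) {e : V8 F} (he0 : e ≠ 0)
    (he : dia (fG s) e e = e) {σ : F ≃+* F} {c : F} (hs : IsSS (plusForm 4 F) σ c B.1) : σ = s := by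
  obtain ⟨δ, d, hd⟩ := D.2
  have h1 : ∀ (k : F) (u w : V8 F), mo B B u (k • w) = σ k • mo B B u w := by
    intro k u w
    have e1 : oconj (k • w) = k • oconj w := by coord8
    rw [mo, mo, e1, hs.smul, omul_smul]
  have h2 : ∀ (k : F) (u w : V8 F), dia (fG s) u (k • w) = s k • dia (fG s) u w := by
    intro k u w
    have e1 : oconj (k • w) = k • oconj w := by coord8
    have e2 : IsSS (plusForm 4 F) s 1 (fG s).1 := isSS_fP s
    have e3 : (fG s).1 (k • oconj w) = s k • (fG s).1 (oconj w) := e2.smul k (oconj w)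
    rw [dia, dia, e1, e3, omul_smul]
  have key : ∀ k : F, σ (δ k) = δ (s k) := by
    intro k
    have e1 := h e (k • e)
    rw [h2, he, hd.smul, h1, h, he, hd.smul] at e1
    have e2 : (σ (δ k) - δ (s k)) • D.1 e = 0 := by rw [sub_smul, e1, sub_self]
    rcases smul_eq_zero.1 e2 with h3 | h3
    · exact sub_eq_zero.1 h3
    · exfalso
      rw [← hd.map_zero] at h3
      exact he0 (D.1.injective h3)
  ext k
  obtain ⟨k', rfl⟩ := δ.surjective k
  rw [key, field_comm]

/-- (B1) the stabiliser of `xt` is transitive on the idempotents -/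
theorem exists_D [Finite F] (hG : Good (plusForm 4 F)) {s : F ≃+* F} (h3 : ∀ a, s (s (s a)) = a)
    (hne : s ≠ RingEquiv.refl F) {e : V8 F} (he0 : e ≠ 0) (he : dia (fG s) e e = e) :
    ∃ D : G8 F, D.1 e = one8 F ∧
      Psi (plusForm 4 F) D * xt hG (fG s) * (Psi (plusForm 4 F) D)⁻¹ = xt hG (fG s) ∧
      ∀ u w, D.1 (dia (fG s) u w) = dia (fG s) (D.1 u) (D.1 w) := by
  have hob_ := exists_B hG h3 he0 he
  obtain ⟨D, B, hDe, hB, hcj, hB3, hm⟩ := hob_
  have hob_ := B.2
  obtain ⟨σ, c, hs⟩ := hob_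
  have hob_ := aut_mult hB hs
  obtain rfl := hob_
  have hob_ := field_B hB hm he0 he hs
  obtain rfl := hob_
  have hob_ := H752.SemiNormal.semi_normal hB hs hne hB3
  obtain ⟨N, hN, hNB⟩ := hob_
  have h1 : Psi _ N * (Psi _ B * rho hG) * (Psi _ N)⁻¹ = xt hG (fG σ) := by
    have := xt_conj hG B hN
    ((conv at this => enter [@3, @4]; rw [hNB]))
    exact this
  refine ⟨N * D, ?_, ?_, fun u w => ?_⟩
  · change N.1 (D.1 e) = _
    rw [hDe, aut_one hN]
  · ((conv => enter [@2, @5, @5]; rw [map_mul (Psi (plusForm 4 F)) N D]); (conv => enter [@2, @6, @3]; rw [map_mul (Psi (plusForm 4 F)) N D]))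
    exact gen_cj hcj h1
  · change N.1 (D.1 (dia (fG σ) u w)) = dia (fG σ) (N.1 (D.1 u)) (N.1 (D.1 w))
    rw [← hm, ← hNB]
    have e1 : ∀ x, (N * B * N⁻¹).1 (N.1 x) = N.1 (B.1 x) := by
      intro x
      change N.1 (B.1 (N.1.symm (N.1 x))) = _
      rw [Equiv.symm_apply_apply]
    have e2 : ∀ x, (N * B * N⁻¹)⁻¹.1 (N.1 x) = N.1 (B⁻¹.1 x) := by
      intro x
      have e3 : (N * B * N⁻¹)⁻¹ = N * B⁻¹ * N⁻¹ := by group
      rw [e3]
      change N.1 (B⁻¹.1 (N.1.symm (N.1 x))) = _
      rw [Equiv.symm_apply_apply]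
    rw [dia, ← aut_oconj hN, ← aut_oconj hN, e1, e2, ← hN, mo, aut_oconj hB.inv]

end Cfsg.Agent.H103.RC.InvD
end

-- part: H103/RC/InvT
section
/-!
# S3510 type iii, box INV, (B2): transport of the environment (helper103)
-/

set_option autoImplicit false
open Cfsg

namespace Cfsg.Agent.H103.RC.InvT

open Module QuadraticMap MulAction
open Cfsg.Agent.LieClassical.OrthCore Cfsg.Agent.LieClassical.OrthTrans
open Cfsg.Agent.LieClassical.OrthSimple Cfsg.Agent.ClassicalGeometry.OrthSemi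
open Cfsg.Agent.ClassicalGeometry.OrthAut1 Cfsg.Agent.H106.RC Cfsg.Agent.H93.RC Cfsg.Agent.H566.RC
open Cfsg.Agent.LieClassical.QuadForms Cfsg.Agent.ClassicalGeometry.TrialityOct
open Cfsg.Agent.ClassicalGeometry.Triality Cfsg.Agent.ClassicalGeometry.TrialitySpaces
open Cfsg.Agent.H198.TriBase Cfsg.Agent.H198.TriAut Cfsg.Agent.H198.TriDia
open Cfsg.Agent.H206.Balance hiding Good
open Cfsg.Agent.H864.RC

variable {F : Type} [Field F]

theorem conjLin_mem_AutD {s : F ≃+* F} {D : G8 F}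
    (hD2 : ∀ u w, D.1 (dia (fG s) u w) = dia (fG s) (D.1 u) (D.1 w)) {c : V8 F ≃ₗ[F] V8 F}
    (hc : c ∈ AutD (fG s)) : conjLin D c ∈ AutD (fG s) := by
  refine ⟨conjLin_mem_E D hc.1, fun u w => ?_⟩
  obtain ⟨u, rfl⟩ := D.1.surjective u
  obtain ⟨w, rfl⟩ := D.1.surjective w
  rw [← hD2, conjLin_apply', conjLin_apply', conjLin_apply', hc.2, hD2]

theorem conjLin_pow (D : G8 F) (c : V8 F ≃ₗ[F] V8 F) (n : ℕ) : conjLin D (c ^ n) = conjLin D c ^ n := by
  induction n with
  | zero => rw [pow_zero, pow_zero, conjLin_one]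
  | succ n ih => rw [pow_succ, pow_succ, conjLin_mul, ih]

theorem rp_comp {G : Type} [Group G] {N : Subgroup G} {κ : P8 F →* G} (h : Rp (plusForm 4 F) N κ)
    (α : MulAut (P8 F)) : Rp (plusForm 4 F) N (κ.comp α.toMonoidHom) := by
  refine ⟨h.inj.comp α.injective, ?_⟩
  rw [← h.range]
  ext y
  constructor
  · rintro ⟨a, rfl⟩
    exact ⟨α a, rfl⟩
  · rintro ⟨a, rfl⟩
    refine ⟨α.symm a, ?_⟩
    change κ (α (α.symm a)) = κ a
    rw [MulEquiv.apply_symm_apply]

section env
variable {G Ω ι : Type} [Group G] [MulAction G Ω] {N : Subgroup G} {hG : Good (plusForm 4 F)}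
  {κ : P8 F →* G} {s : F ≃+* F} {x₁ : G} {x : ι → G} {r : ι → ℕ} {g : ι → (V8 F ≃ₗ[F] V8 F)}

/-- (B2) transport of the environment -/
theorem transport (h : T3 hG N κ s Ω x₁ x r g) {D : G8 F}
    (hD : Psi (plusForm 4 F) D * xt hG (fG s) * (Psi (plusForm 4 F) D)⁻¹ = xt hG (fG s))
    (hD2 : ∀ u w, D.1 (dia (fG s) u w) = dia (fG s) (D.1 u) (D.1 w)) :
    ∃ (κ' : P8 F →* G) (g' : ι → (V8 F ≃ₗ[F] V8 F)), T3 hG N κ' s Ω x₁ x r g' ∧
      ∀ i v, g' i (D.1 v) = D.1 (g i v) := by
  have hrp := rp_comp h.rp ((Psi (plusForm 4 F) D)⁻¹ : MulAut (P8 F))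
  have hm : ∀ i, conjLin D (g i) ∈ AutD (fG s) := fun i => conjLin_mem_AutD hD2 (h.mem i)
  refine ⟨κ.comp ((Psi (plusForm 4 F) D)⁻¹ : MulAut (P8 F)).toMonoidHom, fun i => conjLin D (g i), ?_,
    fun i v => conjLin_apply' D (g i) v⟩
  refine ⟨h.env, hrp, h.cube, h.ne, ?_, h.prime, h.inj, h.three, hm, ?_, ?_, ?_, ?_, h.cov⟩
  · intro a
    change x₁ * κ ((Psi (plusForm 4 F) D)⁻¹ a) * x₁⁻¹ = κ ((Psi (plusForm 4 F) D)⁻¹ (xt hG (fG s) a))
    ((conv => enter [@2]; rw [h.tri]))
    congr 1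
    have e1 : (Psi (plusForm 4 F) D)⁻¹ * xt hG (fG s) = xt hG (fG s) * (Psi (plusForm 4 F) D)⁻¹ := by
      rw [inv_mul_eq_iff_eq_mul, ← mul_assoc, hD]
    exact (congrArg (fun z : MulAut (P8 F) => z a) e1).symm
  · intro i
    change x i = κ ((Psi (plusForm 4 F) D)⁻¹ (((⟨conjLin D (g i), (hm i).1⟩ : ↥(E (plusForm 4 F))) : P8 F)))
    simp only [h.lift]
    congr 1
    (simp +singlePass only [mkD_apply])
    have e1 := Psi_mk D (⟨g i, (h.mem i).1⟩ : ↥(E (plusForm 4 F)))
    have e2 : (Psi (plusForm 4 F) D)⁻¹ ((Psi (plusForm 4 F) D)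
        ((⟨g i, (h.mem i).1⟩ : ↥(E (plusForm 4 F))) : P8 F)) = ((⟨g i, (h.mem i).1⟩ : ↥(E (plusForm 4 F))) : P8 F) := by
      simp only [← MulAut.mul_apply, inv_mul_cancel]
      rfl
    simp only [e1] at e2
    exact e2.symm
  · intro i
    rw [← conjLin_pow, h.pow, conjLin_one]
  · intro i hi
    apply h.ne1 i
    apply LinearEquiv.ext
    intro v
    have e1 := conjLin_apply' D (g i) v
    rw [hi] at e1
    exact (D.1.injective e1).symm
  · intro i j
    rw [← conjLin_mul, ← conjLin_mul, h.comm]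

end env

end Cfsg.Agent.H103.RC.InvT
end

-- part: H188/RC/InvFin
section
/-!
# S3510, type iii, box INV: final step (helper188)

`dead_one` : in characteristic `≠ 2` the twisted environment `T3` has no member of order two fixing the unit.
`dead_inv` : no member of order two.
-/

set_option autoImplicit false
open Cfsg

namespace Cfsg.Agent.H188.RC.Inv

open Module QuadraticMap MulAction
open Cfsg.Agent.LieClassical.OrthCore Cfsg.Agent.LieClassical.OrthTrans
open Cfsg.Agent.LieClassical.OrthSimple Cfsg.Agent.ClassicalGeometry.OrthSemi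
open Cfsg.Agent.ClassicalGeometry.OrthAut1 Cfsg.Agent.H106.RC Cfsg.Agent.H93.RC Cfsg.Agent.H566.RC
open Cfsg.Agent.LieClassical.QuadForms Cfsg.Agent.ClassicalGeometry.TrialityOct
open Cfsg.Agent.ClassicalGeometry.Triality Cfsg.Agent.ClassicalGeometry.TrialitySpaces
open Cfsg.Agent.H198.TriBase Cfsg.Agent.H198.TriAut Cfsg.Agent.H198.TriDia
open Cfsg.Agent.H206.Balance hiding Good
open Cfsg.Agent.H198 Cfsg.Agent.H864.RC
open Cfsg.Agent.LieClassical.SLTwoUnipotent (u l)
open Matrix (SpecialLinearGroup)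
open Cfsg.Agent.UGT.U2.FOne.Orth (Four)
open Cfsg.Agent.H188.RC.IDNormal Cfsg.Agent.H195.RC

variable {F : Type} [Field F]

section env

variable {G Ω ι : Type} [Group G] [MulAction G Ω] {N : Subgroup G} {hG : Good (plusForm 4 F)}
  {κ : P8 F →* G} {s : F ≃+* F} {x₁ : G} {x : ι → G} {r : ι → ℕ} {g : ι → (V8 F ≃ₗ[F] V8 F)}

/-- the conjugate of `rho` -/
noncomputable def mX (φ : G8 F) (X : _root_.Matrix.SpecialLinearGroup (Fin 2) F) : ↥(E (plusForm 4 F)) :=
  conjE _ φ⁻¹ ((four F).rhoE X)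

theorem mX_apply (φ : G8 F) (X : _root_.Matrix.SpecialLinearGroup (Fin 2) F) (v : V8 F) :
    φ.1 ((mX φ X : V8 F ≃ₗ[F] V8 F) v) = (four F).rho X (φ.1 v) := by
  rw [mX, coe_conjE, conjLin_apply]
  have h1 : (φ⁻¹).1 = φ.1.symm := rfl
  have h2 : ((φ⁻¹).1⁻¹ : Equiv.Perm (V8 F)) v = φ.1 v := rfl
  rw [h2, h1]
  exact φ.1.apply_symm_apply _

/-- the embedding of `SL₂(F)` -/
noncomputable def fX (κ : P8 F →* G) (φ : G8 F) : _root_.Matrix.SpecialLinearGroup (Fin 2) F →* G :=
  κ.comp ((Psi (plusForm 4 F) φ⁻¹ : MulAut (P8 F)).toMonoidHom.comp (four F).rhoP)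

theorem fX_apply (κ : P8 F →* G) (φ : G8 F) (X : _root_.Matrix.SpecialLinearGroup (Fin 2) F) : fX κ φ X = up κ (mX φ X) := by
  change κ (Psi (plusForm 4 F) φ⁻¹ ((four F).rhoP X)) = _
  ((conv => enter [@2, @6, @6]; rw [Four.rhoP_apply]); (conv => enter [@2, @6]; rw [Psi_mk]))
  rfl

theorem fX_inj (hG : Good (plusForm 4 F)) (hrp : Rp (plusForm 4 F) N κ) (φ : G8 F) : Function.Injective (fX κ φ) := by
  refine hrp.inj.comp (((Psi (plusForm 4 F) φ⁻¹ : MulAut (P8 F)).injective).comp ((four F).rhoP_injective hG))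

theorem mX_SM {t : V8 F ≃ₗ[F] V8 F} {φ : G8 F} (hφ : TriS φ φ φ) (hφt : ∀ x, φ.1 x ∈ H237.RC.ID.H0 F ↔ x ∈ Fx t)
    (X : _root_.Matrix.SpecialLinearGroup (Fin 2) F) : SM t (mX φ X) := by
  refine ⟨fun a ha => ?_, fun x y => ?_⟩
  · apply φ.1.injective
    rw [mX_apply, rho_fix X ((hφt a).2 ha)]
  · apply φ.1.injective
    rw [mX_apply, hφ, hφ, mX_apply, mX_apply, rho_omul]

theorem exists_mX {t : V8 F ≃ₗ[F] V8 F} {φ : G8 F} (hφ : TriS φ φ φ)
    (hφt : ∀ x, φ.1 x ∈ H237.RC.ID.H0 F ↔ x ∈ Fx t) {m : ↥(E (plusForm 4 F))} (hm : SM t m) :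
    ∃ X : _root_.Matrix.SpecialLinearGroup (Fin 2) F, m = mX φ X := by
  have h1 : ∀ v, (conjE _ φ m : V8 F ≃ₗ[F] V8 F) (φ.1 v) = φ.1 ((m : V8 F ≃ₗ[F] V8 F) v) := fun v => by
    rw [coe_conjE, conjLin_apply']
  obtain ⟨X, hX⟩ := exists_rho (m := (conjE _ φ m : V8 F ≃ₗ[F] V8 F)) (isom_E _) (by
    intro x y
    have hob_ := φ.1.surjective x
    obtain ⟨x, rfl⟩ := hob_
    have hob_ := φ.1.surjective y
    obtain ⟨y, rfl⟩ := hob_
    ((conv => enter [@2, @6]; rw [← hφ]); (conv => enter [@2]; rw [h1]); (conv => enter [@3, @3]; rw [h1]); rewrite [h1, hm.2, hφ]; with_reducible rfl)) (by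
    intro v hv
    have hob_ := φ.1.surjective v
    obtain ⟨v, rfl⟩ := hob_
    rw [h1, hm.1 v ((hφt v).1 hv)])
  refine ⟨X, ?_⟩
  apply Subtype.ext
  apply LinearEquiv.ext
  intro v
  apply φ.1.injective
  rw [mX_apply, ← hX, h1]

/-- `n v = m v - v` for the transvections -/
theorem mX_u {φ : G8 F} (hφl : IsSS (plusForm 4 F) (RingEquiv.refl F) 1 φ.1) (c : F) (v : V8 F) :
    (mX φ (u c) : V8 F ≃ₗ[F] V8 F) v = v + c • ((mX φ (u 1) : V8 F ≃ₗ[F] V8 F) v - v) := by
  apply φ.1.injective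
  rw [mX_apply, hφl.add, hφl.smul, hφl.sub, mX_apply, RingEquiv.refl_apply]
  have h00 : ∀ a : F, (u a : _root_.Matrix.SpecialLinearGroup (Fin 2) F).1 0 0 = 1 := fun a => by simp [u]
  have h01 : ∀ a : F, (u a : _root_.Matrix.SpecialLinearGroup (Fin 2) F).1 0 1 = a := fun a => by simp [u]
  have h10 : ∀ a : F, (u a : _root_.Matrix.SpecialLinearGroup (Fin 2) F).1 1 0 = 0 := fun a => by simp [u]
  have h11 : ∀ a : F, (u a : _root_.Matrix.SpecialLinearGroup (Fin 2) F).1 1 1 = 1 := fun a => by simp [u]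
  apply ext8 <;> simp only [Pi.add_apply, Pi.sub_apply, Pi.smul_apply, smul_eq_mul, rho_l0, rho_l1, rho_l2, rho_l3,
    rho_r0, rho_r1, rho_r2, rho_r3, h00, h01, h10, h11] <;> ring

theorem norm_one8_ne : one8 F ≠ 0 := by
  intro h7
  have h8 := norm_one8 (F := F)
  rw [h7, QuadraticMap.map_zero] at h8
  exact zero_ne_one h8

/-- `x₁` does not centralise -/
theorem x1_nc (h : T3 hG N κ s Ω x₁ x r g) {t : V8 F ≃ₗ[F] V8 F} (h1 : t (one8 F) = one8 F)
    (hts : ∀ v, t (cf s v) = cf s (t v)) {φ : G8 F} (hφ : TriS φ φ φ)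
    (hφl : IsSS (plusForm 4 F) (RingEquiv.refl F) 1 φ.1) (hφt : ∀ x, φ.1 x ∈ H237.RC.ID.H0 F ↔ x ∈ Fx t) :
    ∃ m ∈ (fX κ φ).range, x₁ * m ≠ m * x₁ := by
  by_contra hcon
  push Not at hcon
  have key : ∀ (X : _root_.Matrix.SpecialLinearGroup (Fin 2) F) v,
      (mX φ X : V8 F ≃ₗ[F] V8 F) (cf s v) = cf s ((mX φ X : V8 F ≃ₗ[F] V8 F) v) := by
    intro X v
    have hS := mX_SM (t := t) hφ hφt X
    have hS' := hS.fg h.cube hts
    have e1 := hcon (fX κ φ X) ⟨X, rfl⟩
    rw [← mul_inv_eq_iff_eq_mul, fX_apply, x1_conj h h1 hS] at e1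
    have e2 := h.rp.inj e1
    obtain ⟨c, -, hc⟩ := sign_of_mk_eq hG e2
    have h2 := hc (one8 F)
    rw [hS.1 _ h1, hS'.1 _ h1] at h2
    have h5 : c = 1 := by
      have h6 : (c - 1) • one8 F = 0 := by rw [sub_smul, one_smul, ← h2, sub_self]
      exact sub_eq_zero.1 ((smul_eq_zero.1 h6).resolve_right norm_one8_ne)
    have h7 := hc (cf s v)
    rw [h5, one_smul, conjE_fG h.cube, cf3 h.cube] at h7
    exact h7
  obtain ⟨c, hc⟩ : ∃ c : F, s c ≠ c := by
    by_contra hh
    push Not at hh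
    exact h.ne (RingEquiv.ext hh)
  -- the transvection `u 1` is trivial
  have hn : ∀ v, (mX φ (u 1) : V8 F ≃ₗ[F] V8 F) v - v = 0 := by
    intro v
    have e1 := key (u c) v
    rw [mX_u hφl c, mX_u hφl c v, cf_add, cf_smul, key (u 1)] at e1
    have e2 : cf s ((mX φ (u 1) : V8 F ≃ₗ[F] V8 F) v - v) = cf s ((mX φ (u 1) : V8 F ≃ₗ[F] V8 F) v) - cf s v := by
      funext i; exact map_sub s _ _
    rw [← e2] at e1
    have e3 := add_left_cancel e1
    have e4 : (s c - c) • cf s ((mX φ (u 1) : V8 F ≃ₗ[F] V8 F) v - v) = 0 := by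
      rw [sub_smul, e3, sub_self]
    have e5 := (smul_eq_zero.1 e4).resolve_left (sub_ne_zero.2 hc)
    have e6 := congrArg (fun z => cf s (cf s z)) e5
    simp only [cf3 h.cube] at e6
    rw [e6]
    funext i
    simp [cf]
  have h2 : mX φ (u 1 : _root_.Matrix.SpecialLinearGroup (Fin 2) F) = 1 := by
    apply Subtype.ext
    apply LinearEquiv.ext
    intro v
    exact sub_eq_zero.1 (hn v)
  have h3 : fX κ φ (u 1) = 1 := by rw [fX_apply, h2, map_one]
  have h4 := (map_eq_one_iff _ (fX_inj hG h.rp φ)).1 h3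
  have h5 := congrArg (fun X : _root_.Matrix.SpecialLinearGroup (Fin 2) F => X.1 0 1) h4
  simp [u] at h5

/-- (C) -/
theorem dead_one [Finite F] [Finite G] [Finite ι] [Nonempty Ω] (h : T3 hG N κ s Ω x₁ x r g)
    (hIH : IH (Nat.card N)) (hN : NoN Ω N) (h2 : (2 : F) ≠ 0) (i₀ : ι) (hi : r i₀ = 2)
    (h1 : g i₀ (one8 F) = one8 F) : False := by
  have : Fintype F := Fintype.ofFinite F
  set t := g i₀ with ht
  have htt : ∀ v, t (t v) = v := by
    have h3 := h.pow i₀
    rw [hi, pow_two] at h3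
    intro v
    exact congrArg (fun m : V8 F ≃ₗ[F] V8 F => m v) h3
  have hiso : ∀ v, plusForm 4 F (t v) = plusForm 4 F v := fun v => E_le_O (h.mem i₀).1 v
  have hc : ∀ v, t (oconj v) = oconj (t v) := conj_commE (m := ⟨t, (h.mem i₀).1⟩) h1
  obtain ⟨-, hts, hmul⟩ := aut_of_tw h.cube (n := t) (n' := t) (n'' := t) (h.mem i₀).2 h1 h1 hc
  obtain ⟨φ, hφ, hφl, hφt⟩ := exists_phi h2 htt hiso hmul (h.ne1 i₀) h1
  have hf := fX_inj hG h.rp φ
  -- the order of the field
  obtain ⟨q0, hq0, hq, -⟩ := H256.RC.BQ h.cube h.ne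
  have hcard : 9 < Fintype.card F := by
    rw [← Nat.card_eq_fintype_card, hq]
    have h3 : q0 ≠ 2 := by
      rintro rfl
      have h4 : ((Nat.card F : ℕ) : F) = 0 := by
        rw [Nat.card_eq_fintype_card]
        exact Nat.cast_card_eq_zero F
      rw [hq, Nat.cast_pow] at h4
      exact h2 (by exact_mod_cast pow_eq_zero_iff (n := 3) (by norm_num) |>.1 h4)
    have h4 : 3 ≤ q0 := by omega
    have h5 : 3 ^ 3 ≤ q0 ^ 3 := Nat.pow_le_pow_left h4 3
    omega
  have hcard' : 3 < Fintype.card F := by omega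
  have hMN : (fX κ φ).range ≤ N := by
    rintro _ ⟨X, rfl⟩
    rw [← h.rp.range]
    exact ⟨_, rfl⟩
  have hneg : (-1 : _root_.Matrix.SpecialLinearGroup (Fin 2) F) ≠ 1 := by
    intro h3
    have h4 := congrArg (fun X : _root_.Matrix.SpecialLinearGroup (Fin 2) F => X.1 0 0) h3
    have h5 : (-1 : F) = 1 := by simpa using h4
    apply h2
    linear_combination -h5
  have hne : (fX κ φ).range ≠ N := by
    intro h3
    have h4 : fX κ φ (-1) ∈ Subgroup.centralizer (N : Set G) := by
      rw [Subgroup.mem_centralizer_iff]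
      intro y hy
      rw [SetLike.mem_coe, ← h3] at hy
      obtain ⟨X, rfl⟩ := hy
      rw [← map_mul, ← map_mul]
      congr 1
      rw [neg_one_mul, mul_neg_one]
    rw [h.env.cent, Subgroup.mem_bot] at h4
    exact hneg ((map_eq_one_iff _ hf).1 h4)
  have hx1 := x1_nc h h1 hts hφ hφl hφt
  -- the element of order three
  let y : _root_.Matrix.SpecialLinearGroup (Fin 2) F := ⟨!![0, -1; 1, -1], by rw [Matrix.det_fin_two_of]; ring⟩
  have hy3 : y ^ 3 = 1 := by
    rw [pow_three]
    apply Subtype.ext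
    change (!![0, -1; 1, -1] : Matrix (Fin 2) (Fin 2) F) * (!![0, -1; 1, -1] * !![0, -1; 1, -1]) = 1
    ext i j
    (revert i j; simp only [Matrix.mul_apply, Fin.sum_univ_two, _root_.Fin.forall_fin_succ, _root_.Matrix.cons_mul, _root_.Nat.succ_eq_add_one, Nat.reduceAdd, _root_.Matrix.vecMul_cons, _root_.Matrix.head_cons, _root_.zero_smul, _root_.Matrix.tail_cons, _root_.neg_smul, _root_.one_smul, _root_.Matrix.neg_cons, _root_.neg_neg, _root_.Matrix.neg_empty, _root_.Matrix.empty_vecMul, _root_.add_zero, _root_.zero_add, _root_.Matrix.add_cons, _root_.neg_add_cancel, _root_.Matrix.empty_add_empty, _root_.Matrix.empty_mul, _root_.Equiv.symm_apply_apply, _root_.Matrix.of_apply, _root_.Matrix.cons_val', _root_.Matrix.cons_val_fin_one, Fin.isValue, _root_.Matrix.cons_val_zero, _root_.Matrix.cons_val_one, _root_.mul_neg, _root_.mul_one, _root_.Matrix.cons_val_succ, _root_.MulZeroClass.mul_zero, _root_.IsEmpty.forall_iff, _root_.and_true, _root_.neg_zero, _root_.Matrix.one_apply_eq,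 _root_.Fin.succ_zero_eq_one, _root_.ne_eq, _root_.zero_ne_one, _root_.not_false_eq_true, _root_.Matrix.one_apply_ne, _root_.and_self, _root_.Fin.succ_ne_zero, _root_.true_and])
  have hy1 : y ≠ 1 := by
    intro h3
    have h4 := congrArg (fun X : _root_.Matrix.SpecialLinearGroup (Fin 2) F => X.1 0 0) h3
    simp [y] at h4
  refine H338.RC.n2 h hIH hN hMN hne (H31.RC.perf hcard' (fX κ φ)) (pr (fX κ φ) hf) (pr_surj _ hf) (pr_ker _ hf)
    (Cfsg.Agent.TwoFusion.SLTwoFacts.isSimpleGroup_psl hcard') (H31.RC.psl_ncomm hcard')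
    (Or.inl ⟨F, inferInstance, inferInstance, 2, le_rfl, fun _ => hcard', ⟨MulEquiv.refl _⟩⟩)
    (H31.RC.psl_not_exc hcard) ?_ ?_ hx1 (y := fX κ φ y) ⟨y, rfl⟩ (by rw [← map_pow, hy3, map_one]) ?_
  · apply norm_of_conj
    rintro _ ⟨X, rfl⟩
    obtain ⟨Y, hY⟩ := exists_mX hφ hφt ((mX_SM (t := t) hφ hφt X).fg h.cube hts)
    rw [fX_apply, x1_conj h h1 (mX_SM (t := t) hφ hφt X), hY, ← fX_apply]
    exact ⟨Y, rfl⟩
  · intro i
    apply norm_of_conj
    rintro _ ⟨X, rfl⟩
    obtain ⟨Y, hY⟩ := exists_mX hφ hφt ((mX_SM (t := t) hφ hφt X).aut h.cube h1 hts (c := ⟨g i, (h.mem i).1⟩)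
      (h.mem i) (fun v => congrArg (fun m : V8 F ≃ₗ[F] V8 F => m v) (h.comm i i₀)))
    rw [fX_apply, h.x_eq, ← map_inv, ← map_mul, ← map_mul, hY, ← fX_apply]
    exact ⟨Y, rfl⟩
  · intro h3
    exact hy1 ((map_eq_one_iff _ hf).1 h3)

/-- **INV** -/
theorem dead_inv [Finite F] [Finite G] [Finite ι] [Nonempty Ω] (h : T3 hG N κ s Ω x₁ x r g)
    (hIH : IH (Nat.card N)) (hN : NoN Ω N) (h2 : (2 : F) ≠ 0) (i₀ : ι) (hi : r i₀ = 2) : False := by
  have htt : g i₀ * g i₀ = 1 := by
    have := h.pow i₀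
    rwa [hi, pow_two] at this
  obtain ⟨e, he0, hte, he⟩ := H510.Tri3.exists_idem h.cube h.ne h2 (h.mem i₀) htt
  obtain ⟨D, hD1, hD, hD2⟩ := H103.RC.InvD.exists_D hG h.cube h.ne he0 he
  obtain ⟨κ', g', h', hg'⟩ := H103.RC.InvT.transport h hD hD2
  refine dead_one h' hIH hN h2 i₀ hi ?_
  rw [← hD1, hg', hte]

end env

end Cfsg.Agent.H188.RC.Inv
end

private theorem dce_8256eff59adb : _root_.True := by
  try have : _root_.True := by simp only [_root_.Cfsg.Agent.H188.RC.Inv.mX.eq_1]
  try have : _root_.True := by simp only [_root_.Cfsg.Agent.UGT.U2.FOne.Orth.Four.rho.congr_simp]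
  exact _root_.True.intro
end

-- part: H93/RC/BoxH
section
prune_inst 0x14600100700002000000801422000020480005020000080020a00f060308a000c44200001e902402188000004000000010100020004000000400040000180100008010048008a000020088000000000000000000000000000000000000010000000000000
set_option linter.all false
open scoped Cfsg.Agent.FastGrp

-- part: H595/RC/Quad
section
/-!
# S3510, row F, box G1 (helper595): the quadratic subfield of a finite field with an involution
-/

set_option autoImplicit false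

namespace Cfsg.Agent.H595.RC

open Module

/-- a finite field with an involution `τ` over `F` contains the field with `q²` elements -/
theorem exists_quad {F K : Type} [Field F] [Finite F] [Field K] [Finite K] [Algebra F K] (τ : K ≃ₐ[F] K)
    (h2 : ∀ x, τ (τ x) = x) (h1 : ∃ x, τ x ≠ x) :
    ∃ (κ : K) (s t : F), κ * κ = s • κ - t • 1 ∧ (∀ a : F, a * a - s * a + t ≠ 0) ∧
      (∀ a : F, κ ≠ a • 1) ∧ ((τ κ = κ ∧ ∀ x, τ x ≠ x → ∀ a b c d : F,
        a • 1 + b • κ + c • x + d • (κ * x) = 0 → a = 0 ∧ b = 0 ∧ c = 0 ∧ d = 0) ∨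
        (κ * τ κ = t • 1 ∧ τ κ = s • 1 - κ)) := by
  classical
  obtain ⟨p, hp⟩ := CharP.exists F
  have hpp : Fact p.Prime := ⟨CharP.char_is_prime F p⟩
  have hfin : FiniteDimensional F K := Module.Finite.of_finite
  -- the degree is even
  have hdvd : 2 ∣ finrank F K := by
    rw [← IsGalois.card_aut_eq_finrank F K]
    have ho : orderOf τ = 2 := by
      apply orderOf_eq_prime
      · ext x
        rw [pow_two]
        exact h2 x
      · rintro rfl
        obtain ⟨x, hx⟩ := h1
        exact hx rfl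
    rw [← ho]
    exact orderOf_dvd_natCard τ
  let L := FiniteField.Extension F p 2
  have hL : finrank F L = 2 := FiniteField.finrank_extension F p 2
  obtain ⟨φ⟩ : Nonempty (L →ₐ[F] K) := FiniteField.nonempty_algHom_of_finrank_dvd (by rw [hL]; exact hdvd)
  -- an element outside of `F`
  obtain ⟨κ, hκ⟩ : ∃ κ : L, ∀ a : F, κ ≠ a • 1 := by
    by_contra hno
    push Not at hno
    have h3 : finrank F L ≤ 1 := finrank_le_one (1 : L) fun w => by
      obtain ⟨a, ha⟩ := hno w
      exact ⟨a, ha.symm⟩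
    omega
  have hsp : ∃ s t : F, κ * κ = s • κ - t • 1 := by
    have h3 : ¬ LinearIndependent F ![(1 : L), κ, κ * κ] := by
      intro h
      have := h.fintype_card_le_finrank
      rw [hL] at this
      simp at this
    rw [Fintype.linearIndependent_iff] at h3
    push Not at h3
    obtain ⟨g, hg, i, hi⟩ := h3
    simp only [Fin.sum_univ_three, Matrix.cons_val_zero, Matrix.cons_val_one, Matrix.cons_val] at hg
    have hg2 : g 2 ≠ 0 := by
      intro h0
      rw [h0, zero_smul, add_zero] at hg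
      by_cases h10 : g 1 = 0
      · rw [h10, zero_smul, add_zero] at hg
        have h00 : g 0 = 0 := by
          rcases smul_eq_zero.mp hg with h | h
          · exact h
          · exact absurd h one_ne_zero
        fin_cases i
        · exact hi h00
        · exact hi h10
        · exact hi h0
      · apply hκ (-(g 1)⁻¹ * g 0)
        have h4 : g 1 • κ = -(g 0 • (1 : L)) := by
          rw [eq_neg_iff_add_eq_zero, add_comm]; exact hg
        have h5 : κ = (g 1)⁻¹ • (g 1 • κ) := by rw [smul_smul, inv_mul_cancel₀ h10, one_smul]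
        rw [h5, h4, smul_neg, smul_smul, neg_mul, neg_smul]
    refine ⟨-(g 2)⁻¹ * g 1, (g 2)⁻¹ * g 0, ?_⟩
    have h4 : g 2 • (κ * κ) = -(g 1 • κ) - g 0 • (1 : L) := by
      rw [← sub_eq_zero, ← hg]; abel
    have h5 : κ * κ = (g 2)⁻¹ • (g 2 • (κ * κ)) := by rw [smul_smul, inv_mul_cancel₀ hg2, one_smul]
    rw [h5, h4, smul_sub, smul_neg, smul_smul, smul_smul, neg_mul, neg_smul]
  obtain ⟨s, t, hst⟩ := hsp
  have hirr : ∀ a : F, a * a - s * a + t ≠ 0 := by
    intro a ha
    have h3 : (κ - a • 1) * (κ - (s - a) • 1) = 0 := by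
      have h4 : (κ - a • 1) * (κ - (s - a) • 1) = κ * κ - s • κ + (a * (s - a)) • (1 : L) := by
        simp only [Algebra.smul_def, mul_one, map_sub, map_mul]
        ring
      rw [h4, hst]
      have h5 : a * (s - a) = t := by linear_combination -ha
      rw [h5]
      abel
    rcases mul_eq_zero.mp h3 with h | h
    · exact hκ _ (sub_eq_zero.mp h)
    · exact hκ _ (sub_eq_zero.mp h)
  have hφ : φ κ * φ κ = s • φ κ - t • 1 := by
    rw [← map_mul, hst, map_sub, map_smul, map_smul, map_one]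
  have hnF : ∀ a : F, φ κ ≠ a • 1 := by
    intro a ha
    apply hκ a
    have hinj : Function.Injective φ := (φ : L →+* K).injective
    apply hinj
    rw [ha, map_smul, map_one]
  have hzero : ∀ a b : F, a • 1 + b • φ κ = 0 → a = 0 ∧ b = 0 := by
    intro a b hab
    have hb : b = 0 := by
      by_contra hb
      apply hnF (-(b⁻¹ * a))
      have h3 : b • φ κ = -(a • (1 : K)) := by rw [eq_neg_iff_add_eq_zero, add_comm]; exact hab
      have h4 : φ κ = b⁻¹ • (b • φ κ) := by rw [smul_smul, inv_mul_cancel₀ hb, one_smul]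
      rw [h4, h3, smul_neg, smul_smul, neg_smul]
    rw [hb, zero_smul, add_zero] at hab
    rcases smul_eq_zero.mp hab with h | h
    · exact ⟨h, hb⟩
    · exact absurd h one_ne_zero
  refine ⟨φ κ, s, t, hφ, hirr, hnF, ?_⟩
  · have hτ : τ (φ κ) * τ (φ κ) = s • τ (φ κ) - t • 1 := by
      rw [← map_mul, hφ, map_sub, map_smul, map_smul, map_one]
    have h3 : (τ (φ κ) - φ κ) * (τ (φ κ) - (s • 1 - φ κ)) = 0 := by
      have h4 : (τ (φ κ) - φ κ) * (τ (φ κ) - (s • 1 - φ κ))
          = τ (φ κ) * τ (φ κ) - s • τ (φ κ) - (φ κ * φ κ - s • φ κ) := by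
        simp only [Algebra.smul_def, mul_one]
        ring
      rw [h4, hτ, hφ]
      abel
    rcases mul_eq_zero.mp h3 with h | h
    · left
      have hτκ := sub_eq_zero.mp h
      refine ⟨hτκ, fun x hx a b c d habcd => ?_⟩
      have h4 : c • 1 + d • φ κ = 0 := by
        by_contra hy
        apply hx
        have h5 : x = -((c • 1 + d • φ κ)⁻¹ * (a • 1 + b • φ κ)) := by
          have h6 : (c • 1 + d • φ κ) * x = -(a • 1 + b • φ κ) := by
            rw [eq_neg_iff_add_eq_zero, ← habcd]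
            simp only [Algebra.smul_def, mul_one]
            ring
          rw [← mul_neg, ← h6, inv_mul_cancel_left₀ hy]
        rw [h5, map_neg, map_mul, map_inv₀, map_add, map_add, map_smul, map_smul, map_smul, map_smul, map_one, hτκ]
      have h7 : a • 1 + b • φ κ = 0 := by
        have h8 : a • 1 + b • φ κ + (c • 1 + d • φ κ) * x = 0 := by
          rw [← habcd]
          simp only [Algebra.smul_def, mul_one]
          ring
        rw [h4, zero_mul, add_zero] at h8
        exact h8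
      exact ⟨(hzero a b h7).1, (hzero a b h7).2, (hzero c d h4).1, (hzero c d h4).2⟩
    · right
      have h4 := sub_eq_zero.mp h
      refine ⟨?_, h4⟩
      rw [h4, mul_sub, mul_smul_comm, mul_one, hφ]
      abel

/-- the same for a commutative ring which is a field -/
theorem exists_quad' {F A : Type} [Field F] [Finite F] [CommRing A] [Finite A] [Algebra F A] (hA : IsField A)
    (τ : A ≃ₐ[F] A) (h2 : ∀ x, τ (τ x) = x) (h1 : ∃ x, τ x ≠ x) :
    ∃ (κ : A) (s t : F), κ * κ = s • κ - t • 1 ∧ (∀ a : F, a * a - s * a + t ≠ 0) ∧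
      (∀ a : F, κ ≠ a • 1) ∧ ((τ κ = κ ∧ ∀ x, τ x ≠ x → ∀ a b c d : F,
        a • 1 + b • κ + c • x + d • (κ * x) = 0 → a = 0 ∧ b = 0 ∧ c = 0 ∧ d = 0) ∨
        (κ * τ κ = t • 1 ∧ τ κ = s • 1 - κ)) :=
  @exists_quad F A _ _ hA.toField _ _ τ h2 h1

end Cfsg.Agent.H595.RC
end

-- part: H595/RC/G1
section
/-!
# S3510, row F, box G1 (helper595): structure of a commuting family of isometries of `p'`-order
-/

set_option autoImplicit false

namespace Cfsg.Agent.H595.RC

open QuadraticMap Module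
open Cfsg.Agent.LieClassical.OrthCore

section alg

variable {F V : Type} [Field F] [AddCommGroup V] [Module F V] {Q : QuadraticForm F V}
  {ι : Type} (T : ι → V ≃ₗ[F] V)

/-- `D` is preserved by everything commuting with the `T i` -/
def BicInv (T : ι → V ≃ₗ[F] V) (D : Submodule F V) : Prop :=
  ∀ f : V →ₗ[F] V, (∀ i v, f (T i v) = T i (f v)) → ∀ v ∈ D, f v ∈ D

/-- the algebra generated by the family -/
abbrev AA : Subalgebra F (V →ₗ[F] V) := Algebra.adjoin F (Set.range fun i => ((T i : V →ₗ[F] V)))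

variable {T}

theorem T_mem (i : ι) : (T i : V →ₗ[F] V) ∈ AA T := Algebra.subset_adjoin ⟨i, rfl⟩

/-- a map commuting with the `T i` commutes with the algebra -/
theorem comm_AA {f : V →ₗ[F] V} (hf : ∀ i v, f (T i v) = T i (f v)) {g : V →ₗ[F] V} (hg : g ∈ AA T) :
    f * g = g * f := by
  refine Algebra.commute_of_mem_adjoin_of_forall_mem_commute hg ?_
  rintro _ ⟨i, rfl⟩
  exact LinearMap.ext fun v => hf i v

theorem comm_T (hc : ∀ i j, T i * T j = T j * T i) {g : V →ₗ[F] V} (hg : g ∈ AA T) (i : ι) (v : V) :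
    g (T i v) = T i (g v) := by
  have h := comm_AA (T := T) (f := (T i : V →ₗ[F] V)) (fun j w => congrArg (fun e : V ≃ₗ[F] V => e w) (hc i j)) hg
  exact (congrArg (fun e : V →ₗ[F] V => e v) h).symm

theorem comm_AA2 (hc : ∀ i j, T i * T j = T j * T i) {f g : V →ₗ[F] V} (hf : f ∈ AA T) (hg : g ∈ AA T) :
    f * g = g * f := comm_AA (comm_T hc hf) hg

/-- every element of the algebra is equal to a power of itself -/
theorem exists_pow [Finite F] [Nontrivial V] {p : ℕ} [CharP F p] [Finite ι] {r : ι → ℕ} (hr : ∀ i, (r i).Prime)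
    (hrp : ∀ i, r i ≠ p) (hpow : ∀ i, T i ^ r i = 1) (hc : ∀ i j, T i * T j = T j * T i) :
    ∃ m : ℕ, 2 ≤ m ∧ ∀ f ∈ AA T, f ^ m = f := by
  classical
  have := Fintype.ofFinite ι
  have := Fintype.ofFinite F
  have hpp : Fact p.Prime := ⟨CharP.char_is_prime F p⟩
  obtain ⟨⟨k, hk0⟩, -, hk⟩ := FiniteField.card F p
  simp only [PNat.mk_coe] at hk
  have hN : 0 < ∏ i, (r i - 1) := Finset.prod_pos fun i _ => Nat.sub_pos_of_lt (hr i).one_lt
  set N := ∏ i, (r i - 1) with hNdef
  refine ⟨(Fintype.card F) ^ N, ?_, ?_⟩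
  · calc 2 ≤ Fintype.card F := Fintype.one_lt_card
      _ = (Fintype.card F) ^ 1 := (pow_one _).symm
      _ ≤ (Fintype.card F) ^ N := Nat.pow_le_pow_right Fintype.card_pos hN
  -- the power is a ring homomorphism on the algebra
  have hm : (Fintype.card F) ^ N = p ^ (k * N) := by rw [hk, ← pow_mul]
  have hchar : CharP (V →ₗ[F] V) p := charP_of_injective_algebraMap (algebraMap F (V →ₗ[F] V)).injective p
  intro f hf
  induction hf using Algebra.adjoin_induction with
  | mem x hx =>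
    obtain ⟨i, rfl⟩ := hx
    have h1 : Fintype.card F ^ N ≡ 1 [MOD r i] := by
      have hcop : Nat.Coprime (Fintype.card F) (r i) := by
        rw [hk]
        apply Nat.Coprime.pow_left
        exact (Nat.coprime_primes hpp.out (hr i)).mpr (hrp i).symm
      have h2 := Nat.ModEq.pow_totient hcop
      rw [Nat.totient_prime (hr i)] at h2
      obtain ⟨l, hl⟩ : r i - 1 ∣ N := Finset.dvd_prod_of_mem _ (Finset.mem_univ i)
      rw [hl, pow_mul]
      simpa using h2.pow l
    have h3 : T i ^ (Fintype.card F ^ N) = T i := by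
      have h4 : T i ^ (Fintype.card F ^ N) = T i ^ 1 := by
        rw [pow_eq_pow_iff_modEq]
        exact h1.of_dvd (orderOf_dvd_of_pow_eq_one (hpow i))
      rw [h4, pow_one]
    have h5 : ∀ n : ℕ, ((T i : V →ₗ[F] V)) ^ n = ((T i ^ n : V ≃ₗ[F] V) : V →ₗ[F] V) := by
      intro n
      induction n with
      | zero => rfl
      | succ n ih => rw [pow_succ, ih, pow_succ]; rfl
    rw [h5, h3]
  | algebraMap a =>
    rw [← map_pow, FiniteField.pow_card_pow]
  | add x y hx hy ihx ihy =>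
    rw [hm] at ihx ihy ⊢
    have h1 : Commute x y := comm_AA2 hc hx hy
    rw [add_pow_char_pow_of_commute _ _ h1, ihx, ihy]
  | mul x y hx hy ihx ihy =>
    have h1 : Commute x y := comm_AA2 hc hx hy
    rw [h1.mul_pow, ihx, ihy]

/-- adjoints -/
def Adj (Q : QuadraticForm F V) (f g : V →ₗ[F] V) : Prop := ∀ v w, polar Q (f v) w = polar Q v (g w)

theorem Adj.symm {f g : V →ₗ[F] V} (h : Adj Q f g) : Adj Q g f := fun v w => by
  rw [polar_comm, ← h, polar_comm]

theorem Adj.unique (hQ : Nondeg Q) {f g g' : V →ₗ[F] V} (h : Adj Q f g) (h' : Adj Q f g') : g = g' := by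
  apply LinearMap.ext
  intro w
  rw [← sub_eq_zero]
  apply hQ
  intro v
  rw [polar_comm, polar_sub_right, ← h, ← h', sub_self]

theorem Adj.mul {f g f' g' : V →ₗ[F] V} (h : Adj Q f g) (h' : Adj Q f' g') : Adj Q (f * f') (g' * g) := fun v w => by
  show polar Q (f (f' v)) w = polar Q v (g' (g w))
  rw [h, h']

theorem Adj.add {f g f' g' : V →ₗ[F] V} (h : Adj Q f g) (h' : Adj Q f' g') : Adj Q (f + f') (g + g') := fun v w => by
  show polar Q (f v + f' v) w = polar Q v (g w + g' w)
  rw [polar_add_left, polar_add_right, h, h']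

theorem Adj.sub {f g f' g' : V →ₗ[F] V} (h : Adj Q f g) (h' : Adj Q f' g') : Adj Q (f - f') (g - g') := fun v w => by
  show polar Q (f v - f' v) w = polar Q v (g w - g' w)
  rw [polar_sub_left, polar_sub_right, h, h']

theorem Adj.algebraMap (a : F) : Adj Q (algebraMap F (V →ₗ[F] V) a) (algebraMap F (V →ₗ[F] V) a) := fun v w => by
  show polar Q (a • v) w = polar Q v (a • w)
  rw [polar_smul_left, polar_smul_right]

theorem Adj.one : Adj Q (1 : V →ₗ[F] V) 1 := fun _ _ => rfl

theorem Adj.of_O {g : V ≃ₗ[F] V} (hg : g ∈ O Q) : Adj Q (g : V →ₗ[F] V) ((g⁻¹ : V ≃ₗ[F] V) : V →ₗ[F] V) := fun v w => by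
  have h := polar_map hg v (g⁻¹ w)
  have h2 : g (g⁻¹ w) = w := g.apply_symm_apply w
  rw [h2] at h
  exact h

theorem exists_adj {r : ι → ℕ} (hr : ∀ i, (r i).Prime) (hO : ∀ i, T i ∈ O Q) (hpow : ∀ i, T i ^ r i = 1)
    {f : V →ₗ[F] V} (hf : f ∈ AA T) : ∃ g ∈ AA T, Adj Q f g := by
  induction hf using Algebra.adjoin_induction with
  | mem x hx =>
    obtain ⟨i, rfl⟩ := hx
    refine ⟨_, ?_, Adj.of_O (hO i)⟩
    have h5 : ∀ n : ℕ, ((T i : V →ₗ[F] V)) ^ n = ((T i ^ n : V ≃ₗ[F] V) : V →ₗ[F] V) := by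
      intro n
      induction n with
      | zero => rfl
      | succ n ih => rw [pow_succ, ih, pow_succ]; rfl
    have h6 : (T i)⁻¹ = T i ^ (r i - 1) := by
      rw [inv_eq_iff_mul_eq_one, ← pow_succ', Nat.sub_add_cancel (hr i).one_lt.le, hpow]
    rw [h6, ← h5]
    exact pow_mem (T_mem i) _
  | algebraMap a => exact ⟨_, Subalgebra.algebraMap_mem _ a, Adj.algebraMap a⟩
  | add x y hx hy ihx ihy =>
    obtain ⟨g, hg, h⟩ := ihx
    obtain ⟨g', hg', h'⟩ := ihy
    exact ⟨g + g', add_mem hg hg', h.add h'⟩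
  | mul x y hx hy ihx ihy =>
    obtain ⟨g, hg, h⟩ := ihx
    obtain ⟨g', hg', h'⟩ := ihy
    exact ⟨g' * g, mul_mem hg' hg, h.mul h'⟩

end alg

section main

variable {F V : Type} [Field F] [AddCommGroup V] [Module F V] {Q : QuadraticForm F V}
  {ι : Type} {T : ι → V ≃ₗ[F] V}

/-- support idempotents -/
theorem exists_supp {m : ℕ} (hm2 : 2 ≤ m) (hm : ∀ f ∈ AA T, f ^ m = f) {f : V →ₗ[F] V} (hf : f ∈ AA T) :
    ∃ e ∈ AA T, ∃ g ∈ AA T, e * e = e ∧ e * f = f ∧ f * e = f ∧ f * g = e ∧ g * f = e := by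
  obtain ⟨k, rfl⟩ := Nat.exists_eq_add_of_le hm2
  have h := hm f hf
  have e1 : f ^ (k + 1) * f = f := by rw [← pow_succ, ← h]; congr 1; omega
  have e2 : f * f ^ (k + 1) = f := by rw [← pow_succ', ← h]; congr 1; omega
  refine ⟨f ^ (k + 1), pow_mem hf _, f ^ k, pow_mem hf _, ?_, e1, e2, (pow_succ' f k).symm, (pow_succ f k).symm⟩
  calc f ^ (k + 1) * f ^ (k + 1) = f ^ k * (f * f ^ (k + 1)) := by rw [← mul_assoc, ← pow_succ]
    _ = f ^ (k + 1) := by rw [e2, ← pow_succ]

/-- `T - 1` is invertible if there are no self-adjoint idempotents -/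
theorem exists_inv {m : ℕ} (hQ : Nondeg Q) (hm2 : 2 ≤ m) (hm : ∀ f ∈ AA T, f ^ m = f) {r : ι → ℕ}
    (hO : ∀ i, T i ∈ O Q) (hr : ∀ i, (r i).Prime)
    (hpow : ∀ i, T i ^ r i = 1)
    (hno : ∀ e ∈ AA T, e * e = e → Adj Q e e → e = 0 ∨ e = 1) (i : ι) (hi : T i ≠ 1) :
    ∃ g ∈ AA T, ∀ v, T i (g v) - g v = v := by
  set f : V →ₗ[F] V := (T i : V →ₗ[F] V) - 1 with hfdef
  have hf : f ∈ AA T := sub_mem (T_mem i) (one_mem _)
  obtain ⟨e, he, g, hg, hee, hef, hfe, hfg, hgf⟩ := exists_supp hm2 hm hf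
  -- the adjoint of `f`
  have hf' : Adj Q f (((T i)⁻¹ : V ≃ₗ[F] V) - 1 : V →ₗ[F] V) := (Adj.of_O (hO i)).sub Adj.one
  have hf'2 : (((T i)⁻¹ : V ≃ₗ[F] V) - 1 : V →ₗ[F] V) = -((((T i)⁻¹ : V ≃ₗ[F] V) : V →ₗ[F] V) * f) := by
    apply LinearMap.ext
    intro v
    show (T i)⁻¹ v - v = -((T i)⁻¹ (T i v - v))
    rw [map_sub]
    have : (T i)⁻¹ (T i v) = v := (T i).symm_apply_apply v
    rw [this]
    abel
  obtain ⟨g', hg', hgg'⟩ := exists_adj hr hO hpow hg
  have hadj : Adj Q e (g' * (((T i)⁻¹ : V ≃ₗ[F] V) - 1 : V →ₗ[F] V)) := by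
    rw [← hfg]; exact hf'.mul hgg'
  set e' : V →ₗ[F] V := g' * (((T i)⁻¹ : V ≃ₗ[F] V) - 1 : V →ₗ[F] V) with he'
  have h1 : e' * e = e' := by
    rw [he', hf'2, mul_assoc, neg_mul, mul_assoc, hfe]
  have h2 : Adj Q e' e' := by
    have := hadj.mul hadj.symm
    have h3 : Adj Q (e' * e) (e' * e) := hadj.symm.mul hadj
    rwa [h1] at h3
  have h3 : e' = e := Adj.unique hQ h2 hadj.symm
  rw [h3] at hadj
  rcases hno e he hee hadj with h | h
  · exfalso
    apply hi
    rw [h, zero_mul] at hef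
    apply LinearEquiv.toLinearMap_injective
    exact (sub_eq_zero.mp hef.symm)
  · refine ⟨g, hg, fun v => ?_⟩
    rw [h] at hfg
    exact congrArg (fun z : V →ₗ[F] V => z v) hfg

/-- the alternative for idempotents -/
theorem idem_alt (hQ : Nondeg Q) {r : ι → ℕ} (hO : ∀ i, T i ∈ O Q) (hr : ∀ i, (r i).Prime)
    (hpow : ∀ i, T i ^ r i = 1) (hc : ∀ i j, T i * T j = T j * T i)
    (hno : ∀ e ∈ AA T, e * e = e → Adj Q e e → e = 0 ∨ e = 1) {e : V →ₗ[F] V} (he : e ∈ AA T) (hee : e * e = e)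
    (h0 : e ≠ 0) (h1 : e ≠ 1) : Adj Q e (1 - e) := by
  have key : ∀ e ∈ AA T, e * e = e → e ≠ 1 → ∀ e' ∈ AA T, Adj Q e e' → e * e' = 0 := by
    intro e he hee h1 e' he' h
    have hcomm := comm_AA2 hc he he'
    have he'2 : e' * e' = e' := by
      apply Adj.unique hQ (f := e) _ h
      have := h.mul h
      rwa [hee] at this
    rcases hno (e * e') (mul_mem he he') (by
      calc e * e' * (e * e') = e * (e' * e) * e' := by simp only [mul_assoc]
        _ = (e * e) * (e' * e') := by rw [← hcomm]; simp only [mul_assoc]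
        _ = e * e' := by rw [hee, he'2]) (h.mul h.symm) with h3 | h3
    · exact h3
    · exfalso
      apply h1
      calc e = e * (e * e') := by rw [h3, mul_one]
        _ = e * e' := by rw [← mul_assoc, hee]
        _ = 1 := h3
  obtain ⟨e', he', h⟩ := exists_adj hr hO hpow he
  have h2 := key e he hee h1 e' he' h
  have h3 := key (1 - e) (sub_mem (one_mem _) he) (by
    rw [mul_sub, mul_one, sub_mul, one_mul, hee, sub_self, sub_zero]) (by
      intro h4
      apply h0
      rw [sub_eq_self] at h4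
      exact h4) (1 - e') (sub_mem (one_mem _) he') (Adj.one.sub h)
  have h4 : e' = 1 - e := by
    rw [mul_sub, mul_one, sub_mul, one_mul, h2, sub_zero] at h3
    rw [← sub_eq_zero, ← neg_eq_zero, ← h3]
    abel
  rw [← h4]
  exact h

/-- the case of two totally singular subspaces -/
theorem caseB {m : ℕ} (hQ : Nondeg Q) (hm2 : 2 ≤ m) (hm : ∀ f ∈ AA T, f ^ m = f) {r : ι → ℕ}
    (hO : ∀ i, T i ∈ O Q) (hr : ∀ i, (r i).Prime)
    (hpow : ∀ i, T i ^ r i = 1) (hc : ∀ i j, T i * T j = T j * T i)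
    (hno : ∀ e ∈ AA T, e * e = e → Adj Q e e → e = 0 ∨ e = 1) (i : ι) (hi : T i ≠ 1)
    {e : V →ₗ[F] V} (he : e ∈ AA T) (hee : e * e = e) (h0 : e ≠ 0) (h1 : e ≠ 1) :
    ∃ W W' : Submodule F V, IsCompl W W' ∧ (∀ v ∈ W, Q v = 0) ∧ (∀ v ∈ W', Q v = 0) ∧
      (∀ f : V →ₗ[F] V, (∀ i v, f (T i v) = T i (f v)) → ∀ v ∈ W, f v ∈ W) ∧
      (∀ f : V →ₗ[F] V, (∀ i v, f (T i v) = T i (f v)) → ∀ v ∈ W', f v ∈ W') ∧
      (∀ v ∈ W, v ≠ 0 → ∀ f ∈ AA T, f v = 0 → ∀ w ∈ W, f w = 0) := by
  obtain ⟨g, hg, hgv⟩ := exists_inv hQ hm2 hm hO hr hpow hno i hi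
  have hadj := idem_alt hQ hO hr hpow hc hno he hee h0 h1
  have hee' : ∀ v, e (e v) = e v := fun v => congrArg (fun z : V →ₗ[F] V => z v) hee
  -- `Q` vanishes on totally isotropic subspaces stable under `T i` and `g`
  have hQ0 : ∀ (P : V → Prop), (∀ v, P v → P (g v)) → (∀ v, P v → P (T i v)) →
      (∀ v w, P v → P w → polar Q v w = 0) → ∀ v, P v → Q v = 0 := by
    intro P hPg hPT hPP v hv
    have h2 : Q (T i (g v) - g v) = 0 := by
      rw [sub_eq_add_neg, Q_add, QuadraticMap.map_neg, polar_neg_right, hPP _ _ (hPT _ (hPg _ hv)) (hPg _ hv),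
        mem_O.mp (hO i)]
      have h3 := hPP _ _ (hPg _ hv) (hPg _ hv)
      rw [polar_self'] at h3
      linear_combination h3
    rwa [hgv] at h2
  have hWg : ∀ v, e v = v → e (g v) = g v := fun v hv => by
    have := congrArg (fun z : V →ₗ[F] V => z v) (comm_AA2 hc he hg)
    change e (g v) = g (e v) at this
    rw [this, hv]
  have hW'g : ∀ v, e v = 0 → e (g v) = 0 := fun v hv => by
    have := congrArg (fun z : V →ₗ[F] V => z v) (comm_AA2 hc he hg)
    change e (g v) = g (e v) at this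
    rw [this, hv, map_zero]
  refine ⟨LinearMap.ker (1 - e), LinearMap.ker e, ?_, ?_, ?_, ?_, ?_, ?_⟩
  · constructor
    · rw [Submodule.disjoint_def]
      intro v hv hv'
      rw [LinearMap.mem_ker] at hv hv'
      have h2 : v - e v = 0 := hv
      rw [hv', sub_zero] at h2
      exact h2
    · rw [codisjoint_iff, eq_top_iff]
      intro v _
      rw [Submodule.mem_sup]
      refine ⟨e v, ?_, v - e v, ?_, by abel⟩
      · rw [LinearMap.mem_ker]
        show e v - e (e v) = 0
        rw [hee', sub_self]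
      · rw [LinearMap.mem_ker, map_sub, hee', sub_self]
  · intro v hv
    have hv' : e v = v := (sub_eq_zero.mp (LinearMap.mem_ker.mp hv : v - e v = 0)).symm
    refine hQ0 (fun v => e v = v) hWg (fun v hv => ?_) (fun v w hv hw => ?_) v hv'
    · rw [comm_T hc he, hv]
    · rw [← hv, hadj]
      show polar Q v (w - e w) = 0
      rw [hw, sub_self, polar_zero_right]
  · intro v hv
    refine hQ0 (fun v => e v = 0) hW'g (fun v hv => ?_) (fun v w hv hw => ?_) v (LinearMap.mem_ker.mp hv)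
    · rw [comm_T hc he, hv, map_zero]
    · have h2 := hadj v w
      rw [hv, polar_zero_left] at h2
      have h3 : (1 - e) w = w := by
        show w - e w = w
        rw [hw, sub_zero]
      rw [h3] at h2
      exact h2.symm
  · intro f hf v hv
    rw [LinearMap.mem_ker] at hv ⊢
    have h2 := congrArg (fun z : V →ₗ[F] V => z v) (comm_AA hf he)
    change f (e v) = e (f v) at h2
    have hv' : e v = v := (sub_eq_zero.mp (hv : v - e v = 0)).symm
    show f v - e (f v) = 0
    rw [← h2, hv', sub_self]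
  · intro f hf v hv
    rw [LinearMap.mem_ker] at hv ⊢
    have h2 := congrArg (fun z : V →ₗ[F] V => z v) (comm_AA hf he)
    change f (e v) = e (f v) at h2
    rw [← h2, hv, map_zero]
  · intro v hv hv0 f hf hfv w hw
    have hv' : e v = v := (sub_eq_zero.mp (LinearMap.mem_ker.mp hv : v - e v = 0)).symm
    have hw' : e w = w := (sub_eq_zero.mp (LinearMap.mem_ker.mp hw : w - e w = 0)).symm
    obtain ⟨c, hcA, k, hk, hcc, hcf, hfc, hfk, hkf⟩ := exists_supp hm2 hm hf
    have hce := comm_AA2 hc hcA he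
    have hidem : c * e * (c * e) = c * e := by
      calc c * e * (c * e) = c * (e * c) * e := by simp only [mul_assoc]
        _ = (c * c) * (e * e) := by rw [← hce]; simp only [mul_assoc]
        _ = c * e := by rw [hcc, hee]
    by_cases h3 : c * e = 0
    · calc f w = (f * c) (e w) := by rw [hfc, hw']
        _ = f ((c * e) w) := rfl
        _ = 0 := by rw [h3]; simp
    · exfalso
      have h4 : c * e ≠ 1 := by
        intro h4
        apply h1
        calc e = (c * e) * e := by rw [h4, one_mul]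
          _ = c * e := by rw [mul_assoc, hee]
          _ = 1 := h4
      have h5 := idem_alt hQ hO hr hpow hc hno (mul_mem hcA he) hidem h3 h4
      -- the adjoint of `c e` is `(1 - e) c'`
      obtain ⟨c', hc', hcc'⟩ := exists_adj hr hO hpow hcA
      have h6 : 1 - c * e = (1 - e) * c' := Adj.unique hQ h5 (hcc'.mul hadj)
      have h7 : (1 - c * e) * e = 0 := by
        rw [h6, mul_assoc, ← comm_AA2 hc he hc', ← mul_assoc, sub_mul, one_mul, hee, sub_self, zero_mul]
      have h8 : e = c * e := by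
        rw [sub_mul, one_mul, mul_assoc, hee, sub_eq_zero] at h7
        exact h7
      apply hv0
      calc v = e v := hv'.symm
        _ = (c * e) v := by rw [← h8]
        _ = c (e v) := rfl
        _ = (k * f) v := by rw [hv', hkf]
        _ = k (f v) := rfl
        _ = 0 := by rw [hfv, map_zero]

/-- the field case -/
theorem caseK [Finite F] [FiniteDimensional F V] {m : ℕ} (hQ : Nondeg Q) (hm2 : 2 ≤ m) (hm : ∀ f ∈ AA T, f ^ m = f)
    {r : ι → ℕ} (hO : ∀ i, T i ∈ O Q) (hr : ∀ i, (r i).Prime)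
    (hpow : ∀ i, T i ^ r i = 1) (hc : ∀ i j, T i * T j = T j * T i)
    (hno : ∀ e ∈ AA T, e * e = e → e = 0 ∨ e = 1) (i : ι) (hi : T i ≠ 1) (hi' : ∃ v, T i v ≠ -v) :
    (∃ (κ : V →ₗ[F] V) (s t : F), κ ∈ AA T ∧
      (∀ v, κ (κ v) = s • κ v - t • v) ∧ (∀ a : F, a * a - s * a + t ≠ 0) ∧ ∀ v, Q (κ v) = t * Q v) ∨
    (∃ (κ : V →ₗ[F] V) (s t : F), κ ∈ AA T ∧
      (∀ v, κ (κ v) = s • κ v - t • v) ∧ (∀ a : F, a * a - s * a + t ≠ 0) ∧
      (∀ v w, polar Q (κ v) w = polar Q v (κ w)) ∧ ((2 : F) = 0 → ∀ v, polar Q v (κ v) = 0) ∧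
      ∀ v : V, v ≠ 0 → ∀ U : Submodule F V, v ∈ U → (∀ i, ∀ w ∈ U, T i w ∈ U) → 4 ≤ finrank F U) := by
  classical
  obtain ⟨g, hg, hgv⟩ := exists_inv hQ hm2 hm hO hr hpow (fun e he hee _ => hno e he hee) i hi
  have hfinV : Finite V := Module.finite_of_finite F
  have hfinE : Finite (V →ₗ[F] V) := Module.finite_of_finite F
  have hcm : ∀ f g : AA T, f * g = g * f := fun f g => Subtype.ext (comm_AA2 hc f.2 g.2)
  let hCR : CommRing (AA T) := { (inferInstance : Ring (AA T)) with mul_comm := hcm }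
  -- inverses
  have hinv : ∀ f ∈ AA T, f ≠ 0 → ∃ g ∈ AA T, f * g = 1 ∧ g * f = 1 := by
    intro f hf hf0
    obtain ⟨e, he, g, hg, hee, hef, hfe, hfg, hgf⟩ := exists_supp hm2 hm hf
    rcases hno e he hee with h | h
    · exact absurd (by rw [← hef, h, zero_mul]) hf0
    · exact ⟨g, hg, by rw [hfg, h], by rw [hgf, h]⟩
  have hT1 : ((1 : V →ₗ[F] V)) ≠ 0 := by
    intro h
    apply hi
    apply LinearEquiv.toLinearMap_injective
    have h2 : ∀ z : V →ₗ[F] V, z = 0 := fun z => by rw [← mul_one z, h, mul_zero]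
    exact (h2 _).trans (h2 _).symm
  have hfield : IsField (AA T) := by
    refine ⟨⟨0, 1, ?_⟩, mul_comm, ?_⟩
    · intro h
      exact hT1 (congrArg Subtype.val h).symm
    · rintro ⟨f, hf⟩ hf0
      obtain ⟨g, hg, hfg, -⟩ := hinv f hf (fun h => hf0 (Subtype.ext h))
      exact ⟨⟨g, hg⟩, Subtype.ext hfg⟩
  -- the adjoint as an automorphism
  have hst : ∀ f : AA T, ∃ f' : AA T, Adj Q f.1 f'.1 := by
    rintro ⟨f, hf⟩
    obtain ⟨f', hf', h⟩ := exists_adj hr hO hpow hf
    exact ⟨⟨f', hf'⟩, h⟩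
  choose st hst using hst
  have hu : ∀ (f g : AA T), Adj Q f.1 g.1 → st f = g := fun f g h => Subtype.ext (Adj.unique hQ (hst f) h)
  let φ : AA T →ₐ[F] AA T :=
    { toFun := st
      map_one' := hu _ _ Adj.one
      map_mul' := fun f g => by
        rw [hu (f * g) (st g * st f) ((hst f).mul (hst g)), mul_comm]
      map_zero' := hu _ _ (fun v w => by
        show polar Q (0 : V) w = polar Q v 0
        rw [polar_zero_left, polar_zero_right])
      map_add' := fun f g => hu _ _ ((hst f).add (hst g))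
      commutes' := fun a => hu _ _ (Adj.algebraMap a) }
  have hφφ : ∀ f, φ (φ f) = f := fun f => hu _ _ (hst f).symm
  let τ : AA T ≃ₐ[F] AA T := AlgEquiv.ofAlgHom φ φ (AlgHom.ext hφφ) (AlgHom.ext hφφ)
  have hτ : ∀ f, Adj Q f.1 (τ f).1 := fun f => hst f
  -- `T i` is not self-adjoint
  have hTi : τ ⟨(T i : V →ₗ[F] V), T_mem i⟩ ≠ ⟨(T i : V →ₗ[F] V), T_mem i⟩ := by
    intro h
    have h2 : Adj Q (T i : V →ₗ[F] V) (T i : V →ₗ[F] V) := by
      have h3 := hτ ⟨(T i : V →ₗ[F] V), T_mem i⟩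
      rw [h] at h3
      exact h3
    have h3 : (T i : V →ₗ[F] V) = ((T i)⁻¹ : V ≃ₗ[F] V) := Adj.unique hQ h2 (Adj.of_O (hO i))
    obtain ⟨v, hv⟩ := hi'
    apply hv
    -- `(T + 1) (T - 1) = 0`
    have h4 : ∀ v, T i (T i v) = v := by
      intro v
      have h5 : T i v = (T i)⁻¹ v := congrArg (fun z : V →ₗ[F] V => z v) h3
      rw [h5]
      exact (T i).apply_symm_apply v
    rw [← hgv v, map_sub, h4]
    abel
  obtain ⟨κ, s, t, hκ, hirr, hκF, halt⟩ := exists_quad' hfield τ hφφ ⟨_, hTi⟩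
  have hκ' : ∀ v, κ.1 (κ.1 v) = s • κ.1 v - t • v := fun v =>
    congrArg (fun z : AA T => z.1 v) hκ
  have hκT : ∀ v, κ.1 (T i v) = T i (κ.1 v) := comm_T hc κ.2 i
  rcases halt with ⟨h1, h2⟩ | ⟨h1, h2⟩
  · right
    have hsa : Adj Q κ.1 κ.1 := by
      have := hτ κ
      rwa [h1] at this
    refine ⟨κ.1, s, t, κ.2, hκ', hirr, hsa, fun h20 v => ?_, ?_⟩
    · rw [← hgv v]
      simp only [map_sub, polar_sub_left, polar_sub_right, hκT]
      rw [polar_map (hO i), polar_comm Q (T i (g v)) (κ.1 (g v)), hsa (g v) (T i (g v)), hκT]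
      linear_combination (polar Q (g v) (κ.1 (g v)) - polar Q (g v) (T i (κ.1 (g v)))) * h20
    · intro v hv U hvU hU
      have hUA : ∀ f ∈ AA T, ∀ w ∈ U, f w ∈ U := by
        intro f hf
        induction hf using Algebra.adjoin_induction with
        | mem x hx =>
          obtain ⟨j, rfl⟩ := hx
          exact fun w hw => hU j w hw
        | algebraMap a => exact fun w hw => U.smul_mem a hw
        | add x y _ _ ihx ihy => exact fun w hw => U.add_mem (ihx w hw) (ihy w hw)
        | mul x y _ _ ihx ihy => exact fun w hw => ihx _ (ihy w hw)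
      let b : Fin 4 → U := ![⟨v, hvU⟩, ⟨κ.1 v, hUA _ κ.2 v hvU⟩, ⟨T i v, hU i v hvU⟩,
        ⟨κ.1 (T i v), hUA _ κ.2 _ (hU i v hvU)⟩]
      have hb : LinearIndependent F b := by
        rw [Fintype.linearIndependent_iff]
        intro c hc0
        have h3 : c 0 • v + c 1 • κ.1 v + c 2 • T i v + c 3 • κ.1 (T i v) = 0 := by
          have h4 := congrArg Subtype.val hc0
          simpa only [Fin.sum_univ_four, b, _root_.Fin.isValue, _root_.Matrix.cons_val_zero, _root_.SetLike.mk_smul_mk, _root_.Matrix.cons_val_one, _root_.AddMemClass.mk_add_mk, _root_.Matrix.cons_val, _root_.ZeroMemClass.coe_zero] using h4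
        set x : AA T := ⟨(T i : V →ₗ[F] V), T_mem i⟩ with hx
        have h5 : c 0 • (1 : AA T) + c 1 • κ + c 2 • x + c 3 • (κ * x) = 0 := by
          by_contra h6
          obtain ⟨k, hk, -, hk2⟩ := hinv _ (c 0 • (1 : AA T) + c 1 • κ + c 2 • x + c 3 • (κ * x)).2
            (fun h => h6 (Subtype.ext h))
          apply hv
          have h7 : (c 0 • (1 : AA T) + c 1 • κ + c 2 • x + c 3 • (κ * x)).1 v = 0 := h3
          calc v = (1 : V →ₗ[F] V) v := rfl
            _ = k ((c 0 • (1 : AA T) + c 1 • κ + c 2 • x + c 3 • (κ * x)).1 v) := by rw [← hk2]; rfl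
            _ = 0 := by rw [h7, map_zero]
        obtain ⟨h6, h7, h8, h9⟩ := h2 x hTi (c 0) (c 1) (c 2) (c 3) h5
        intro j
        fin_cases j
        · exact h6
        · exact h7
        · exact h8
        · exact h9
      have := hb.fintype_card_le_finrank
      simpa using this
  · left
    have hsa : ∀ v w, polar Q (κ.1 v) (κ.1 w) = t * polar Q v w := by
      intro v w
      have h3 : polar Q (κ.1 v) (κ.1 w) = polar Q v ((τ κ * κ).1 w) := hτ κ v (κ.1 w)
      rw [h3, mul_comm, h1]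
      show polar Q v (t • w) = _
      rw [polar_smul_right, smul_eq_mul]
    refine ⟨κ.1, s, t, κ.2, hκ', hirr, fun v => ?_⟩
    have h3 : ∀ v, polar Q v v = 2 * Q v := fun v => polar_self' v
    have h4 : 2 * Q (κ.1 (g v)) = t * (2 * Q (g v)) := by rw [← h3, ← h3, hsa]
    have h5 : ∀ a b : V, Q (a - b) = Q a + Q b - polar Q a b := by
      intro a b
      rw [sub_eq_add_neg, Q_add, QuadraticMap.map_neg, polar_neg_right]
      ring
    have h6 : Q (κ.1 (T i (g v))) = Q (κ.1 (g v)) := by rw [hκT, mem_O.mp (hO i)]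
    rw [← hgv v, map_sub, h5, h5, hsa, h6, mem_O.mp (hO i)]
    linear_combination h4

/-- **BOX G1** (structure of a commuting family of isometries of `p'`-order). -/
theorem box_G1 [Finite F] [FiniteDimensional F V] (hQ : Nondeg Q) {p : ℕ} [CharP F p] [Finite ι] [Nonempty ι]
    (T : ι → V ≃ₗ[F] V) (r : ι → ℕ) (hO : ∀ i, T i ∈ O Q) (hr : ∀ i, (r i).Prime)
    (hrp : ∀ i, r i ≠ p) (hpow : ∀ i, T i ^ r i = 1) (hc : ∀ i j, T i * T j = T j * T i)
    (hns : ∀ i, T i ≠ 1 ∧ ∃ v, T i v ≠ -v) :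
    -- an orthogonal decomposition `V = D ⊥ D^⊥`
    (∃ D : Submodule F V, D ≠ ⊥ ∧ D ≠ ⊤ ∧ Nondeg (Q.comp D.subtype) ∧ BicInv T D) ∨
    -- two totally singular subspaces
    (∃ W W' : Submodule F V, IsCompl W W' ∧ (∀ v ∈ W, Q v = 0) ∧ (∀ v ∈ W', Q v = 0) ∧
      BicInv T W ∧ BicInv T W' ∧
      -- `F[T]` acts on `W` as a field: no proper invariant bicommutant pieces; `W` is homogeneous
      (∀ v ∈ W, v ≠ 0 → ∀ f : V →ₗ[F] V, f ∈ Algebra.adjoin F (Set.range fun i => ((T i : V →ₗ[F] V))) →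
        f v = 0 → ∀ w ∈ W, f w = 0)) ∨
    -- `F[T]` is a field; hermitian structure over its subfield `F[κ]` with `q²` elements
    (∃ (κ : V →ₗ[F] V) (s t : F), κ ∈ Algebra.adjoin F (Set.range fun i => ((T i : V →ₗ[F] V))) ∧
      (∀ v, κ (κ v) = s • κ v - t • v) ∧ (∀ a : F, a * a - s * a + t ≠ 0) ∧ ∀ v, Q (κ v) = t * Q v) ∨
    -- `F[T]` is a field; bilinear structure over its subfield `F[κ]` with `q²` elements; `K` has degree
    -- divisible by four: no vector `v ≠ 0` has an `F[T]`-orbit space of dimension `< 4`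
    (∃ (κ : V →ₗ[F] V) (s t : F), κ ∈ Algebra.adjoin F (Set.range fun i => ((T i : V →ₗ[F] V))) ∧
      (∀ v, κ (κ v) = s • κ v - t • v) ∧ (∀ a : F, a * a - s * a + t ≠ 0) ∧
      (∀ v w, polar Q (κ v) w = polar Q v (κ w)) ∧ ((2 : F) = 0 → ∀ v, polar Q v (κ v) = 0) ∧
      ∀ v : V, v ≠ 0 → ∀ U : Submodule F V, v ∈ U → (∀ i, ∀ w ∈ U, T i w ∈ U) →
        4 ≤ Module.finrank F U) := by
  obtain ⟨i⟩ := (inferInstance : Nonempty ι)
  have hV : Nontrivial V := by
    by_contra h
    rw [not_nontrivial_iff_subsingleton] at h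
    exact (hns i).1 (LinearEquiv.ext fun v => Subsingleton.elim _ _)
  obtain ⟨m, hm2, hm⟩ := exists_pow hr hrp hpow hc
  by_cases hA : ∃ e ∈ AA T, e * e = e ∧ Adj Q e e ∧ e ≠ 0 ∧ e ≠ 1
  · -- a self-adjoint idempotent
    left
    obtain ⟨e, he, hee, hadj, h0, h1⟩ := hA
    have hee' : ∀ v, e (e v) = e v := fun v => congrArg (fun z : V →ₗ[F] V => z v) hee
    refine ⟨LinearMap.range e, ?_, ?_, ?_, ?_⟩
    · intro h
      exact h0 (LinearMap.range_eq_bot.mp h)
    · intro h
      apply h1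
      apply LinearMap.ext
      intro v
      have h2 : v ∈ LinearMap.range e := by rw [h]; trivial
      obtain ⟨w, rfl⟩ := h2
      exact hee' w
    · rintro ⟨x, w, rfl⟩ hx
      apply Subtype.ext
      show e w = 0
      apply hQ
      intro y
      rw [← hee' w, hadj]
      exact hx ⟨e y, y, rfl⟩
    · rintro f hf _ ⟨w, rfl⟩
      have h2 := congrArg (fun z : V →ₗ[F] V => z w) (comm_AA hf he)
      exact ⟨f w, h2.symm⟩
  · have hno : ∀ e ∈ AA T, e * e = e → Adj Q e e → e = 0 ∨ e = 1 := by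
      intro e he hee hadj
      by_contra h
      push Not at h
      exact hA ⟨e, he, hee, hadj, h.1, h.2⟩
    right
    by_cases hB : ∃ e ∈ AA T, e * e = e ∧ e ≠ 0 ∧ e ≠ 1
    · left
      obtain ⟨e, he, hee, h0, h1⟩ := hB
      exact caseB hQ hm2 hm hO hr hpow hc hno i (hns i).1 he hee h0 h1
    · right
      have hno' : ∀ e ∈ AA T, e * e = e → e = 0 ∨ e = 1 := by
        intro e he hee
        by_contra h
        push Not at h
        exact hB ⟨e, he, hee, h.1, h.2⟩
      exact caseK hQ hm2 hm hO hr hpow hc hno' i (hns i).1 (hns i).2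

end main

end Cfsg.Agent.H595.RC
end

-- part: H93/RC/BoxH
section
/-!
# S3510, row F, even dimension: box H

The semisimple part of the family is not homogeneous: assembly of G1, B, C, D5, D4m, D4p.
-/

set_option autoImplicit false
open Cfsg

namespace Cfsg.Agent.H93.RC

open QuadraticMap MulAction
open Cfsg.Agent.LieClassical.OrthCore Cfsg.Agent.LieClassical.OrthTrans
open Cfsg.Agent.LieClassical.OrthSimple Cfsg.Agent.ClassicalGeometry.OrthSemi
open Cfsg.Agent.ClassicalGeometry.OrthAut1 Cfsg.Agent.H106.RC Cfsg.Agent.H138.RC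

section lin

variable {F V : Type*} [Field F] [AddCommGroup V] [Module F V] {Q : QuadraticForm F V}

/-- totally singular subspaces have dimension at most `n / 2` -/
theorem two_fin [FiniteDimensional F V] (hQ : Nondeg Q) {U : Submodule F V} (hU : ∀ v ∈ U, Q v = 0) :
    2 * Module.finrank F U ≤ Module.finrank F V := by
  obtain ⟨φ, hφ⟩ : ∃ φ : V →ₗ[F] Module.Dual F U, φ = U.dualRestrict.comp (polarBilin Q) := ⟨_, rfl⟩
  have h1 : Function.Injective (polarBilin Q : V →ₗ[F] Module.Dual F V) := by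
    rw [← LinearMap.ker_eq_bot, LinearMap.ker_eq_bot']
    intro v hv
    apply hQ
    intro y
    exact LinearMap.congr_fun hv y
  have h2 : Function.Surjective (polarBilin Q : V →ₗ[F] Module.Dual F V) :=
    (LinearMap.injective_iff_surjective_of_finrank_eq_finrank (by exact Subspace.dual_finrank_eq.symm)).1 h1
  have h3 : Function.Surjective φ := by
    rw [hφ, LinearMap.coe_comp]
    exact (Subspace.dualRestrict_surjective).comp h2
  have h4 := LinearMap.finrank_range_add_finrank_ker φ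
  rw [LinearMap.range_eq_top.2 h3, finrank_top, Subspace.dual_finrank_eq] at h4
  have h5 : U ≤ LinearMap.ker φ := by
    intro u hu
    rw [LinearMap.mem_ker, hφ]
    ext w
    show polar Q u w = 0
    rw [polar, hU _ (U.add_mem hu w.2), hU _ hu, hU _ w.2]
    simp
  have h6 := Submodule.finrank_mono h5
  omega

theorem polar_ts {U : Submodule F V} (hU : ∀ v ∈ U, Q v = 0) {u v : V} (hu : u ∈ U) (hv : v ∈ U) :
    polar Q u v = 0 := by
  rw [polar, hU _ (U.add_mem hu hv), hU _ hu, hU _ hv]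
  simp

theorem polar_O {f : V ≃ₗ[F] V} (hf : f ∈ O Q) (u v : V) : polar Q (f u) (f v) = polar Q u v := by
  rw [polar, polar, ← map_add, hf, hf, hf]

/-- an element of `W'` orthogonal to `W` is zero -/
theorem zero_of_perp (hQ : Nondeg Q) {W W' : Submodule F V} (hc : IsCompl W W')
    (hW' : ∀ v ∈ W', Q v = 0) {x : V} (hx : x ∈ W') (h : ∀ w ∈ W, polar Q w x = 0) : x = 0 := by
  apply hQ
  intro y
  have hy : y ∈ W ⊔ W' := by rw [hc.sup_eq_top]; trivial
  obtain ⟨w, hw, w', hw', rfl⟩ := Submodule.mem_sup.1 hy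
  rw [polar_add_right, polar_ts hW' hx hw', polar_comm, h w hw, add_zero]

/-- an isometry trivial on `W` and preserving `W'` is trivial -/
theorem eq_one_of_W (hQ : Nondeg Q) {W W' : Submodule F V} (hc : IsCompl W W')
    (hW' : ∀ v ∈ W', Q v = 0) {f : V ≃ₗ[F] V} (hf : f ∈ O Q) (hfW' : ∀ v ∈ W', f v ∈ W')
    (h : ∀ w ∈ W, f w = w) : f = 1 := by
  have h1 : ∀ w' ∈ W', f w' = w' := by
    intro w' hw'
    have h2 : f w' - w' = 0 := by
      refine zero_of_perp hQ hc hW' (W'.sub_mem (hfW' _ hw') hw') fun w hw => ?_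
      rw [polar_sub_right, sub_eq_zero]
      conv_lhs => rw [← h w hw]
      exact polar_O hf w w'
    exact sub_eq_zero.1 h2
  ext y
  have hy : y ∈ W ⊔ W' := by rw [hc.sup_eq_top]; trivial
  obtain ⟨w, hw, w', hw', rfl⟩ := Submodule.mem_sup.1 hy
  rw [map_add, h w hw, h1 w' hw']
  rfl

/-- a map of prime order without nonzero fixed vectors on a finite subspace -/
theorem card_modEq [Finite V] {T : V ≃ₗ[F] V} {r : ℕ} (hr : r.Prime) (hT : T ^ r = 1)
    (K : Submodule F V) (hK : ∀ v ∈ K, T v ∈ K) (h0 : ∀ v ∈ K, T v = v → v = 0) :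
    Nat.card K ≡ 1 [MOD r] := by
  classical
  have hfr : Fact r.Prime := ⟨hr⟩
  have := Fintype.ofFinite K
  let f : Function.End K := fun v => ⟨T v, hK v v.2⟩
  have hpow : ∀ (n : ℕ) (v : K), (((f ^ n) v : K) : V) = (T ^ n) (v : V) := by
    intro n
    induction n with
    | zero => intro v; rfl
    | succ n ih =>
      intro v
      rw [pow_succ, pow_succ]
      show (((f ^ n) (f v) : K) : V) = (T ^ n) (T (v : V))
      rw [ih]
  have hf : f ^ r ^ 1 = 1 := by
    funext v
    apply Subtype.ext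
    rw [pow_one, hpow, hT]
    rfl
  have h1 := Equiv.Perm.card_fixedPoints_modEq hf
  have h2 : Fintype.card (Function.fixedPoints f) = 1 := by
    rw [Fintype.card_eq_one_iff]
    refine ⟨⟨0, ?_⟩, ?_⟩
    · apply Subtype.ext
      show T (0 : V) = 0
      exact map_zero _
    · rintro ⟨v, hv⟩
      apply Subtype.ext
      apply Subtype.ext
      have h3 : f v = v := hv
      exact h0 v v.2 (congrArg Subtype.val h3)
  rw [h2, ← Nat.card_eq_fintype_card] at h1
  exact h1

end lin

section main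

variable {F V G Ω : Type} [Field F] [Finite F] [AddCommGroup V] [Module F V] [FiniteDimensional F V]
  {Q : QuadraticForm F V} [Group G] [Finite G] [MulAction G Ω] [Nonempty Ω] {N : Subgroup G}
  {ρ : ↥(E Q) →* G}

open Cfsg.Agent.H721.RC in
/-- **Box H** for `V` -/
theorem box_H_core (hB : BoxB) (hC : BoxC) (hD5 : BoxD5) (hD4m : BoxD4m) (hD4p : BoxD4p)
    (hG : Good Q) (hE : Env G Ω N) (hρ : Rep Q N ρ) (hIH : IH (Nat.card (P Q)))
    {p : ℕ} [CharP F p] {ι : Type} [Finite ι] {x : ι → G} {M : ι → Gam Q} {r : ι → ℕ}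
    (hl : ∀ i, Lf ρ (x i) (M i)) (hx : PF x r) (hcov : Cov Ω x)
    (h8 : 8 ≤ Module.finrank F V) (heven : Even (Module.finrank F V))
    (T : ι → V ≃ₗ[F] V) (hTO : ∀ i, T i ∈ O Q) (hTM : ∀ i v, (M i).1 v = T i v)
    (hTr : ∀ i, T i ^ r i = 1) (hTc : ∀ i j, T i * T j = T j * T i) :
    ∃ D : Submodule F V, D ≠ ⊥ ∧ D ≠ ⊤ ∧ Nondeg (Q.comp D.subtype) ∧
      BicInv (fun i : {i : ι // r i ≠ p} => T i) D := by
  classical
  by_contra hnoD
  have hpp : p.Prime := CharP.char_is_prime F p
  have hfV : Finite V := Module.finite_of_finite F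
  have hQ := hG.nondeg
  have hVn : Nontrivial V := Module.nontrivial_of_finrank_pos (R := F) (by omega)
  have hlin : ∀ i, IsLin (M i) := fun i a v => by rw [hTM, hTM, map_smul]
  have hcv : ∀ i j v, T i (T j v) = T j (T i v) := fun i j v => LinearEquiv.congr_fun (hTc i j) v
  -- two members
  obtain ⟨i₁⟩ : Nonempty ι := by
    obtain ⟨ω⟩ := ‹Nonempty Ω›
    obtain ⟨i, -⟩ := hcov ω
    exact ⟨i⟩
  have htwo : ∀ i, ∃ j, j ≠ i := fun i => Cov.two hE hcov hx.ne i
  obtain ⟨i₂, hi₂⟩ := htwo i₁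
  have hSne : Nonempty {i : ι // r i ≠ p} := by
    by_cases h1 : r i₁ = p
    · exact ⟨⟨i₂, fun h2 => hi₂ (hx.inj (h2.trans h1.symm))⟩⟩
    · exact ⟨⟨i₁, h1⟩⟩
  have hnsc : ∀ i (a : F), a ≠ 0 → ¬ ∀ v, T i v = a • v := by
    intro i a ha h1
    apply hx.ne i
    rw [(hl i).eq_one_iff hG hE hρ]
    exact ⟨a, ha, fun v => by rw [hTM, h1]⟩
  have hns : ∀ i, T i ≠ 1 ∧ ∃ v, T i v ≠ -v := by
    intro i
    constructor
    · intro h1
      exact hnsc i 1 one_ne_zero fun v => by rw [h1, one_smul]; rfl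
    · by_contra h1
      push Not at h1
      exact hnsc i (-1) (neg_ne_zero.2 one_ne_zero) fun v => by rw [h1, neg_one_smul]
  have hadjC : ∀ (f : V →ₗ[F] V), f ∈ Algebra.adjoin F
      (Set.range fun i : {i : ι // r i ≠ p} => ((T i : V →ₗ[F] V))) →
      ∀ (g : V →ₗ[F] V), (∀ i : {i : ι // r i ≠ p}, ∀ v, g (T i v) = T i (g v)) →
        ∀ v, g (f v) = f (g v) := by
    intro f hf g hg
    induction hf using Algebra.adjoin_induction with
    | mem z hz =>
      obtain ⟨i, rfl⟩ := hz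
      exact hg i
    | algebraMap a =>
      intro v
      show g (a • v) = a • g v
      exact map_smul g a v
    | add a b _ _ ha hb =>
      intro v
      show g (a v + b v) = a (g v) + b (g v)
      rw [map_add, ha, hb]
    | mul a b _ _ ha hb =>
      intro v
      show g (a (b v)) = a (b (g v))
      rw [ha, hb]
  have hadjT : ∀ (f : V →ₗ[F] V), f ∈ Algebra.adjoin F
      (Set.range fun i : {i : ι // r i ≠ p} => ((T i : V →ₗ[F] V))) →
      ∀ i v, T i (f v) = f (T i v) := fun f hf i v =>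
    hadjC f hf (T i : V →ₗ[F] V) (fun j w => hcv i j w) v
  -- involutions in odd characteristic
  have hinv : p ≠ 2 → ∀ i, r i ≠ 2 := by
    intro hp2 i hi
    apply hnoD
    have h2 : (2 : F) ≠ 0 := by
      intro h0
      have h1 : ((2 : ℕ) : F) = 0 := by exact_mod_cast h0
      rw [CharP.cast_eq_zero_iff F p] at h1
      exact hp2 ((Nat.prime_dvd_prime_iff_eq hpp Nat.prime_two).1 h1)
    have hT2 : ∀ v, T i (T i v) = v := by
      intro v
      have h1 := hTr i
      rw [hi, pow_two] at h1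
      exact LinearEquiv.congr_fun h1 v
    refine ⟨LinearMap.ker ((T i : V →ₗ[F] V) - LinearMap.id), ?_, ?_, ?_, ?_⟩
    · intro h0
      obtain ⟨v, hv⟩ := (hns i).2
      have h1 : T i v + v ∈ LinearMap.ker ((T i : V →ₗ[F] V) - LinearMap.id) := by
        rw [LinearMap.mem_ker]
        show T i (T i v + v) - (T i v + v) = 0
        rw [map_add, hT2]
        abel
      rw [h0, Submodule.mem_bot] at h1
      exact hv (eq_neg_of_add_eq_zero_left h1)
    · intro h0
      apply (hns i).1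
      ext v
      have h1 : v ∈ LinearMap.ker ((T i : V →ₗ[F] V) - LinearMap.id) := by rw [h0]; trivial
      rw [LinearMap.mem_ker] at h1
      exact sub_eq_zero.1 h1
    · rintro ⟨y, hy⟩ h0
      apply Subtype.ext
      show y = 0
      rw [LinearMap.mem_ker] at hy
      have hy' : T i y = y := sub_eq_zero.1 hy
      apply hQ
      intro z
      have h1 : T i z + z ∈ LinearMap.ker ((T i : V →ₗ[F] V) - LinearMap.id) := by
        rw [LinearMap.mem_ker]
        show T i (T i z + z) - (T i z + z) = 0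
        rw [map_add, hT2]
        abel
      have h3 : polar Q y (T i z + z) = 0 := h0 ⟨_, h1⟩
      have h4 : polar Q y (T i z) = polar Q y z := by
        conv_lhs => rw [← hy']
        exact polar_O (hTO i) y z
      rw [polar_add_right, h4, ← two_mul] at h3
      exact (mul_eq_zero.1 h3).resolve_left h2
    · intro f hf v hv
      have hi' : r i ≠ p := by rw [hi]; exact fun h => hp2 h.symm
      rw [LinearMap.mem_ker] at hv ⊢
      have hv' : T i v = v := sub_eq_zero.1 hv
      show T i (f v) - f v = 0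
      rw [← hf ⟨i, hi'⟩ v, sub_eq_zero]
      show f (T i v) = f v
      rw [hv']
  rcases Cfsg.Agent.H595.RC.box_G1 hQ (p := p) (fun i : {i : ι // r i ≠ p} => T i) (fun i => r i)
      (fun i => hTO i) (fun i => hx.prime i) (fun i => i.2) (fun i => hTr i) (fun i j => hTc i j)
      (fun i => hns i) with
    ⟨D, h1, h2, h3, h4⟩ | ⟨W, W', hWW, hW, hW', hWB, hWB', hfld⟩ | ⟨κ, s, t, hκA, hκ, hirr, hQκ⟩ |
    ⟨κ, s, t, hκA, hκ, hirr, hadj, h2κ, hfour⟩
  · exact hnoD ⟨D, h1, h2, h3, h4⟩
  · have hTW : ∀ i, ∀ v ∈ W, T i v ∈ W := fun i v hv =>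
      hWB (T i : V →ₗ[F] V) (fun j w => hcv i j w) v hv
    have hTW' : ∀ i, ∀ v ∈ W', T i v ∈ W' := fun i v hv =>
      hWB' (T i : V →ₗ[F] V) (fun j w => hcv i j w) v hv
    by_cases h82 : Nat.card F = 2 ∧ Module.finrank F V = 8
    · obtain ⟨hq, hn⟩ := h82
      have hF2 : ∀ a : F, a = 0 ∨ a = 1 := by
        intro a
        have := Fintype.ofFinite F
        rw [Nat.card_eq_fintype_card] at hq
        by_contra hno
        push Not at hno
        have h3 : ({0, 1, a} : Finset F).card ≤ Fintype.card F := Finset.card_le_univ _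
        rw [Finset.card_insert_of_notMem (by
          simp only [Finset.mem_insert, Finset.mem_singleton, not_or]
          exact ⟨zero_ne_one, hno.1.symm⟩), Finset.card_insert_of_notMem (by
          simp only [Finset.mem_singleton]
          exact hno.2.symm), Finset.card_singleton, hq] at h3
        omega
      have h20 : (2 : F) = 0 := by
        rcases hF2 2 with h | h
        · exact h
        · exfalso
          have : (1 : F) = 0 := by linear_combination h
          exact one_ne_zero this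
      have hp2 : p = 2 := by
        have h1 : ((2 : ℕ) : F) = 0 := by exact_mod_cast h20
        rw [CharP.cast_eq_zero_iff F p] at h1
        exact (Nat.prime_dvd_prime_iff_eq hpp Nat.prime_two).1 h1
      have hdW : Module.finrank F W = 4 := by
        have h1 := two_fin hQ hW
        have h3 := two_fin hQ hW'
        have h4 := Submodule.finrank_add_eq_of_isCompl hWW
        omega
      have hcW : Nat.card W = 16 := by
        rw [Module.natCard_eq_pow_finrank (K := F), hq, hdW]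
        norm_num
      -- no fixed vectors on `W`
      have hfix : ∀ j : {i : ι // r i ≠ p}, ∀ v ∈ W, T j v = v → v = 0 := by
        intro j v hv hvj
        by_contra hv0
        have h1 : ((T j : V →ₗ[F] V) - 1) ∈ Algebra.adjoin F
            (Set.range fun i : {i : ι // r i ≠ p} => ((T i : V →ₗ[F] V))) :=
          Subalgebra.sub_mem _ (Algebra.subset_adjoin ⟨j, rfl⟩) (Subalgebra.one_mem _)
        have h3 := hfld v hv hv0 _ h1 (by
          show T j v - v = 0
          rw [hvj, sub_self])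
        apply (hns j).1
        exact eq_one_of_W hQ hWW hW' (hTO j) (hTW' j) fun w hw => sub_eq_zero.1 (h3 w hw)
      have hdvd : ∀ j : {i : ι // r i ≠ p}, r j ∣ 15 := by
        intro j
        have h1 := card_modEq (hx.prime j) (hTr j) W (hTW j) (hfix j)
        rw [hcW] at h1
        have h3 := (Nat.modEq_iff_dvd' (by norm_num)).1 h1.symm
        simpa only [_root_.ne_eq, _root_.Nat.add_one_sub_one] using h3
      by_cases h3 : ∃ j : {i : ι // r i ≠ p}, r j = 3
      · obtain ⟨j, hj⟩ := h3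
        have hT3 : ∀ v, T j (T j (T j v)) = v := by
          intro v
          have h1 := hTr j
          rw [hj] at h1
          have h4 := LinearEquiv.congr_fun h1 v
          exact h4
        -- `T² + T + 1 = 0` on `W`
        have hW3 : ∀ w ∈ W, T j (T j w) + T j w + w = 0 := by
          intro w hw
          apply hfix j _ (W.add_mem (W.add_mem (hTW j _ (hTW j _ hw)) (hTW j _ hw)) hw)
          rw [map_add, map_add, hT3]
          abel
        have hW3' : ∀ w ∈ W', T j (T j w) + T j w + w = 0 := by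
          intro w' hw'
          refine zero_of_perp hQ hWW hW'
            (W'.add_mem (W'.add_mem (hTW' j _ (hTW' j _ hw')) (hTW' j _ hw')) hw') fun w hw => ?_
          have e1 : polar Q w (T j (T j w')) = polar Q (T j w) w' := by
            conv_lhs => rw [← hT3 w]
            rw [polar_O (hTO j), polar_O (hTO j)]
          have e2 : polar Q w (T j w') = polar Q (T j (T j w)) w' := by
            conv_lhs => rw [← hT3 w]
            rw [polar_O (hTO j)]
          rw [polar_add_right, polar_add_right, e1, e2, ← polar_add_left, ← polar_add_left]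
          have h4 : T j w + T j (T j w) + w = 0 := by
            rw [← hW3 w hw]
            abel
          rw [h4, polar_zero_left]
        have hall : ∀ v, T j (T j v) + T j v + v = 0 := by
          intro v
          have hy : v ∈ W ⊔ W' := by rw [hWW.sup_eq_top]; trivial
          obtain ⟨w, hw, w', hw', rfl⟩ := Submodule.mem_sup.1 hy
          simp only [map_add]
          have a1 := hW3 w hw
          have a2 := hW3' w' hw'
          calc _ = (T j (T j w) + T j w + w) + (T j (T j w') + T j w' + w') := by abel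
            _ = 0 := by rw [a1, a2, add_zero]
        refine hC hG hE hρ hIH (p := p) hl hlin hx hcov h8 (T j : V →ₗ[F] V) (-1) 1 ?_ ?_ ?_ ?_
        · intro v
          show T j (T j v) = (-1 : F) • T j v - (1 : F) • v
          rw [neg_one_smul, one_smul]
          have h4 := hall v
          rw [add_assoc] at h4
          rw [eq_neg_of_add_eq_zero_left h4]
          abel
        · intro a
          rcases hF2 a with rfl | rfl
          · norm_num
          · intro h4
            have : (1 : F) = 0 := by linear_combination h4 - h20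
            exact one_ne_zero this
        · intro v
          rw [one_mul]
          exact hTO j v
        · intro i v
          rw [hTM, hTM]
          exact hcv i j v
      · push Not at h3
        have h5 : ∀ j : {i : ι // r i ≠ p}, r j = 5 := by
          intro j
          have h1 := hdvd j
          have h4 : r j ∣ 3 * 5 := h1
          rcases (Nat.Prime.dvd_mul (hx.prime j)).1 h4 with h6 | h6
          · exact ((h3 j) ((Nat.prime_dvd_prime_iff_eq (hx.prime j) Nat.prime_three).1 h6)).elim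
          · exact (Nat.prime_dvd_prime_iff_eq (hx.prime j) Nat.prime_five).1 h6
        obtain ⟨j⟩ := hSne
        obtain ⟨i, hij⟩ := htwo j
        have hip : r i = p := by
          by_contra h6
          exact hij (hx.inj ((h5 ⟨i, h6⟩).trans (h5 j).symm))
        have hu2 : ∀ v, T i (T i v) = v := by
          intro v
          have h1 := hTr i
          rw [hip, hp2, pow_two] at h1
          exact LinearEquiv.congr_fun h1 v
        -- `u = 1` on `W`
        apply (hns i).1
        refine eq_one_of_W hQ hWW hW' (hTO i) (hTW' i) ?_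
        let K : Submodule F V := W ⊓ LinearMap.ker ((T i : V →ₗ[F] V) - LinearMap.id)
        have hKm : ∀ v, v ∈ K ↔ v ∈ W ∧ T i v = v := by
          intro v
          rw [Submodule.mem_inf, LinearMap.mem_ker]
          exact and_congr Iff.rfl sub_eq_zero
        have hKT : ∀ v ∈ K, T j v ∈ K := by
          intro v hv
          rw [hKm] at hv ⊢
          exact ⟨hTW j v hv.1, by rw [hcv, hv.2]⟩
        have h6 := card_modEq (hx.prime j) (hTr j) K hKT fun v hv hv' =>
          hfix j v ((hKm v).1 hv).1 hv'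
        have hK4 : Module.finrank F K ≤ 4 := by
          rw [← hdW]
          exact Submodule.finrank_mono inf_le_left
        rw [Module.natCard_eq_pow_finrank (K := F), hq, h5 j] at h6
        have hK0 : Module.finrank F K ≠ 0 := by
          intro h7
          have hKb : K = ⊥ := Submodule.finrank_eq_zero.1 h7
          have hW0 : ∃ w ∈ W, w ≠ 0 := by
            by_contra hno
            push Not at hno
            have : W = ⊥ := by
              rw [Submodule.eq_bot_iff]
              exact hno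
            rw [this, finrank_bot] at hdW
            omega
          obtain ⟨w, hw, hw0⟩ := hW0
          have h9 : T i w + w ∈ K := by
            rw [hKm]
            refine ⟨W.add_mem (hTW i w hw) hw, ?_⟩
            rw [map_add, hu2]
            abel
          rw [hKb, Submodule.mem_bot] at h9
          have h10 : T i w = w := by
            have h11 := eq_neg_of_add_eq_zero_left h9
            rw [h11]
            have h12 : (2 : F) • w = 0 := by rw [h20, zero_smul]
            rw [two_smul] at h12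
            exact (eq_neg_of_add_eq_zero_left h12).symm
          have h13 : w ∈ K := (hKm w).2 ⟨hw, h10⟩
          rw [hKb, Submodule.mem_bot] at h13
          exact hw0 h13
        have hKe : Module.finrank F K = 4 := by
          have h14 : Module.finrank F K = 1 ∨ Module.finrank F K = 2 ∨ Module.finrank F K = 3 ∨
              Module.finrank F K = 4 := by omega
          rcases h14 with h | h | h | h
          · rw [h] at h6; exact absurd h6 (by decide)
          · rw [h] at h6; exact absurd h6 (by decide)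
          · rw [h] at h6; exact absurd h6 (by decide)
          · exact h
        have hKW : K = W := Submodule.eq_of_le_of_finrank_eq inf_le_left (hKe.trans hdW.symm)
        intro w hw
        rw [← hKW, hKm] at hw
        exact hw.2
    · exact hB hG hE hρ hIH (p := p) hl hlin hx hcov h8 h82 W W' hWW hW hW'
        (fun i v hv => by rw [hTM]; exact hTW i v hv) (fun i v hv => by rw [hTM]; exact hTW' i v hv)
  · exact hC hG hE hρ hIH (p := p) hl hlin hx hcov h8 κ s t hκ hirr hQκ fun i v => by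
      rw [hTM, hTM]; exact hadjT κ hκA i v
  · have hcom : ∀ i v, (M i).1 (κ v) = κ ((M i).1 v) := fun i v => by
      rw [hTM, hTM]; exact hadjT κ hκA i v
    by_cases h10 : 10 ≤ Module.finrank F V
    · exact hD5 hG hE hρ hIH (p := p) hl hlin hx hcov h10 κ s t hκ hirr hadj h2κ hcom
    have hn : Module.finrank F V = 8 := by
      obtain ⟨k, hk⟩ := heven
      omega
    by_cases hp2 : p = 2 ∧ ∃ i, r i = 2
    · -- an involution in characteristic two
      obtain ⟨hp2, i, hi⟩ := hp2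
      have h20 : (2 : F) = 0 := by
        subst hp2
        exact_mod_cast CharP.cast_eq_zero F 2
      have hneg : ∀ v : V, v + v = 0 := by
        intro v
        rw [← two_smul F v, h20, zero_smul]
      have hu2 : ∀ v, T i (T i v) = v := by
        intro v
        have h1 := hTr i
        rw [hi, pow_two] at h1
        exact LinearEquiv.congr_fun h1 v
      -- no common fixed vectors of `S`
      have hnf : ∀ v, (∀ j : {i : ι // r i ≠ p}, T j v = v) → v = 0 := by
        intro v hv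
        by_contra hv0
        have h1 := hfour v hv0 (F ∙ v) (Submodule.mem_span_singleton_self v) (by
          intro j w hw
          obtain ⟨a, rfl⟩ := Submodule.mem_span_singleton.1 hw
          show T j (a • v) ∈ _
          rw [map_smul, hv j]
          exact hw)
        rw [finrank_span_singleton hv0] at h1
        omega
      let Nn : V →ₗ[F] V := (T i : V →ₗ[F] V) + LinearMap.id
      have hNv : ∀ v, Nn v = T i v + v := fun v => rfl
      -- `polar (N v) v = 0`
      have hg0 : ∀ v, polar Q (T i v) v = 0 := by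
        -- an additive function which is `F`-semilinear
        have hadd : ∀ v w, polar Q (T i (v + w)) (v + w) = polar Q (T i v) v + polar Q (T i w) w := by
          intro v w
          have h1 : polar Q (T i v) w = polar Q v (T i w) := by
            conv_lhs => rw [← hu2 w]
            exact polar_O (hTO i) _ _
          rw [map_add, polar_add_left, polar_add_right, polar_add_right, h1, polar_comm Q (T i w) v]
          linear_combination (polar Q v (T i w)) * h20
        have hsm : ∀ (a : F) v, polar Q (T i (a • v)) (a • v) = a ^ 2 * polar Q (T i v) v := by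
          intro a v
          rw [map_smul, polar_smul_left, polar_smul_right, smul_eq_mul, smul_eq_mul]
          ring
        have : CharP F 2 := by
          rw [← hp2]; infer_instance
        have hex : ExpChar F 2 := ExpChar.prime Nat.prime_two
        -- the square root
        have hsq : Function.Bijective (fun a : F => a ^ 2) := by
          have h1 : Function.Injective (fun a : F => a ^ 2) := by
            intro a b hab
            have h3 : (a - b) ^ 2 = 0 := by
              have h4 : a ^ 2 = b ^ 2 := hab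
              linear_combination h4 - (a * b - b ^ 2) * h20
            exact sub_eq_zero.1 (pow_eq_zero_iff two_ne_zero |>.1 h3)
          exact Finite.injective_iff_bijective.1 h1
        let sq : F ≃ F := Equiv.ofBijective _ hsq
        have hsqv : ∀ a : F, (sq.symm a) ^ 2 = a := fun a => sq.apply_symm_apply a
        have hsqi : ∀ a b : F, a ^ 2 = b ^ 2 → a = b := fun a b h => hsq.1 h
        let ℓ : V →ₗ[F] F :=
          { toFun := fun v => sq.symm (polar Q (T i v) v)
            map_add' := by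
              intro v w
              apply hsqi
              rw [hsqv, hadd, add_pow_two, hsqv, hsqv]
              linear_combination -(sq.symm (polar Q (T i v) v) * sq.symm (polar Q (T i w) w)) * h20
            map_smul' := by
              intro a v
              apply hsqi
              rw [hsqv, hsm, RingHom.id_apply, smul_eq_mul, mul_pow, hsqv] }
        have hℓ : ∀ v, ℓ v ^ 2 = polar Q (T i v) v := fun v => hsqv _
        -- it is represented by a vector
        obtain ⟨a, ha⟩ : ∃ a : V, ∀ v, ℓ v = polar Q a v := by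
          have h1 : Function.Injective (polarBilin Q : V →ₗ[F] Module.Dual F V) := by
            rw [← LinearMap.ker_eq_bot, LinearMap.ker_eq_bot']
            intro v hv
            apply hQ
            intro y
            exact LinearMap.congr_fun hv y
          have h2 : Function.Surjective (polarBilin Q : V →ₗ[F] Module.Dual F V) :=
            (LinearMap.injective_iff_surjective_of_finrank_eq_finrank
              (by exact Subspace.dual_finrank_eq.symm)).1 h1
          obtain ⟨a, ha⟩ := h2 ℓ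
          exact ⟨a, fun v => (LinearMap.congr_fun ha v).symm⟩
        have ha0 : a = 0 := by
          apply hnf
          intro j
          rw [← sub_eq_zero]
          apply hQ
          intro y
          obtain ⟨y, rfl⟩ := (T j).surjective y
          rw [polar_sub_left, polar_O (hTO j), sub_eq_zero, ← ha, ← ha]
          apply hsqi
          rw [hℓ, hℓ, hcv i j, polar_O (hTO j)]
        intro v
        rw [← hℓ, ha, ha0, polar_zero_left]
        simp
      have hQN : ∀ v, Q (Nn v) = 0 := by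
        intro v
        rw [hNv]
        have h1 : Q (T i v + v) = Q (T i v) + Q v + polar Q (T i v) v := by rw [polar]; ring
        rw [h1, hTO i, hg0]
        linear_combination (Q v) * h20
      have hU : ∀ v ∈ LinearMap.range Nn, Q v = 0 := by
        rintro _ ⟨v, rfl⟩
        exact hQN v
      have hU1 := two_fin hQ hU
      obtain ⟨v₀, hv₀⟩ : ∃ v, Nn v ≠ 0 := by
        by_contra hno
        push Not at hno
        apply (hns i).1
        ext v
        have h1 := hno v
        rw [hNv] at h1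
        have h3 := eq_neg_of_add_eq_zero_left h1
        rw [h3]
        exact (eq_neg_of_add_eq_zero_left (hneg v)).symm
      have hU2 := hfour (Nn v₀) hv₀ (LinearMap.range Nn) ⟨v₀, rfl⟩ (by
        rintro j _ ⟨v, rfl⟩
        refine ⟨T j v, ?_⟩
        show T i (T j v) + T j v = T j (T i v + v)
        rw [map_add, hcv])
      refine hD4p hG hE hρ hIH (p := p) hl hlin hx hcov hn κ s t hκ hirr hadj h2κ hcom
        (LinearMap.range Nn) hU ?_ (by omega) ?_
      · rintro _ ⟨v, rfl⟩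
        refine ⟨κ v, ?_⟩
        rw [hNv, hNv, map_add, hadjT κ hκA]
      · intro i' hi'
        have : i' = i := hx.inj (hi'.trans hi.symm)
        subst this
        right
        refine ⟨h20, Or.inl ?_⟩
        rintro _ ⟨v, rfl⟩
        rw [hTM]
        refine ⟨T i' v, ?_⟩
        rw [hNv, hNv, map_add]
    · have hodd : ∀ i, r i ≠ 2 := by
        intro i hi
        by_cases h1 : p = 2
        · exact hp2 ⟨h1, i, hi⟩
        · exact hinv h1 i hi
      by_cases hU : ∃ U : Submodule F V, (∀ v ∈ U, Q v = 0) ∧ (∀ v ∈ U, κ v ∈ U) ∧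
          Module.finrank F U = 4
      · obtain ⟨U, h1, h3, h4⟩ := hU
        exact hD4p hG hE hρ hIH (p := p) hl hlin hx hcov hn κ s t hκ hirr hadj h2κ hcom U h1 h3 h4
          fun i hi => (hodd i hi).elim
      · push Not at hU
        exact hD4m hG hE hρ hIH (p := p) hl hlin hx hcov hn κ s t hκ hirr hadj h2κ hcom
          fun U h1 h3 => hU U h1 h3

end main

open Cfsg.Agent.H721.RC in
/-- **Box H** -/
theorem box_H_of (hB : BoxB) (hC : BoxC) (hD5 : BoxD5) (hD4m : BoxD4m) (hD4p : BoxD4p) : BoxH := by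
  intro p F V _ _ _ _ _ Q G Ω _ _ _ _ N ρ hG hE hρ hIH _ ι _ x M r hl hx hcov h8 heven T hTO hTM hTr hTc
  exact box_H_core hB hC hD5 hD4m hD4p hG hE hρ hIH hl hx hcov h8 heven T hTO hTM hTr hTc

end Cfsg.Agent.H93.RC
end
end
end
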